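import Cfsg.Agent.Lib.Classical.FiveMax.Plane
import Cfsg.Agent.Lib.Classical.KleinFive
import Cfsg.Prelude.Def_GeometricClasses

set_option autoImplicit false
set_option linter.unusedSectionVars false

/-!
The Klein map from `Sp_4` onto `Ω_5` for similitudes, and maximality transported along it.
-/

namespace CfsgLib.Orth.FiveMax

open Matrix
open CfsgLib.Classical

variable {F : Type*} [Field F]

local notation "Mat4" => Matrix (Fin 2 ⊕ Fin 2) (Fin 2 ⊕ Fin 2) F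
local notation "V5" => Unit ⊕ (Fin 2 ⊕ Fin 2) → F

/-- A symplectic similitude, read on the rows. -/
def Sim4 (A : Matrix (Fin 2 ⊕ Fin 2) (Fin 2 ⊕ Fin 2) F) (μ : F) : Prop :=
  μ ≠ 0 ∧ A * Matrix.J (Fin 2) F * Aᵀ = μ • Matrix.J (Fin 2) F

/-- The action on the five-space. -/
noncomputable def five (A : Matrix (Fin 2 ⊕ Fin 2) (Fin 2 ⊕ Fin 2) F) :
    Matrix (Unit ⊕ (Fin 2 ⊕ Fin 2)) (Unit ⊕ (Fin 2 ⊕ Fin 2)) F :=
  KleinFive.mat (Klein.comp (KleinFive.four A))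

theorem comp_smul (c : F) (A : Matrix (Fin 4) (Fin 4) F) :
    Klein.comp (c • A) = (c * c) • Klein.comp A := by
  ext s t
  simp [Klein.comp, Klein.wedge]
  ring

theorem four_smul (c : F) (A : Mat4) : KleinFive.four (c • A) = c • KleinFive.four A := rfl

theorem sim_mul {A B : Mat4} {μ ν : F} (hA : Sim4 A μ) (hB : Sim4 B ν) : Sim4 (A * B) (μ * ν) := by
  refine ⟨mul_ne_zero hA.1 hB.1, ?_⟩
  calc A * B * Matrix.J (Fin 2) F * (A * B)ᵀ = A * (B * Matrix.J (Fin 2) F * Bᵀ) * Aᵀ := by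
        rw [transpose_mul]; simp only [Matrix.mul_assoc]
    _ = _ := by rw [hB.2, Matrix.mul_smul, Matrix.smul_mul, hA.2, smul_smul, mul_comm]

theorem sim_scalar {c : F} (hc : c ≠ 0) : Sim4 (c • (1 : Mat4)) (c * c) := by
  refine ⟨mul_ne_zero hc hc, ?_⟩
  rw [transpose_smul, transpose_one, Matrix.smul_mul, Matrix.one_mul, Matrix.mul_smul,
    Matrix.mul_one, smul_smul]

theorem sim_of_symp {A : Mat4} (h : A ∈ Matrix.symplecticGroup (Fin 2) F) : Sim4 A 1 :=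
  ⟨one_ne_zero, by rw [one_smul]; exact SymplecticGroup.mem_iff.1 h⟩

theorem comp_w0_sim {A : Mat4} {μ : F} (hA : Sim4 A μ) :
    Klein.comp (KleinFive.four A) *ᵥ (KleinFive.w0 : Fin 3 ⊕ Fin 3 → F) = μ • KleinFive.w0 := by
  have h : ∀ a b, (A * Matrix.J (Fin 2) F * Aᵀ) a b = μ * Matrix.J (Fin 2) F a b := fun a b => by
    rw [hA.2]; rfl
  have h02 := h (.inl 0) (.inr 0)
  have h13 := h (.inl 1) (.inr 1)
  have h01 := h (.inl 0) (.inl 1)
  have h03 := h (.inl 0) (.inr 1)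
  have h23 := h (.inr 0) (.inr 1)
  have h12 := h (.inl 1) (.inr 0)
  simp [Matrix.mul_apply, Matrix.J, Fintype.sum_sum_type, Fin.sum_univ_two, Matrix.fromBlocks,
    Matrix.one_apply] at h02 h13 h01 h03 h23 h12
  funext s
  rcases s with s | s <;> fin_cases s <;>
    simp [Klein.comp, Klein.wedge, Klein.pr, KleinFive.w0, KleinFive.four, Matrix.mulVec, dotProduct,
      Fintype.sum_sum_type, Fin.sum_univ_three,
      show finSumFinEquiv.symm (0 : Fin (2 + 2)) = Sum.inl 0 by decide,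
      show finSumFinEquiv.symm (1 : Fin (2 + 2)) = Sum.inl 1 by decide,
      show finSumFinEquiv.symm (2 : Fin (2 + 2)) = Sum.inr 0 by decide,
      show finSumFinEquiv.symm (3 : Fin (2 + 2)) = Sum.inr 1 by decide] <;>
    first
    | linear_combination -h01
    | linear_combination -h02
    | linear_combination -h03
    | linear_combination -h23
    | linear_combination -h13
    | linear_combination -h12
    | linear_combination h01
    | linear_combination h02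
    | linear_combination h03
    | linear_combination h23
    | linear_combination h13
    | linear_combination h12

theorem det_four_sim {A : Mat4} {μ : F} (hA : Sim4 A μ) : (KleinFive.four A).det = μ * μ := by
  have h := Klein.comp_isometry (KleinFive.four A) (KleinFive.w0 (F := F))
  rw [comp_w0_sim hA] at h
  have e : ∀ c : F, Cfsg.quadFormPlus 3 F (c • KleinFive.w0 (F := F)) = -(c * c) := fun c => by
    simp [Cfsg.quadFormPlus, KleinFive.w0, Fin.sum_univ_three]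
  have e1 := e 1
  rw [one_smul, mul_one] at e1
  rw [e, e1] at h
  linear_combination h

theorem keeps_sim {A : Mat4} {μ : F} (hA : Sim4 A μ) (x : Fin 3 ⊕ Fin 3 → F) :
    (Klein.comp (KleinFive.four A) *ᵥ x) (.inr 1) - (Klein.comp (KleinFive.four A) *ᵥ x) (.inl 1) =
      μ * (x (.inr 1) - x (.inl 1)) := by
  have h := Klein.comp_isometry (KleinFive.four A) (x + KleinFive.w0)
  rw [Matrix.mulVec_add, comp_w0_sim hA, det_four_sim hA, KleinFive.q_polar] at h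
  have e : ∀ y : Fin 3 ⊕ Fin 3 → F, Cfsg.quadFormPlus 3 F (y + μ • KleinFive.w0) =
      Cfsg.quadFormPlus 3 F y + μ * (y (.inr 1) - y (.inl 1)) - μ * μ := fun y => by
    simp [Cfsg.quadFormPlus, KleinFive.w0, Fin.sum_univ_three]
    ring
  rw [e, Klein.comp_isometry, det_four_sim hA] at h
  exact mul_left_cancel₀ hA.1 (by linear_combination h)

theorem em_five {A : Mat4} {μ : F} (hA : Sim4 A μ) (v : V5) :
    KleinFive.em (five A *ᵥ v) = Klein.comp (KleinFive.four A) *ᵥ KleinFive.em v := by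
  rw [five, KleinFive.mat_mulVec]
  refine KleinFive.em_re ?_
  have h := keeps_sim hA (KleinFive.em v)
  have e : KleinFive.em v (.inr 1) = KleinFive.em v (.inl 1) := rfl
  rw [e, sub_self, mul_zero] at h
  exact sub_eq_zero.1 h

theorem five_mul (A : Mat4) {B : Mat4} {ν : F} (hB : Sim4 B ν) :
    five (A * B) = five A * five B := by
  refine Matrix.ext_of_mulVec_single fun t => ?_
  rw [← Matrix.mulVec_mulVec]
  conv_lhs => rw [five, KleinFive.mat_mulVec, KleinFive.four_mul, Klein.comp_mul, ← Matrix.mulVec_mulVec,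
    ← em_five hB, ← KleinFive.mat_mulVec]
  rfl

theorem five_scalar (c : F) : five (c • (1 : Mat4)) = (c * c) • 1 := by
  refine Matrix.ext_of_mulVec_single fun t => ?_
  rw [five, KleinFive.mat_mulVec, four_smul, KleinFive.four_one, comp_smul, Klein.comp_one,
    Matrix.smul_mulVec, Matrix.one_mulVec, Matrix.smul_mulVec, Matrix.one_mulVec]
  conv_rhs => rw [← KleinFive.re_em (Pi.single t (1 : F))]
  funext s
  rcases s with s | s | s
  · rfl
  all_goals fin_cases s <;> rfl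

theorem five_one : five (1 : Mat4) = 1 := by
  have := five_scalar (1 : F)
  rwa [one_smul, mul_one, one_smul] at this

theorem q_five {A : Mat4} {μ : F} (hA : Sim4 A μ) (v : V5) :
    Cfsg.quadFormOdd 2 F (five A *ᵥ v) = μ * μ * Cfsg.quadFormOdd 2 F v := by
  rw [← KleinFive.q_em, em_five hA, Klein.comp_isometry, det_four_sim hA, KleinFive.q_em]

/-- An isometry acting trivially on the five-space is a sign. -/
theorem eq_sign_of_five (h2 : (2 : F) ≠ 0) {A : Mat4} (hA : Sim4 A 1) (h : five A = 1) :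
    ∃ c : F, c * c = 1 ∧ A = c • (1 : Mat4) := by
  have hfix : ∀ x, Klein.comp (KleinFive.four A) *ᵥ x = x := fun x => by
    set c : F := (x (.inl 1) - x (.inr 1)) / 2 with hc
    have hp : (x - c • (KleinFive.w0 (F := F))) (.inr 1) = (x - c • (KleinFive.w0 (F := F))) (.inl 1) := by
      simp only [KleinFive.w0, Pi.sub_apply, Pi.smul_apply, Sum.elim_inl, Sum.elim_inr,
        Matrix.cons_val_one, Matrix.cons_val_zero, smul_eq_mul, hc]
      field_simp
      ring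
    have hy : Klein.comp (KleinFive.four A) *ᵥ (x - c • (KleinFive.w0 (F := F))) =
        x - c • (KleinFive.w0 (F := F)) := by
      rw [← KleinFive.em_re hp, ← em_five hA, h, Matrix.one_mulVec]
    rw [Matrix.mulVec_sub, Matrix.mulVec_smul, comp_w0_sim hA, one_smul] at hy
    exact sub_left_injective hy
  obtain ⟨c, hc, hg⟩ := Klein.ker_scalar (KleinFive.four A)
    (Matrix.ext_of_mulVec_single fun t => by rw [hfix, Matrix.one_mulVec])
  refine ⟨c, hc, ?_⟩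
  ext i j
  have := congrFun (congrFun hg (finSumFinEquiv i)) (finSumFinEquiv j)
  simpa [KleinFive.four, Matrix.one_apply] using this

/-! ### The homomorphism -/

/-- The homomorphism data. -/
structure KleinHom (Q : QuadraticForm F (Unit ⊕ (Fin 2 ⊕ Fin 2) → F)) : Type _ where
  hQ : ⇑Q = Cfsg.quadFormOdd 2 F
  nd : Nondeg Q
  two : (2 : F) ≠ 0
  φ : Cfsg.spGL 2 F →* Grp Q
  ap_φ : ∀ (g : Cfsg.spGL 2 F) (v : Unit ⊕ (Fin 2 ⊕ Fin 2) → F),
    ap (φ g) v = five ((g : GL (Fin 2 ⊕ Fin 2) F) : Matrix (Fin 2 ⊕ Fin 2) (Fin 2 ⊕ Fin 2) F) *ᵥ v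
  range_eq : φ.range = Cfsg.Omega F ⇑Q

theorem sim_spGL (g : Cfsg.spGL 2 F) : Sim4 ((g : GL (Fin 2 ⊕ Fin 2) F) : Mat4) 1 :=
  sim_of_symp (SympTrans.mem_iff_f.2 g.2)

theorem exists_kleinHom [Fintype F] (hodd : Odd (Fintype.card F)) :
    ∃ Q : QuadraticForm F (Unit ⊕ (Fin 2 ⊕ Fin 2) → F), Nonempty (KleinHom Q) := by
  classical
  have h3 : 3 ≤ Fintype.card F := by
    have := Fintype.one_lt_card (α := F)
    rw [Nat.odd_iff] at hodd; omega
  have h2 : (2 : F) ≠ 0 := by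
    refine Ring.two_ne_zero fun e => ?_
    have := FiniteField.even_card_of_char_two e
    rw [Nat.odd_iff] at hodd; omega
  obtain ⟨Q, hQ, hB⟩ := exists_quadForm_odd h2 2
  let M : Cfsg.spGL 2 F →*
      Matrix (Unit ⊕ (Fin 2 ⊕ Fin 2)) (Unit ⊕ (Fin 2 ⊕ Fin 2)) F :=
    { toFun := fun g => five ((g : GL (Fin 2 ⊕ Fin 2) F) : Mat4)
      map_one' := five_one
      map_mul' := fun a b => five_mul _ (sim_spGL b) }
  let φ : Cfsg.spGL 2 F →* Grp Q := M.toHomUnits.codRestrict _ fun g x _ => by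
    show Q (five ((g : GL (Fin 2 ⊕ Fin 2) F) : Mat4) *ᵥ x) = Q x
    rw [hQ, q_five (sim_spGL g), one_mul, one_mul]
  have hap : ∀ g v, ap (φ g) v = five ((g : GL (Fin 2 ⊕ Fin 2) F) : Mat4) *ᵥ v := fun g v => rfl
  refine ⟨Q, ⟨⟨hQ, hB, h2, φ, hap, ?_⟩⟩⟩
  have hperf : commutator (Matrix.symplecticGroup (Fin 2) F) = ⊤ :=
    SympTrans.commutator_of_card (Or.inr (Or.inl ⟨rfl, by rw [Nat.card_eq_fintype_card]; exact h3⟩))
  have hrange : φ.range ≤ Cfsg.Omega F ⇑Q := by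
    rintro _ ⟨g, rfl⟩
    obtain ⟨s, rfl⟩ := SympTrans.toSpGL_surjective g
    have hle : (φ.comp SympTrans.toSpGL).range ≤ Cfsg.Omega F ⇑Q := by
      rw [MonoidHom.range_eq_map, ← hperf]
      show _ ≤ commutator _
      rw [commutator_def, commutator_def, Subgroup.map_commutator]
      exact Subgroup.commutator_mono le_top le_top
    exact hle ⟨s, rfl⟩
  let f := φ.codRestrict (Cfsg.Omega F ⇑Q) fun g => hrange ⟨g, rfl⟩
  have hker : ∀ g ∈ f.ker, ∃ c : F, c * c = 1 ∧ ((g : GL (Fin 2 ⊕ Fin 2) F) : Mat4) = c • (1 : Mat4) :=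
    fun g hg => eq_sign_of_five h2 (sim_spGL g) (Matrix.ext_of_mulVec_single fun t => by
      have h1 : φ g = 1 := congrArg Subtype.val (MonoidHom.mem_ker.1 hg)
      rw [← hap, h1, ap_one, Matrix.one_mulVec])
  have hk : Nat.card f.ker ≤ 2 := by
    have hsub : Function.Injective (fun x : f.ker =>
        decide (((x.1 : GL (Fin 2 ⊕ Fin 2) F) : Mat4) = 1)) := fun a b hab => by
      obtain ⟨c, hc, ha⟩ := hker a.1 a.2
      obtain ⟨d, hd, hb⟩ := hker b.1 b.2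
      refine Subtype.ext (Subtype.ext (Units.ext ?_))
      simp only [decide_eq_decide] at hab
      have h11 : (-1 : F) ≠ 1 := fun e => h2 (by linear_combination -e)
      have hne : ((-1 : F) • (1 : Mat4)) ≠ 1 := fun e => h11 (by
        simpa using congrFun (congrFun e (.inl 0)) (.inl 0))
      rcases mul_self_eq_one_iff.1 hc with rfl | rfl <;> rcases mul_self_eq_one_iff.1 hd with rfl | rfl
      · rw [ha, hb]
      · exfalso; exact hne (hb ▸ hab.1 (by rw [ha, one_smul]))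
      · exfalso; exact hne (ha ▸ hab.2 (by rw [hb, one_smul]))
      · rw [ha, hb]
    exact (Nat.card_le_card_of_injective _ hsub).trans (by simp)
  have hsurj : Function.Surjective f := by
    refine surjective_of_count f (index_omega_odd hB h2 (by simp)) hk ?_
    have e1 : Nat.card (Cfsg.spGL 2 F) = Nat.card (Matrix.symplecticGroup (Fin 2) F) :=
      (Nat.card_congr (Equiv.ofBijective _ ⟨SympTrans.toSpGL_injective,
        SympTrans.toSpGL_surjective⟩)).symm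
    rw [e1, SympTrans.card_symplectic,
      show Nat.card ↥(Cfsg.isometryGroup F ⇑Q) = Nat.card (Grp Q) from rfl,
      card_orth_odd h2 2 hQ hB]
    ring
  refine le_antisymm hrange fun x hx => ?_
  obtain ⟨g, hg⟩ := hsurj ⟨x, hx⟩
  exact ⟨g, congrArg Subtype.val hg⟩

namespace KleinHom

variable {Q : QuadraticForm F (Unit ⊕ (Fin 2 ⊕ Fin 2) → F)} (K : KleinHom Q)

theorem rank : Module.finrank F (Unit ⊕ (Fin 2 ⊕ Fin 2) → F) = 5 := by simp

/-- Maximality along the Klein map. -/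
theorem isMaximalIn {H : Subgroup (GL (Fin 2 ⊕ Fin 2) F)} (H' : Subgroup (Grp Q))
    (hiff : ∀ g : Cfsg.spGL 2 F, (g : GL (Fin 2 ⊕ Fin 2) F) ∈ H ↔ K.φ g ∈ H')
    (hproper : ¬ Cfsg.Omega F ⇑Q ≤ H')
    (hkey : ∀ M : Subgroup (Grp Q), H' ⊓ Cfsg.Omega F ⇑Q ≤ M → M ≤ Cfsg.Omega F ⇑Q →
      M ≤ H' ∨ Cfsg.Omega F ⇑Q ≤ M) :
    Cfsg.Geo.IsMaximalIn (Cfsg.spGL 2 F) (H ⊓ Cfsg.spGL 2 F) := by
  refine ⟨lt_of_le_not_ge inf_le_right fun hle => hproper ?_, fun M hM hM' => ?_⟩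
  · rw [← K.range_eq]
    rintro _ ⟨g, rfl⟩
    exact (hiff g).1 (hle g.2).1
  let M' : Subgroup (Grp Q) := (M.comap (Cfsg.spGL 2 F).subtype).map K.φ
  have h1 : H' ⊓ Cfsg.Omega F ⇑Q ≤ M' := fun x hx => by
    obtain ⟨g, rfl⟩ : x ∈ K.φ.range := K.range_eq.symm ▸ hx.2
    exact ⟨g, hM ⟨(hiff g).2 hx.1, g.2⟩, rfl⟩
  have h2 : M' ≤ Cfsg.Omega F ⇑Q := by
    rw [← K.range_eq]
    rintro _ ⟨g, -, rfl⟩
    exact ⟨g, rfl⟩
  rcases hkey M' h1 h2 with h | h
  · exact Or.inl (le_antisymm (fun g hg => ⟨(hiff ⟨g, hM' hg⟩).2 (h ⟨⟨g, hM' hg⟩, hg, rfl⟩), hM' hg⟩) hM)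
  · refine Or.inr (le_antisymm hM' fun g hg => ?_)
    obtain ⟨x, hx⟩ : ∃ x : Cfsg.spGL 2 F, x = ⟨g, hg⟩ := ⟨_, rfl⟩
    have hmem : K.φ x ∈ Cfsg.Omega F ⇑Q := by rw [← K.range_eq]; exact ⟨x, rfl⟩
    obtain ⟨m, hm, hmg⟩ : ∃ m : Cfsg.spGL 2 F, (m : GL (Fin 2 ⊕ Fin 2) F) ∈ M ∧ K.φ m = K.φ x :=
      h hmem
    obtain ⟨y, hy⟩ : ∃ y : Cfsg.spGL 2 F, y = m⁻¹ * x := ⟨_, rfl⟩
    have h4 : K.φ y ∈ H' := by
      rw [hy, map_mul, map_inv, hmg, inv_mul_cancel]; exact H'.one_mem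
    have h5 : (y : GL (Fin 2 ⊕ Fin 2) F) ∈ M := hM ⟨(hiff y).2 h4, y.2⟩
    have h6 := M.mul_mem hm h5
    rw [← Subgroup.coe_mul, hy, mul_inv_cancel_left, hx] at h6
    exact h6

/-! ### Planes from skew roots of scalars -/

/-- The stabiliser of a plane as a subgroup. -/
def planeStab (W : Submodule F (Unit ⊕ (Fin 2 ⊕ Fin 2) → F)) : Subgroup (Grp Q) where
  carrier := {g | (∀ w ∈ W, ap g w ∈ W) ∧ ∀ w ∈ W, ap g⁻¹ w ∈ W}
  mul_mem' {a b} ha hb :=
    ⟨fun w hw => by rw [ap_mul]; exact ha.1 _ (hb.1 w hw),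
      fun w hw => by rw [_root_.mul_inv_rev, ap_mul]; exact hb.2 _ (ha.2 w hw)⟩
  one_mem' := ⟨fun w hw => by rwa [ap_one], fun w hw => by rwa [inv_one, ap_one]⟩
  inv_mem' {a} ha := ⟨ha.2, fun w hw => by rw [inv_inv]; exact ha.1 w hw⟩

theorem sim_of_skew {j : Matrix (Fin 2 ⊕ Fin 2) (Fin 2 ⊕ Fin 2) F} {d : F} (hd : d ≠ 0)
    (hsq : j * j = d • (1 : Matrix (Fin 2 ⊕ Fin 2) (Fin 2 ⊕ Fin 2) F))
    (hskew : ∀ x y, Cfsg.sympForm 2 F (j *ᵥ x) y = -Cfsg.sympForm 2 F x (j *ᵥ y)) :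
    Sim4 j (-d) ∧ j.trace + j.trace = 0 := by
  have e1 : jᵀ * Matrix.J (Fin 2) F = -(Matrix.J (Fin 2) F * j) := by
    ext a b
    have h := hskew (Pi.single a 1) (Pi.single b 1)
    rw [Cfsg.sympForm, Cfsg.sympForm, Matrix.mulVec_mulVec] at h
    rw [show j *ᵥ Pi.single a 1 = Pi.single a 1 ᵥ* jᵀ by rw [vecMul_transpose],
      ← Matrix.dotProduct_mulVec, Matrix.mulVec_mulVec] at h
    simpa using h
  have e2 : Matrix.J (Fin 2) F * jᵀ = -(j * Matrix.J (Fin 2) F) := by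
    have h := congrArg (fun X => Matrix.J (Fin 2) F * X * Matrix.J (Fin 2) F) e1
    simp only [Matrix.mul_neg, Matrix.neg_mul] at h
    rw [Matrix.mul_assoc (Matrix.J (Fin 2) F) (jᵀ * _), Matrix.mul_assoc jᵀ, Matrix.J_squared,
      ← Matrix.mul_assoc (Matrix.J (Fin 2) F) (Matrix.J (Fin 2) F), Matrix.J_squared] at h
    simp only [Matrix.mul_neg, Matrix.mul_one, Matrix.neg_mul, Matrix.one_mul, neg_neg] at h
    rw [← h, neg_neg]
  refine ⟨⟨neg_ne_zero.2 hd, ?_⟩, ?_⟩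
  · rw [Matrix.mul_assoc, e2, Matrix.mul_neg, ← Matrix.mul_assoc, hsq, Matrix.smul_mul,
      Matrix.one_mul, neg_smul]
  · have h := congrArg (fun X => (X * Matrix.J (Fin 2) F).trace) e1
    simp only [Matrix.neg_mul, Matrix.trace_neg] at h
    rw [Matrix.mul_assoc, Matrix.J_squared, Matrix.mul_neg, Matrix.mul_one, Matrix.trace_neg,
      Matrix.trace_transpose, Matrix.trace_mul_comm, ← Matrix.mul_assoc, Matrix.J_squared,
      Matrix.neg_mul, Matrix.one_mul, Matrix.trace_neg, neg_neg] at h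
    linear_combination -h

theorem trace_five {A : Matrix (Fin 2 ⊕ Fin 2) (Fin 2 ⊕ Fin 2) F} {μ : F} (hA : Sim4 A μ) :
    2 * (five A).trace + 2 * μ = A.trace * A.trace - (A * A).trace := by
  have h1 := congrFun (comp_w0_sim hA) (.inr 1)
  have hk := keeps_sim hA (KleinFive.em (Pi.single (Sum.inl ()) 1))
  have h02 : (A * Matrix.J (Fin 2) F * Aᵀ) (.inl 0) (.inr 0) =
      (μ • Matrix.J (Fin 2) F) (.inl 0) (.inr 0) := by rw [hA.2]
  have hs : ∀ s, five A s s = KleinFive.re (Klein.comp (KleinFive.four A) *ᵥ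
      KleinFive.em (Pi.single s 1)) s := fun s => by
    rw [← KleinFive.mat_mulVec, Matrix.mulVec_single_one]
    rfl
  simp only [Matrix.trace, Matrix.diag_apply, hs, Fintype.sum_sum_type, Fin.sum_univ_two,
    Finset.univ_unique, Finset.sum_singleton]
  simp [Klein.comp, Klein.wedge, Klein.pr, KleinFive.w0, KleinFive.em, KleinFive.re, KleinFive.four,
    Matrix.mulVec, dotProduct, Matrix.mul_apply, Fintype.sum_sum_type, Fin.sum_univ_three,
    show finSumFinEquiv.symm (0 : Fin (2 + 2)) = Sum.inl 0 by decide,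
    show finSumFinEquiv.symm (1 : Fin (2 + 2)) = Sum.inl 1 by decide,
    show finSumFinEquiv.symm (2 : Fin (2 + 2)) = Sum.inr 0 by decide,
    show finSumFinEquiv.symm (3 : Fin (2 + 2)) = Sum.inr 1 by decide] at h1 hk ⊢
  simp [Matrix.mul_apply, Matrix.J, Fintype.sum_sum_type, Fin.sum_univ_two, Matrix.fromBlocks, Matrix.one_apply] at h02
  linear_combination h1 - hk + h02

include K in
/-- Commutation on the five-space lifts up to a sign. -/
theorem comm_of_five {j : Matrix (Fin 2 ⊕ Fin 2) (Fin 2 ⊕ Fin 2) F} {d : F} (hd : d ≠ 0)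
    (hsq : j * j = d • (1 : Matrix (Fin 2 ⊕ Fin 2) (Fin 2 ⊕ Fin 2) F)) (hj : Sim4 j (-d))
    (g : Cfsg.spGL 2 F)
    (hcomm : five ((g : GL (Fin 2 ⊕ Fin 2) F) : Matrix (Fin 2 ⊕ Fin 2) (Fin 2 ⊕ Fin 2) F) * five j =
      five j * five ((g : GL (Fin 2 ⊕ Fin 2) F) : Matrix (Fin 2 ⊕ Fin 2) (Fin 2 ⊕ Fin 2) F)) :
    ((g : GL (Fin 2 ⊕ Fin 2) F) : Matrix (Fin 2 ⊕ Fin 2) (Fin 2 ⊕ Fin 2) F) * j =
        j * ((g : GL (Fin 2 ⊕ Fin 2) F) : Matrix (Fin 2 ⊕ Fin 2) (Fin 2 ⊕ Fin 2) F) ∨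
      ((g : GL (Fin 2 ⊕ Fin 2) F) : Matrix (Fin 2 ⊕ Fin 2) (Fin 2 ⊕ Fin 2) F) * j =
        -(j * ((g : GL (Fin 2 ⊕ Fin 2) F) : Matrix (Fin 2 ⊕ Fin 2) (Fin 2 ⊕ Fin 2) F)) := by
    have h2 := K.two
    have hσ2 : five j * five j = (d * d) • (1 : Matrix (Unit ⊕ (Fin 2 ⊕ Fin 2)) (Unit ⊕ (Fin 2 ⊕ Fin 2)) F) := by
      rw [← five_mul j hj, hsq, five_scalar]
    set A : Matrix (Fin 2 ⊕ Fin 2) (Fin 2 ⊕ Fin 2) F :=
      ((g : GL (Fin 2 ⊕ Fin 2) F) : Matrix (Fin 2 ⊕ Fin 2) (Fin 2 ⊕ Fin 2) F) with hAdef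
    -- lift through the map
    have hA := sim_spGL g
    have hAi : Sim4 (((g⁻¹ : Cfsg.spGL 2 F) : GL (Fin 2 ⊕ Fin 2) F) : Matrix _ _ F) 1 := sim_spGL g⁻¹
    set Ai : Matrix (Fin 2 ⊕ Fin 2) (Fin 2 ⊕ Fin 2) F :=
      (((g⁻¹ : Cfsg.spGL 2 F) : GL (Fin 2 ⊕ Fin 2) F) : Matrix (Fin 2 ⊕ Fin 2) (Fin 2 ⊕ Fin 2) F) with hAid
    have hAA : A * Ai = 1 := by rw [hAdef, hAid, ← Units.val_mul, Subgroup.coe_inv, mul_inv_cancel, Units.val_one]
    have hX : Sim4 ((A * j) * (Ai * (d⁻¹ • j))) 1 := by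
      have h1 := sim_mul (sim_mul hA hj) (sim_mul hAi (sim_mul (sim_scalar (inv_ne_zero hd)) hj))
      rw [Matrix.smul_mul, Matrix.one_mul] at h1
      convert h1 using 1
      field_simp
    have h5 : five ((A * j) * (Ai * (d⁻¹ • j))) = 1 := by
      have h1 : d⁻¹ • j = d⁻¹ • (1 : Matrix (Fin 2 ⊕ Fin 2) (Fin 2 ⊕ Fin 2) F) * j := by
        rw [Matrix.smul_mul, Matrix.one_mul]
      have hs : Sim4 (d⁻¹ • j) (-d⁻¹) := by
        have h3 := sim_mul (sim_scalar (inv_ne_zero hd)) hj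
        rw [← h1] at h3
        convert h3 using 1
        field_simp
      rw [five_mul _ (sim_mul hAi hs), five_mul A hj, five_mul Ai hs, h1,
        five_mul _ hj, five_scalar, Matrix.smul_mul, Matrix.one_mul, hcomm, Matrix.mul_smul,
        Matrix.mul_smul, Matrix.mul_assoc (five j), ← Matrix.mul_assoc (five A), ← five_mul A hAi, hAA,
        five_one, Matrix.one_mul, hσ2, smul_smul, show d⁻¹ * d⁻¹ * (d * d) = 1 by field_simp,
        one_smul]
    obtain ⟨c, hc, hcX⟩ := eq_sign_of_five h2 hX h5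
    have hAiA : Ai * A = 1 := by rw [hAdef, hAid, ← Units.val_mul, Subgroup.coe_inv, inv_mul_cancel, Units.val_one]
    have h7 : (A * j) * (Ai * (d⁻¹ • j)) * (j * A) = A * j := by
      rw [Matrix.mul_assoc (A * j), Matrix.mul_assoc Ai, ← Matrix.mul_assoc (d⁻¹ • j), Matrix.smul_mul,
        hsq, smul_smul, inv_mul_cancel₀ hd, one_smul, Matrix.one_mul, hAiA, Matrix.mul_one]
    rw [hcX, Matrix.smul_mul, Matrix.one_mul] at h7
    rcases mul_self_eq_one_iff.1 hc with rfl | rfl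
    · exact Or.inl (by rw [← h7, one_smul])
    · exact Or.inr (by rw [← h7, neg_one_smul])

include K in
/-- A root commuting up to a sign with everything is scalar. -/
theorem scalar_absurd {j : Matrix (Fin 2 ⊕ Fin 2) (Fin 2 ⊕ Fin 2) F}
    (hns : ∀ c : F, j ≠ c • (1 : Matrix (Fin 2 ⊕ Fin 2) (Fin 2 ⊕ Fin 2) F))
    (hall : ∀ g : Cfsg.spGL 2 F,
      ((g : GL (Fin 2 ⊕ Fin 2) F) : Matrix (Fin 2 ⊕ Fin 2) (Fin 2 ⊕ Fin 2) F) * j =
          j * ((g : GL (Fin 2 ⊕ Fin 2) F) : Matrix (Fin 2 ⊕ Fin 2) (Fin 2 ⊕ Fin 2) F) ∨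
        ((g : GL (Fin 2 ⊕ Fin 2) F) : Matrix (Fin 2 ⊕ Fin 2) (Fin 2 ⊕ Fin 2) F) * j =
          -(j * ((g : GL (Fin 2 ⊕ Fin 2) F) : Matrix (Fin 2 ⊕ Fin 2) (Fin 2 ⊕ Fin 2) F))) : False := by
  have h2 := K.two
  have hu : ∀ A : Matrix (Fin 2 ⊕ Fin 2) (Fin 2 ⊕ Fin 2) F, A ∈ Matrix.symplecticGroup (Fin 2) F →
      A * A * j = j * (A * A) := fun A hA => by
    have h := hall (SympTrans.toSpGL ⟨A, hA⟩)
    rw [SympTrans.toSpGL_coe] at h
    rcases h with h | h
    · rw [Matrix.mul_assoc, h, ← Matrix.mul_assoc, h, Matrix.mul_assoc]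
    · rw [Matrix.mul_assoc, h, Matrix.mul_neg, ← Matrix.mul_assoc, h, Matrix.neg_mul, neg_neg,
        Matrix.mul_assoc]
  have hB : ∀ B : Matrix (Fin 2) (Fin 2) F, B.IsSymm →
      Matrix.fromBlocks (0 : Matrix (Fin 2) (Fin 2) F) B 0 0 * j = j * Matrix.fromBlocks 0 B 0 0 ∧
      Matrix.fromBlocks (0 : Matrix (Fin 2) (Fin 2) F) 0 B 0 * j = j * Matrix.fromBlocks 0 0 B 0 :=
    fun B hB => by
    obtain ⟨C, hC⟩ : ∃ C, C = (2 : F)⁻¹ • B := ⟨_, rfl⟩
    have hCs : Cᵀ = C := by rw [hC, Matrix.transpose_smul, hB.eq]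
    have hCC : C + C = B := by rw [hC, ← two_smul F, smul_smul, mul_inv_cancel₀ h2, one_smul]
    have m1 : Matrix.fromBlocks (1 : Matrix (Fin 2) (Fin 2) F) C 0 1 ∈
        Matrix.symplecticGroup (Fin 2) F := by
      rw [SymplecticGroup.mem_iff, Matrix.J, Matrix.fromBlocks_transpose, Matrix.fromBlocks_multiply,
        Matrix.fromBlocks_multiply]
      simp [hCs]
    have m2 : Matrix.fromBlocks (1 : Matrix (Fin 2) (Fin 2) F) 0 C 1 ∈
        Matrix.symplecticGroup (Fin 2) F := by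
      rw [SymplecticGroup.mem_iff, Matrix.J, Matrix.fromBlocks_transpose, Matrix.fromBlocks_multiply,
        Matrix.fromBlocks_multiply]
      simp [hCs]
    have q1 := hu _ m1
    have q2 := hu _ m2
    have s1 : Matrix.fromBlocks (1 : Matrix (Fin 2) (Fin 2) F) B (0 : Matrix (Fin 2) (Fin 2) F) (1 : Matrix (Fin 2) (Fin 2) F) =
        1 + Matrix.fromBlocks 0 B 0 0 := by
      rw [← Matrix.fromBlocks_one, Matrix.fromBlocks_add]; simp
    have s2 : Matrix.fromBlocks (1 : Matrix (Fin 2) (Fin 2) F) (0 : Matrix (Fin 2) (Fin 2) F) B (1 : Matrix (Fin 2) (Fin 2) F) =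
        1 + Matrix.fromBlocks 0 0 B 0 := by
      rw [← Matrix.fromBlocks_one, Matrix.fromBlocks_add]; simp
    rw [Matrix.fromBlocks_multiply] at q1 q2
    simp only [Matrix.mul_one, Matrix.one_mul, Matrix.mul_zero, Matrix.zero_mul, add_zero, zero_add,
      hCC] at q1 q2
    rw [s1, Matrix.add_mul, Matrix.mul_add, Matrix.one_mul, Matrix.mul_one] at q1
    rw [s2, Matrix.add_mul, Matrix.mul_add, Matrix.one_mul, Matrix.mul_one] at q2
    exact ⟨add_left_cancel q1, add_left_cancel q2⟩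
  obtain ⟨P, Q', R, S, rfl⟩ : ∃ P Q' R S, j = Matrix.fromBlocks P Q' R S :=
    ⟨_, _, _, _, (Matrix.fromBlocks_toBlocks j).symm⟩
  have hsymm : ∀ B : Matrix (Fin 2) (Fin 2) F, B.IsSymm → B * R = 0 ∧ B * S = P * B ∧ Q' * B = 0 :=
    fun B hBs => by
    obtain ⟨e1, e2⟩ := hB B hBs
    rw [Matrix.fromBlocks_multiply, Matrix.fromBlocks_multiply] at e1 e2
    simp only [Matrix.mul_zero, Matrix.zero_mul, add_zero, zero_add, Matrix.fromBlocks_inj] at e1 e2
    exact ⟨e1.1, e1.2.1, e2.1.symm⟩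
  obtain ⟨hR, hS, hQ'⟩ := hsymm (1 : Matrix (Fin 2) (Fin 2) F) Matrix.transpose_one
  simp only [Matrix.one_mul, Matrix.mul_one] at hR hS hQ'
  have a1 := (hsymm (Matrix.diagonal ![1, 0]) (Matrix.diagonal_transpose _)).2.1
  have a2 := (hsymm !![0, 1; 1, 0] (by ext i k; fin_cases i <;> fin_cases k <;> rfl)).2.1
  subst hS
  have f1 := congrFun (congrFun a1 0) 1
  have f2 := congrFun (congrFun a1 1) 0
  have f3 := congrFun (congrFun a2 0) 1
  simp [Matrix.mul_apply, Fin.sum_univ_two, Matrix.diagonal] at f1 f2 f3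
  have hSd : S = S 0 0 • (1 : Matrix (Fin 2) (Fin 2) F) := by
    ext i k
    fin_cases i <;> fin_cases k <;> simp [f1, f2.symm, f3]
  refine hns (S 0 0) ?_
  rw [hR, hQ', ← Matrix.fromBlocks_one, Matrix.fromBlocks_smul, smul_zero, ← hSd]


/-- The plane of a skew root of a non-zero scalar, and who stabilises it. -/
theorem exists_plane [Finite F] {j : Matrix (Fin 2 ⊕ Fin 2) (Fin 2 ⊕ Fin 2) F} {d : F} (hd : d ≠ 0)
    (hsq : j * j = d • (1 : Matrix (Fin 2 ⊕ Fin 2) (Fin 2 ⊕ Fin 2) F))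
    (hskew : ∀ x y, Cfsg.sympForm 2 F (j *ᵥ x) y = -Cfsg.sympForm 2 F x (j *ᵥ y))
    (hns : ∀ c : F, j ≠ c • (1 : Matrix (Fin 2 ⊕ Fin 2) (Fin 2 ⊕ Fin 2) F)) :
    ∃ W : Submodule F (Unit ⊕ (Fin 2 ⊕ Fin 2) → F), NondegOn Q W ∧ Module.finrank F W = 2 ∧
      ∀ g : Cfsg.spGL 2 F, (∀ w ∈ W, ap (K.φ g) w ∈ W) ↔
        (((g : GL (Fin 2 ⊕ Fin 2) F) : Matrix (Fin 2 ⊕ Fin 2) (Fin 2 ⊕ Fin 2) F) * j =
          j * ((g : GL (Fin 2 ⊕ Fin 2) F) : Matrix (Fin 2 ⊕ Fin 2) (Fin 2 ⊕ Fin 2) F) ∨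
         ((g : GL (Fin 2 ⊕ Fin 2) F) : Matrix (Fin 2 ⊕ Fin 2) (Fin 2 ⊕ Fin 2) F) * j =
          -(j * ((g : GL (Fin 2 ⊕ Fin 2) F) : Matrix (Fin 2 ⊕ Fin 2) (Fin 2 ⊕ Fin 2) F))) := by
  classical
  obtain ⟨hj, htr⟩ := sim_of_skew hd hsq hskew
  have h2 := K.two
  obtain ⟨σ, hσ⟩ : ∃ σ, σ = five j := ⟨_, rfl⟩
  have hσ2 : σ * σ = (d * d) • (1 : Matrix (Unit ⊕ (Fin 2 ⊕ Fin 2)) (Unit ⊕ (Fin 2 ⊕ Fin 2)) F) := by
    rw [hσ, ← five_mul j hj, hsq, five_scalar]
  have hσσ : ∀ x, σ *ᵥ (σ *ᵥ x) = (d * d) • x := fun x => by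
    rw [Matrix.mulVec_mulVec, hσ2, Matrix.smul_mulVec, Matrix.one_mulVec]
  have htr5 : σ.trace = -d := by
    have h1 := trace_five hj
    have htr0 : j.trace = 0 :=
      (mul_eq_zero.1 (show (2 : F) * j.trace = 0 by linear_combination htr)).resolve_left h2
    rw [htr0, hsq, Matrix.trace_smul, Matrix.trace_one, Fintype.card_sum, Fintype.card_fin,
      smul_eq_mul] at h1
    rw [hσ]
    refine mul_left_cancel₀ h2 ?_
    push_cast at h1
    linear_combination h1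
  have hqσ : ∀ x, Q (σ *ᵥ x) = d * d * Q x := fun x => by
    rw [hσ, K.hQ, q_five hj, neg_mul_neg]
  have hbσ : ∀ x y, QuadraticMap.polar (⇑Q) (σ *ᵥ x) (σ *ᵥ y) =
      d * d * QuadraticMap.polar (⇑Q) x y := fun x y => by
    unfold QuadraticMap.polar
    rw [← Matrix.mulVec_add, hqσ, hqσ, hqσ]
    ring
  let W : Submodule F (Unit ⊕ (Fin 2 ⊕ Fin 2) → F) :=
    LinearMap.ker (Matrix.mulVecLin σ - d • LinearMap.id)
  have hW : ∀ x, x ∈ W ↔ σ *ᵥ x = d • x := fun x => by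
    simp [W, LinearMap.mem_ker, sub_eq_zero]
  have hdec : ∀ x, (2 * d)⁻¹ • (σ *ᵥ x + d • x) ∈ W := fun x => by
    rw [hW, Matrix.mulVec_smul, Matrix.mulVec_add, hσσ, Matrix.mulVec_smul]
    module
  have hdd : (2 * d : F) ≠ 0 := mul_ne_zero h2 hd
  have hnd : NondegOn Q W := by
    intro x hx hxy
    refine K.nd x fun y => ?_
    obtain ⟨w, hw⟩ : ∃ w, w = y - (2 * d)⁻¹ • (σ *ᵥ y + d • y) := ⟨_, rfl⟩
    have hσw : σ *ᵥ w = (-d) • w := by
      rw [hw, Matrix.mulVec_sub, (hW _).1 (hdec y), smul_sub (-d), smul_smul, smul_smul]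
      match_scalars <;> field_simp <;> ring
    have h0 : QuadraticMap.polar (⇑Q) x w = 0 := by
      have h1 := hbσ x w
      rw [(hW x).1 hx, hσw, b_smul_left, b_smul_right] at h1
      exact (mul_eq_zero.1 (show (2 * (d * d)) * QuadraticMap.polar (⇑Q) x w = 0 by
        linear_combination -h1)).resolve_left (mul_ne_zero h2 (mul_ne_zero hd hd))
    have h1 := hxy _ (hdec y)
    rw [hw, b_sub_right, h1, sub_zero] at h0
    exact h0
  -- the dimension by the trace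
  have hWtop : W ≠ ⊤ := fun e => by
    have hall : ∀ x, σ *ᵥ x = d • x := fun x => (hW x).1 (e ▸ Submodule.mem_top)
    have hσd : σ = d • 1 := Matrix.ext_of_mulVec_single fun t => by
      rw [hall, Matrix.smul_mulVec, Matrix.one_mulVec]
    exact scalar_absurd K hns fun g => comm_of_five K hd hsq hj g (by
      rw [← hσ, hσd, Matrix.mul_smul, Matrix.smul_mul, Matrix.mul_one, Matrix.one_mul])
  have hdim : Module.finrank F W = 2 := by
    let e : (Unit ⊕ (Fin 2 ⊕ Fin 2) → F) →ₗ[F] (Unit ⊕ (Fin 2 ⊕ Fin 2) → F) :=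
      (2 * d)⁻¹ • (Matrix.mulVecLin σ + d • LinearMap.id)
    have he : LinearMap.IsProj W e := by
      refine ⟨fun x => by simpa [e] using hdec x, fun x hx => ?_⟩
      simp [e, (hW x).1 hx]
      match_scalars
      field_simp
      ring
    have ht := he.trace
    rw [map_smul, map_add, map_smul, ← Matrix.toLin'_apply', Matrix.trace_toLin'_eq, htr5,
      LinearMap.trace_id, rank, smul_eq_mul, smul_eq_mul] at ht
    have hlt : Module.finrank F W < 5 := by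
      have := Submodule.finrank_lt hWtop
      rwa [rank] at this
    have h6 : ((Module.finrank F W : F) - 2) = 0 := by
      rw [← ht]
      push_cast
      field_simp
      ring
    interval_cases hk : Module.finrank F W
    all_goals push_cast at h6
    · exact absurd (show (2 : F) = 0 by linear_combination -h6) h2
    · exact absurd (show (1 : F) = 0 by linear_combination -h6) one_ne_zero
    · rfl
    · exact absurd (show (1 : F) = 0 by linear_combination h6) one_ne_zero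
    · exact absurd (show (2 : F) = 0 by linear_combination h6) h2
  refine ⟨W, hnd, hdim, fun g => ?_⟩
  set A : Matrix (Fin 2 ⊕ Fin 2) (Fin 2 ⊕ Fin 2) F :=
    ((g : GL (Fin 2 ⊕ Fin 2) F) : Matrix (Fin 2 ⊕ Fin 2) (Fin 2 ⊕ Fin 2) F) with hAdef
  constructor
  · intro hst
    -- a stabiliser of the plane commutes with the involution
    have hcomm : five A * σ = σ * five A := by
      refine Matrix.ext_of_mulVec_single fun t => ?_
      generalize (Pi.single t 1 : Unit ⊕ (Fin 2 ⊕ Fin 2) → F) = x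
      obtain ⟨w, hw, z, hz, rfl⟩ := exists_decomp K.nd hnd x
      have hneg : ∀ z ∈ orth Q W, σ *ᵥ z = (-d) • z := fun z hz => by
        obtain ⟨u, hu⟩ : ∃ u, u = (2 * d)⁻¹ • (σ *ᵥ z + d • z) := ⟨_, rfl⟩
        have huW : u ∈ W := hu ▸ hdec z
        have hu0 : u = 0 := hnd u huW fun y hy => by
          have h1 := hbσ z y
          rw [(hW y).1 hy, b_smul_right] at h1
          have h3 : QuadraticMap.polar (⇑Q) z y = 0 := by rw [b_comm]; exact orth_b hz hy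
          rw [h3, mul_zero] at h1
          rw [hu, b_smul_left, b_add_left, b_smul_left, h3, (mul_eq_zero.1 h1).resolve_left hd]
          ring
        rw [hu] at hu0
        have h1 := (smul_eq_zero.1 hu0).resolve_left (inv_ne_zero hdd)
        rw [add_eq_zero_iff_eq_neg] at h1
        rw [h1, neg_smul]
      have hgz : ap (K.φ g) z ∈ orth Q W := mem_orth.2 fun y hy => by
        have hsurj : ∃ y' ∈ W, ap (K.φ g) y' = y := by
          let f : W →ₗ[F] W :=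
            { toFun := fun v => ⟨ap (K.φ g) v, hst v v.2⟩
              map_add' := fun a b => Subtype.ext (ap_add _ _ _)
              map_smul' := fun c a => Subtype.ext (ap_smul _ _ _) }
          obtain ⟨y', hy'⟩ := LinearMap.surjective_of_injective (f := f)
            (fun a b e => Subtype.ext (ap_inj _ (congrArg Subtype.val e))) ⟨y, hy⟩
          exact ⟨y', y'.2, congrArg Subtype.val hy'⟩
        obtain ⟨y', hy', rfl⟩ := hsurj
        rw [ap_b]
        exact orth_b hz hy'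
      have hgw := hst w hw
      rw [← Matrix.mulVec_mulVec, ← Matrix.mulVec_mulVec, Matrix.mulVec_add σ, Matrix.mulVec_add,
        (hW w).1 hw, hneg z hz, Matrix.mulVec_add (five A), Matrix.mulVec_smul, Matrix.mulVec_smul,
        Matrix.mulVec_add σ, ← K.ap_φ g w, ← K.ap_φ g z, (hW _).1 hgw, hneg _ hgz]
    exact comm_of_five K hd hsq hj g (hσ ▸ hcomm)
  · intro h w hw
    have h5 : five A * σ = σ * five A := by
      rcases h with h | h
      · rw [hσ, ← five_mul A hj, h, five_mul j (sim_spGL g)]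
      · rw [hσ, ← five_mul A hj, h, ← neg_one_smul F (j * A),
          show (-1 : F) • (j * A) = ((-1 : F) • (1 : Matrix (Fin 2 ⊕ Fin 2) (Fin 2 ⊕ Fin 2) F)) * (j * A) by
            rw [Matrix.smul_mul, Matrix.one_mul],
          five_mul _ (sim_mul hj (sim_spGL g)), five_scalar, neg_mul_neg, one_mul, one_smul,
          Matrix.one_mul, five_mul j (sim_spGL g)]
    rw [hW, K.ap_φ, Matrix.mulVec_mulVec, ← h5, ← Matrix.mulVec_mulVec, (hW w).1 hw, Matrix.mulVec_smul]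

include K in
/-- The centraliser up to sign of a skew root of a scalar is maximal. -/
theorem root_isMaximalIn [Fintype F] (hq : 5 ≤ Fintype.card F)
    {j : Matrix (Fin 2 ⊕ Fin 2) (Fin 2 ⊕ Fin 2) F} {d : F} (hd : d ≠ 0)
    (hsq : j * j = d • (1 : Matrix (Fin 2 ⊕ Fin 2) (Fin 2 ⊕ Fin 2) F))
    (hskew : ∀ x y, Cfsg.sympForm 2 F (j *ᵥ x) y = -Cfsg.sympForm 2 F x (j *ᵥ y))
    (hns : ∀ c : F, j ≠ c • (1 : Matrix (Fin 2 ⊕ Fin 2) (Fin 2 ⊕ Fin 2) F))
    {H : Subgroup (GL (Fin 2 ⊕ Fin 2) F)}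
    (hH : ∀ g : Cfsg.spGL 2 F, (g : GL (Fin 2 ⊕ Fin 2) F) ∈ H ↔
      (((g : GL (Fin 2 ⊕ Fin 2) F) : Matrix (Fin 2 ⊕ Fin 2) (Fin 2 ⊕ Fin 2) F) * j =
          j * ((g : GL (Fin 2 ⊕ Fin 2) F) : Matrix (Fin 2 ⊕ Fin 2) (Fin 2 ⊕ Fin 2) F) ∨
        ((g : GL (Fin 2 ⊕ Fin 2) F) : Matrix (Fin 2 ⊕ Fin 2) (Fin 2 ⊕ Fin 2) F) * j =
          -(j * ((g : GL (Fin 2 ⊕ Fin 2) F) : Matrix (Fin 2 ⊕ Fin 2) (Fin 2 ⊕ Fin 2) F)))) :
    Cfsg.Geo.IsMaximalIn (Cfsg.spGL 2 F) (H ⊓ Cfsg.spGL 2 F) := by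
  obtain ⟨W, hW, hW2, hiff⟩ := K.exists_plane hd hsq hskew hns
  have hboth : ∀ g : Cfsg.spGL 2 F, K.φ g ∈ planeStab W ↔ ∀ w ∈ W, ap (K.φ g) w ∈ W := by
    refine fun g => ⟨fun h => h.1, fun h => ⟨h, fun w hw => ?_⟩⟩
    let f : W →ₗ[F] W :=
      { toFun := fun v => ⟨ap (K.φ g) v, h v v.2⟩
        map_add' := fun a b => Subtype.ext (ap_add _ _ _)
        map_smul' := fun c a => Subtype.ext (ap_smul _ _ _) }
    obtain ⟨y, hy⟩ := LinearMap.surjective_of_injective (f := f)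
      (fun a b e => Subtype.ext (ap_inj _ (congrArg Subtype.val e))) ⟨w, hw⟩
    rw [show w = ap (K.φ g) y from (congrArg Subtype.val hy).symm, ap_inv_ap]
    exact y.2
  refine K.isMaximalIn (planeStab W) (fun g => (hH g).trans ((hiff g).symm.trans (hboth g).symm))
    (fun hle => K.scalar_absurd hns fun g => (hiff g).1 ((hboth g).1 (hle ?_)))
    fun M hM hMO => ?_
  · rw [← K.range_eq]; exact ⟨g, rfl⟩
  rcases plane_stab_or_omega K.nd K.two rank (by rwa [Nat.card_eq_fintype_card]) hW hW2 (M := M)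
      (fun g hg hgs => hM ⟨by
        obtain ⟨g', rfl⟩ : g ∈ K.φ.range := K.range_eq.symm ▸ hg
        exact (hboth g').2 hgs, hg⟩) with h | h
  · exact Or.inl fun x hx => ⟨h x hx, h x⁻¹ (M.inv_mem hx)⟩
  · exact Or.inr h

end KleinHom

end CfsgLib.Orth.FiveMax
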