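import Cfsg.Agent.Lib.Classical.OrthDecompMax.Spread

set_option autoImplicit false
set_option linter.unusedSectionVars false

/-!
Tools for maximal subgroups of `Ω` in odd dimension five and six: reflections of one norm generate,
minus the identity is a reflection modulo `Ω` in odd dimension, and elementary facts on norms in small
non-degenerate subspaces.
-/

namespace CfsgLib.Orth.FiveMax

open Matrix
open scoped commutatorElement

variable {F : Type*} [Field F] [Finite F] {ι : Type} [Fintype ι] [DecidableEq ι]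
variable {Q : QuadraticForm F (ι → F)}

local notation "B" => QuadraticMap.polar (DFunLike.coe Q)

/-- A field element avoiding finitely many others. -/
theorem exists_avoid (s : Finset F) (h : s.card < Nat.card F) : ∃ t : F, t ∉ s := by
  classical
  cases nonempty_fintype F
  obtain ⟨t, -, ht⟩ := Finset.exists_mem_notMem_of_card_lt_card (t := (Finset.univ : Finset F)) (s := s)
    (by rwa [Finset.card_univ, ← Nat.card_eq_fintype_card])
  exact ⟨t, ht⟩

theorem sq_of_nonsq {a b c : F} (h2 : (2 : F) ≠ 0) (hab : ¬ IsSquare (a * b)) :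
    IsSquare (c * a) ∨ IsSquare (c * b) := by
  classical
  cases nonempty_fintype F
  have hch : ringChar F ≠ 2 := fun e => h2 (by
    have := CharP.cast_eq_zero F (ringChar F)
    rwa [e, Nat.cast_ofNat] at this)
  by_contra hc
  push Not at hc
  rw [← quadraticChar_neg_one_iff_not_isSquare, ← quadraticChar_neg_one_iff_not_isSquare] at hc
  rw [← quadraticChar_neg_one_iff_not_isSquare, map_mul] at hab
  have h1 := hc.1
  have h2' := hc.2
  rw [map_mul] at h1 h2'
  have hsq : quadraticChar F c ^ 2 = 1 := quadraticChar_sq_one fun e => by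
    rw [e, quadraticChar_zero, zero_mul] at h1
    exact absurd h1 (by decide)
  have : quadraticChar F a * quadraticChar F b = 1 := by
    linear_combination (quadraticChar F c * quadraticChar F b) * h1 - h2'
      - (quadraticChar F a * quadraticChar F b) * hsq
  rw [this] at hab
  exact absurd hab (by decide)

/-! ### Small subspaces -/

theorem univ_of_nondeg {R : Submodule F (ι → F)} (hR : NondegOn Q R)
    (hd : 2 ≤ Module.finrank F R) : Univ Q R :=
  univ_of_dim (by
    rw [(Submodule.eq_bot_iff (R ⊓ orth Q R)).2 fun x hx => nondeg_inf hR hx.1 hx.2, finrank_bot]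
    omega)

theorem nondegOn_span_aniso (h2 : (2 : F) ≠ 0) {v : ι → F} (hv : Q v ≠ 0) :
    NondegOn Q (Submodule.span F {v}) := by
  intro x hx h
  obtain ⟨k, rfl⟩ := Submodule.mem_span_singleton.1 hx
  have h1 := h v (Submodule.mem_span_singleton_self v)
  rw [b_smul_left, b_self] at h1
  rw [(mul_eq_zero.1 h1).resolve_right (mul_ne_zero h2 hv), zero_smul]

theorem nondegOn_relOrth (h2 : (2 : F) ≠ 0) {U : Submodule F (ι → F)} (hU : NondegOn Q U)
    {v : ι → F} (hvU : v ∈ U) (hv : Q v ≠ 0) :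
    NondegOn Q (relOrth Q U (Submodule.span F {v})) := by
  intro x hx h
  refine hU x hx.1 fun y hy => ?_
  have hvx : B v x = 0 := hx.2 v (Submodule.mem_span_singleton_self v)
  obtain ⟨k, hk⟩ : ∃ k, k = B v y / (2 * Q v) := ⟨_, rfl⟩
  have hy' : y - k • v ∈ relOrth Q U (Submodule.span F {v}) :=
    ⟨U.sub_mem hy (U.smul_mem _ hvU), mem_orth_span.2 (by
      rintro s rfl
      rw [b_sub_right, b_smul_right, b_self, hk, div_mul_cancel₀ _ (mul_ne_zero h2 hv), sub_self])⟩
  have h1 := h _ hy'
  rwa [b_sub_right, b_smul_right, b_comm x v, hvx, mul_zero, sub_zero] at h1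

/-- Prescribed norm and product with an anisotropic vector. -/
theorem exists_b_q (hB : Nondeg Q) (h2 : (2 : F) ≠ 0) {U : Submodule F (ι → F)} (hU : NondegOn Q U)
    (h3 : 3 ≤ Module.finrank F U) {v : ι → F} (hvU : v ∈ U) (hv : Q v ≠ 0) (k N : F) :
    ∃ z ∈ U, B v z = k ∧ Q z = N := by
  obtain ⟨d, hd⟩ : ∃ d, d = k / (2 * Q v) := ⟨_, rfl⟩
  have hk : d * (2 * Q v) = k := by rw [hd, div_mul_cancel₀ _ (mul_ne_zero h2 hv)]
  obtain ⟨z, hz, hzq⟩ : ∃ z ∈ relOrth Q U (Submodule.span F {v}), Q z = N - d * d * Q v := by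
    by_cases h0 : N - d * d * Q v = 0
    · exact ⟨0, zero_mem _, by rw [QuadraticMap.map_zero, h0]⟩
    have h4 := finrank_relOrth hB U (Submodule.span F {v})
    rw [finrank_span_singleton (fun e => hv (by rw [e, QuadraticMap.map_zero]))] at h4
    exact univ_of_nondeg (nondegOn_relOrth h2 hU hvU hv) (by omega) _ h0
  have hvz : B v z = 0 := hz.2 v (Submodule.mem_span_singleton_self v)
  refine ⟨d • v + z, U.add_mem (U.smul_mem _ hvU) hz.1, ?_, ?_⟩
  · rw [b_add_right, b_smul_right, b_self, hvz, add_zero, hk]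
  · rw [q_add, q_smul, b_smul_left, hvz, mul_zero, add_zero, hzq]
    ring

/-- Prescribed norm and non-zero product with a singular vector. -/
theorem exists_b_q_singular (hB : Nondeg Q) {U : Submodule F (ι → F)} (hU : NondegOn Q U)
    {v : ι → F} (hvU : v ∈ U) (hv0 : v ≠ 0) (hv : Q v = 0) {k : F} (hk : k ≠ 0) (N : F) :
    ∃ z ∈ U, B v z = k ∧ Q z = N := by
  obtain ⟨f, hf, hfq, hvf⟩ := exists_partner_in hB hU (P := ⊥) bot_le (s := v)
    ⟨hvU, fun p hp => by rw [(Submodule.mem_bot F).1 hp]; exact b_zero_left v⟩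
    (fun h => hv0 ((Submodule.mem_bot F).1 h)) hv
  refine ⟨k • f + (N / k) • v, U.add_mem (U.smul_mem _ hf.1) (U.smul_mem _ hvU), ?_, ?_⟩
  · rw [b_add_right, b_smul_right, b_smul_right, hvf, b_self_zero hv, mul_one, mul_zero, add_zero]
  · rw [q_add, q_smul, q_smul, hfq, hv, b_smul_left, b_smul_right, b_comm f v, hvf, mul_one,
      mul_zero, mul_zero, zero_add, zero_add, mul_div_cancel₀ _ hk]

/-! ### Reflections modulo `Ω` -/

/-- In odd dimension minus the identity is a reflection modulo `Ω`. -/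
theorem exists_class (hB : Nondeg Q) (h2 : (2 : F) ≠ 0) (hn : 5 ≤ Module.finrank F (ι → F))
    (hodd : Odd (Module.finrank F (ι → F))) {z : Grp Q} (hz : ∀ x, ap z x = -x) :
    ∃ c : F, c ≠ 0 ∧ ∀ x r, IsRefl x r → IsSquare (c * Q x) → z * r ∈ Cfsg.Omega F ⇑Q := by
  classical
  let K := Cfsg.Omega F ⇑Q
  have key : ∀ g : Grp Q, ((g : Grp Q ⧸ K) = 1) ∨ (∃ (v : ι → F) (r : Grp Q), IsRefl v r ∧ (g : Grp Q ⧸ K) = (r : Grp Q ⧸ K)) ∨
      ∃ (v : ι → F) (r : Grp Q) (w : ι → F) (s : Grp Q), IsRefl v r ∧ IsRefl w s ∧ ¬ IsSquare (Q v * Q w) ∧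
        (g : Grp Q ⧸ K) = ((r * s : Grp Q) : Grp Q ⧸ K) := by
    intro g
    have hg : g ∈ Refl Q := by rw [refl_eq_top hB (by omega)]; trivial
    induction hg using Subgroup.closure_induction_left with
    | one => exact Or.inl (QuotientGroup.mk_one _)
    | mul_left t ht y _ ih =>
      obtain ⟨u, ht⟩ := ht
      rcases ih with h | ⟨v, r, hr, h⟩ | ⟨v, r, w, s, hr, hs, hns, h⟩
      · exact Or.inr (Or.inl ⟨u, t, ht, by rw [QuotientGroup.mk_mul, h, mul_one]⟩)
      · by_cases hsq : IsSquare (Q u * Q v)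
        · refine Or.inl ?_
          rw [QuotientGroup.mk_mul, h, refl_coset hB hn ht hr hsq, ← QuotientGroup.mk_mul,
            refl_mul_self hr, QuotientGroup.mk_one]
        · exact Or.inr (Or.inr ⟨u, t, v, r, ht, hr, hsq, by
            rw [QuotientGroup.mk_mul, h, ← QuotientGroup.mk_mul]⟩)
      · refine Or.inr (Or.inl ?_)
        rcases sq_of_nonsq (c := Q u) h2 hns with hsq | hsq
        · refine ⟨w, s, hs, ?_⟩
          rw [QuotientGroup.mk_mul, h, refl_coset hB hn ht hr hsq, ← QuotientGroup.mk_mul,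
            ← mul_assoc, refl_mul_self hr, one_mul]
        · refine ⟨v, r, hr, ?_⟩
          rw [QuotientGroup.mk_mul, h, refl_coset hB hn ht hs hsq, QuotientGroup.mk_mul,
            mk_mul_comm r s, ← mul_assoc, ← QuotientGroup.mk_mul, refl_mul_self hs,
            QuotientGroup.mk_one, one_mul]
    | inv_mul_cancel t ht y _ ih =>
      obtain ⟨u, ht⟩ := ht
      rw [refl_inv ht]
      rcases ih with h | ⟨v, r, hr, h⟩ | ⟨v, r, w, s, hr, hs, hns, h⟩
      · exact Or.inr (Or.inl ⟨u, t, ht, by rw [QuotientGroup.mk_mul, h, mul_one]⟩)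
      · by_cases hsq : IsSquare (Q u * Q v)
        · refine Or.inl ?_
          rw [QuotientGroup.mk_mul, h, refl_coset hB hn ht hr hsq, ← QuotientGroup.mk_mul,
            refl_mul_self hr, QuotientGroup.mk_one]
        · exact Or.inr (Or.inr ⟨u, t, v, r, ht, hr, hsq, by
            rw [QuotientGroup.mk_mul, h, ← QuotientGroup.mk_mul]⟩)
      · refine Or.inr (Or.inl ?_)
        rcases sq_of_nonsq (c := Q u) h2 hns with hsq | hsq
        · refine ⟨w, s, hs, ?_⟩
          rw [QuotientGroup.mk_mul, h, refl_coset hB hn ht hr hsq, ← QuotientGroup.mk_mul,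
            ← mul_assoc, refl_mul_self hr, one_mul]
        · refine ⟨v, r, hr, ?_⟩
          rw [QuotientGroup.mk_mul, h, refl_coset hB hn ht hs hsq, QuotientGroup.mk_mul,
            mk_mul_comm r s, ← mul_assoc, ← QuotientGroup.mk_mul, refl_mul_self hs,
            QuotientGroup.mk_one, one_mul]
  have hdz : dickson hB z = -1 := by
    show (-1 : ℤˣ) ^ (Module.finrank F (ι → F) + Module.finrank F (fixSpace z)) = -1
    have h0 : fixSpace z = ⊥ := (Submodule.eq_bot_iff _).2 fun x hx => by
      have h1 := mem_fixSpace.1 hx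
      rw [hz] at h1
      have : (2 : F) • x = 0 := by linear_combination (norm := module) -h1
      exact (smul_eq_zero.1 this).resolve_left h2
    rw [h0, finrank_bot, add_zero, hodd.neg_one_pow]
  have hO : K ≤ (dickson hB).ker := by
    show commutator (Grp Q) ≤ _
    rw [commutator_def, Subgroup.commutator_le]
    intro g _ k _
    rw [MonoidHom.mem_ker, map_commutatorElement, commutatorElement_eq_one_iff_mul_comm, mul_comm]
  have hd : ∀ g k : Grp Q, (g : Grp Q ⧸ K) = (k : Grp Q ⧸ K) → dickson hB g = dickson hB k :=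
    fun g k h => by
      have := MonoidHom.mem_ker.1 (hO (QuotientGroup.eq.1 h))
      rwa [map_mul, map_inv, inv_mul_eq_one] at this
  rcases key z with h | ⟨v, r, hr, h⟩ | ⟨v, r, w, s, hr, hs, -, h⟩
  · have := hd z 1 (by rw [h, QuotientGroup.mk_one])
    rw [hdz, map_one] at this
    exact absurd this (by decide)
  · refine ⟨Q v, hr.1, fun x t ht hsq => ?_⟩
    rw [← QuotientGroup.eq_one_iff, QuotientGroup.mk_mul, h, refl_coset hB hn hr ht hsq,
      ← QuotientGroup.mk_mul, refl_mul_self ht, QuotientGroup.mk_one]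
  · have := hd z _ h
    rw [hdz, map_mul, dickson_refl hB hr, dickson_refl hB hs] at this
    exact absurd this (by decide)

/-- All reflections of one norm in a subgroup give `Ω`, given a witness. -/
theorem omega_le_of_refl_at (hB : Nondeg Q) (h2 : (2 : F) ≠ 0)
    (hn : 5 ≤ Module.finrank F (ι → F)) {M : Subgroup (Grp Q)} {c : F} (hc : c ≠ 0)
    (hM : ∀ x r, Q x = c → IsRefl x r → r ∈ M) {u v : ι → F} (hu : Q u = c) (hv : Q v = c)
    (huv : B u v = 0) {y : ι → F} (hyq : Q y = c) (hyu0 : B y u ≠ 0)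
    (hys : y ∉ Submodule.span F ({u, v} : Set (ι → F))) : Cfsg.Omega F ⇑Q ≤ M := by
  classical
  let S : Set (Grp Q) :=
    {g | ∃ x y r s, Q x = c ∧ Q y = c ∧ IsRefl x r ∧ IsRefl y s ∧ g = r * s}
  refine le_trans ?_ ((Subgroup.closure_le _).2 (show S ⊆ M by
    rintro g ⟨x, y, r, s, hx, hy, hr, hs, rfl⟩
    exact M.mul_mem (hM x r hx hr) (hM y s hy hs)))
  have hco : ∀ {x y : ι → F} {r s : Grp Q}, IsRefl x r → IsRefl y s → Q x = c → Q y = c →
      r * s ∈ Cfsg.Omega F ⇑Q := fun {x y r s} hr hs hx hy => by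
    have := QuotientGroup.eq.1 (refl_coset hB hn hr hs (by rw [hx, hy]; exact ⟨c, rfl⟩))
    rwa [refl_inv hr] at this
  obtain ⟨ru, hru⟩ := exists_refl hB (v := u) (by rw [hu]; exact hc)
  obtain ⟨rv, hrv⟩ := exists_refl hB (v := v) (by rw [hv]; exact hc)
  obtain ⟨ry, hry⟩ := exists_refl hB (v := y) (by rw [hyq]; exact hc)
  refine DecompMax.omega_le_of_normal hB hn _ (fun g _ x hx => ?_)
    (a := ru * rv) (b := ru * ry)
    (Subgroup.subset_closure ⟨_, _, _, _, hu, hv, hru, hrv, rfl⟩) (hco hru hrv hu hv)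
    (hco hru hry hu hyq) fun hcomm => ?_
  · induction hx using Subgroup.closure_induction with
    | mem z hz =>
      obtain ⟨x, y, r, s, hx, hy, hr, hs, rfl⟩ := hz
      exact Subgroup.subset_closure ⟨ap g x, ap g y, g * r * g⁻¹, g * s * g⁻¹,
        by rw [ap_q, hx], by rw [ap_q, hy], refl_conj hr g, refl_conj hs g, by group⟩
    | one => rw [mul_one, mul_inv_cancel]; exact one_mem _
    | mul z w _ _ hz hw =>
      rw [show g * (z * w) * g⁻¹ = (g * z * g⁻¹) * (g * w * g⁻¹) by group]; exact mul_mem hz hw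
    | inv z _ hz => rw [show g * z⁻¹ * g⁻¹ = (g * z * g⁻¹)⁻¹ by group]; exact inv_mem hz
  -- the two products do not commute
  obtain ⟨t, ht⟩ : ∃ t, t = ap (ru * ry) u := ⟨_, rfl⟩
  have h1 : ap (ru * rv) t = -t := by
    rw [ht, ← ap_mul, hcomm, ap_mul, ap_mul ru rv, refl_fix hrv (by rw [b_comm]; exact huv),
      refl_self hru, ← neg_one_smul F u, ap_smul, neg_one_smul]
  rw [ap_mul, hru.2, hrv.2, hu, hv, b_sub_right, b_smul_right, huv, mul_zero, sub_zero] at h1
  have h3 : t ∈ Submodule.span F ({u, v} : Set (ι → F)) := by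
    refine Submodule.mem_span_pair.2 ⟨(c⁻¹ * B u t) / 2, (c⁻¹ * B v t) / 2, ?_⟩
    have h4 : (2 : F) • t = (c⁻¹ * B u t) • u + (c⁻¹ * B v t) • v := by
      linear_combination (norm := module) h1
    have h5 := congrArg ((2 : F)⁻¹ • ·) h4
    simp only [smul_smul, inv_mul_cancel₀ h2, one_smul, smul_add] at h5
    conv_rhs => rw [h5]
    module
  have h6 : ap ru t ∈ Submodule.span F ({u, v} : Set (ι → F)) := by
    rw [hru.2]
    exact Submodule.sub_mem _ h3
      (Submodule.smul_mem _ _ (Submodule.subset_span (Set.mem_insert _ _)))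
  rw [ht, ← ap_mul, ← mul_assoc, refl_mul_self hru, one_mul, hry.2, hyq] at h6
  refine hys ?_
  have h7 := Submodule.sub_mem _ (Submodule.subset_span (Set.mem_insert u {v})) h6
  rw [sub_sub_cancel] at h7
  exact (Submodule.smul_mem_iff _ (mul_ne_zero (inv_ne_zero hc)
    hyu0)).1 h7

/-- All reflections of one norm in a subgroup give `Ω`. -/
theorem omega_le_of_refl (hB : Nondeg Q) (h2 : (2 : F) ≠ 0) (h5 : 5 ≤ Nat.card F)
    (hn : 5 ≤ Module.finrank F (ι → F)) {M : Subgroup (Grp Q)} {c : F} (hc : c ≠ 0)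
    (hM : ∀ x r, Q x = c → IsRefl x r → r ∈ M) {u v : ι → F} (hu : Q u = c) (hv : Q v = c)
    (huv : B u v = 0) : Cfsg.Omega F ⇑Q ≤ M := by
  classical
  obtain ⟨α, hα⟩ := exists_avoid ({0, 1, -1} : Finset F) (lt_of_le_of_lt Finset.card_le_three (by omega))
  simp only [Finset.mem_insert, Finset.mem_singleton, not_or] at hα
  obtain ⟨hα0, hα1, hα2⟩ := hα
  have hsp : NondegOn Q (Submodule.span F ({u, v} : Set (ι → F))) := by
    intro x hx h
    obtain ⟨p, q, rfl⟩ := Submodule.mem_span_pair.1 hx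
    have h1 := h u (Submodule.subset_span (Set.mem_insert _ _))
    have h3 := h v (Submodule.subset_span (Set.mem_insert_of_mem _ rfl))
    rw [b_add_left, b_smul_left, b_smul_left, b_self, hu, b_comm v u, huv, mul_zero, add_zero] at h1
    rw [b_add_left, b_smul_left, b_smul_left, b_self, hv, huv, mul_zero, zero_add] at h3
    rw [(mul_eq_zero.1 h1).resolve_right (mul_ne_zero h2 hc),
      (mul_eq_zero.1 h3).resolve_right (mul_ne_zero h2 hc), zero_smul, zero_smul, add_zero]
  have hz0 : c - α * α * c ≠ 0 := fun e0 => by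
    have : (α - 1) * (α + 1) = 0 := by
      refine (mul_eq_zero.1 (?_ : ((α - 1) * (α + 1)) * c = 0)).resolve_right hc
      linear_combination -e0
    rcases mul_eq_zero.1 this with h | h
    · exact hα1 (by linear_combination h)
    · exact hα2 (by linear_combination h)
  have hd2 : Module.finrank F (Submodule.span F ({u, v} : Set (ι → F))) ≤ 2 := by
    have := finrank_span_finset_le_card (R := F) ({u, v} : Finset (ι → F))
    rw [Set.finrank, Finset.coe_pair] at this
    exact this.trans Finset.card_le_two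
  have hd3 := finrank_orth hB (Submodule.span F ({u, v} : Set (ι → F)))
  obtain ⟨w, hw, hwq⟩ := univ_of_nondeg (nondegOn_orth hB hsp) (by omega) _ hz0
  have huw : B u w = 0 := hw u (Submodule.subset_span (Set.mem_insert _ _))
  obtain ⟨y, hy⟩ : ∃ y, y = α • u + w := ⟨_, rfl⟩
  have hyq : Q y = c := by rw [hy, q_add, q_smul, hu, hwq, b_smul_left, huw]; ring
  have hyu : B y u = α * (2 * c) := by
    rw [hy, b_add_left, b_smul_left, b_self, hu, b_comm w u, huw, add_zero]
  have hys : y ∉ Submodule.span F ({u, v} : Set (ι → F)) := fun hm => hz0 (by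
    have h1 := Submodule.sub_mem _ hm
      (Submodule.smul_mem _ α (Submodule.subset_span (Set.mem_insert u {v})))
    rw [hy, add_sub_cancel_left] at h1
    rw [← hwq, nondeg_inf hsp h1 hw, QuadraticMap.map_zero])
  exact omega_le_of_refl_at hB h2 hn hc hM hu hv huv hyq
    (by rw [hyu]; exact mul_ne_zero hα0 (mul_ne_zero h2 hc)) hys

end CfsgLib.Orth.FiveMax
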