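import Cfsg.Agent.Lib.Classical.FiveMax.Plane
import Cfsg.Agent.Lib.Classical.OrthFrameMax.Mono

set_option autoImplicit false
set_option linter.unusedSectionVars false

/-!
An overgroup of the even monomial group of an orthogonal frame in dimension five: coordinates and roots.
-/

namespace CfsgLib.Orth.FiveMax

open Matrix DecompMax FrameMax

variable {F : Type*} [Field F] [Finite F] {ι : Type} [Fintype ι] [DecidableEq ι]
variable {Q : QuadraticForm F (ι → F)} {e : Fin 5 → ι → F} {a : F} {M : Subgroup (Grp Q)}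

local notation "B" => QuadraticMap.polar (DFunLike.coe Q)

/-- A group containing the sign changes and the even permutations of a frame. -/
structure Over5 (Q : QuadraticForm F (ι → F)) (e : Fin 5 → ι → F) (a : F) (M : Subgroup (Grp Q)) :
    Prop extends Frame Q e a where
  sgn : ∀ i r, IsRefl (e i) r → r ∈ M
  perm : ∀ π : Equiv.Perm (Fin 5), Equiv.Perm.sign π = 1 → ∀ g : Grp Q,
    (∀ i, ap g (e i) = e (π i)) → g ∈ M

/-- The vector with given coordinates. -/
def vec (e : Fin 5 → ι → F) (C : Fin 5 → F) : ι → F := ∑ i, C i • e i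

/-- A vector of norm `a` whose reflection lies in the group. -/
def Root (M : Subgroup (Grp Q)) (a : F) (x : ι → F) : Prop := Q x = a ∧ RefIn M x

theorem co_vec (h : Frame Q e a) (C : Fin 5 → F) (l : Fin 5) : co Q e a l (vec e C) = C l := by
  rw [vec, co_sum, Finset.sum_eq_single l]
  · rw [co_smul, h.co_self, mul_one]
  · intro i _ hi; rw [co_smul, h.co_ne hi.symm, mul_zero]
  · intro hl; exact absurd (Finset.mem_univ l) hl

theorem vec_co (h : Frame Q e a) (x : ι → F) : vec e (fun i => co Q e a i x) = x := h.sum_co x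

theorem ext_frame (h : Frame Q e a) {g k : Grp Q} (hgk : ∀ i, ap g (e i) = ap k (e i)) : g = k := by
  refine inv_mul_eq_one.1 ?_ |>.symm
  by_contra hne
  obtain ⟨i, hi⟩ := h.exists_moved (g := k⁻¹ * g) hne
  exact hi (by rw [ap_mul, hgk, ap_inv_ap])

theorem exists_frame_iso (h : Frame Q e a) (f : Fin 5 → ι → F) (hq : ∀ i, Q (f i) = a)
    (hf : ∀ i j, i ≠ j → B (f i) (f j) = 0) : ∃ g : Grp Q, ∀ i, ap g (e i) = f i := by
  let L : (ι → F) →ₗ[F] (ι → F) :=
    { toFun := fun x => ∑ i, co Q e a i x • f i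
      map_add' := fun x y => by simp only [co_add, add_smul, Finset.sum_add_distrib]
      map_smul' := fun c x => by simp only [co_smul, mul_smul, ← Finset.smul_sum, RingHom.id_apply] }
  have hL : ∀ x, Q (L x) = Q x := fun x => by
    show Q (∑ i, co Q e a i x • f i) = Q x
    rw [h.q_eq x]
    simp only [Fin.sum_univ_five, q_add, q_smul, hq, b_add_left, b_add_right, b_smul_left,
      b_smul_right, hf 0 1 (by decide), hf 0 2 (by decide), hf 0 3 (by decide), hf 0 4 (by decide),
      hf 1 2 (by decide), hf 1 3 (by decide), hf 1 4 (by decide), hf 2 3 (by decide),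
      hf 2 4 (by decide), hf 3 4 (by decide)]
    ring
  obtain ⟨g, hg⟩ := exists_iso h.nd L hL
  refine ⟨g, fun i => ?_⟩
  rw [hg]
  show ∑ l, co Q e a l (e i) • f l = f i
  rw [Finset.sum_eq_single i]
  · rw [h.co_self, one_smul]
  · intro l _ hl; rw [h.co_ne hl, zero_smul]
  · intro hl; exact absurd (Finset.mem_univ i) hl

theorem exists_mono_iso (h : Frame Q e a) (π : Equiv.Perm (Fin 5)) (ε : Fin 5 → F)
    (hε : ∀ i, ε i * ε i = 1) : ∃ g : Grp Q, ∀ i, ap g (e i) = ε i • e (π i) :=
  exists_frame_iso h _ (fun i => by rw [q_smul, h.q, hε, one_mul]) fun i j hij => by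
    rw [b_smul_left, b_smul_right, h.orth _ _ (π.injective.ne hij), mul_zero, mul_zero]

/-- The coordinates under a monomial isometry. -/
theorem co_mono (h : Frame Q e a) {g : Grp Q} {m w : Fin 5} {δ : F} (hδ : δ * δ = 1)
    (hm : ap g (e m) = δ • e w) (x : ι → F) : co Q e a w (ap g x) = δ * co Q e a m x := by
  have h1 := ap_b g (e m) x
  rw [hm, b_smul_left, h.b_co, h.b_co] at h1
  have h2 : δ * co Q e a w (ap g x) = co Q e a m x := mul_left_cancel₀ h.two_a (by linear_combination h1)
  rw [← h2, ← mul_assoc, hδ, one_mul]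

theorem sum_sq (h : Frame Q e a) {x : ι → F} (hx : Q x = a) :
    ∑ i, co Q e a i x * co Q e a i x = 1 := by
  have h1 := h.q_eq x
  rw [hx] at h1
  exact mul_left_cancel₀ h.a0 (by rw [mul_one, ← h1])

namespace Over5

variable (h : Over5 Q e a M)
include h

theorem exists_sign (S : Finset (Fin 5)) : ∃ s ∈ M, Sign e a s S := by
  classical
  induction S using Finset.induction_on with
  | empty => exact ⟨1, M.one_mem, fun x l => by rw [ap_one, if_neg (Finset.notMem_empty l), one_mul]⟩
  | insert i S hi ih =>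
    obtain ⟨s, hs, hsS⟩ := ih
    obtain ⟨r, hr⟩ := exists_refl h.nd (v := e i) (by rw [h.q]; exact h.a0)
    refine ⟨r * s, M.mul_mem (h.sgn i r hr) hs, fun x l => ?_⟩
    rw [ap_mul, hr.2, co_sub, co_smul, hsS, h.co_e, h.q, h.b_co, hsS]
    by_cases hli : l = i
    · subst hli
      rw [if_pos rfl, if_pos (Finset.mem_insert_self _ _), if_neg hi]
      field_simp [h.a0]
      ring
    · rw [if_neg hli, mul_zero, sub_zero]
      simp [hli]

theorem mem_of_signs {g : Grp Q} {ε : Fin 5 → F} (hε : ∀ i, ε i * ε i = 1)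
    (hg : ∀ i, ap g (e i) = ε i • e i) : g ∈ M := by
  classical
  obtain ⟨s, hs, hS⟩ := h.exists_sign (Finset.univ.filter fun i => ε i = -1)
  suffices g = s by rwa [this]
  refine ext_frame h.toFrame fun i => ?_
  rw [hg, h.sign_apply hS]
  rcases mul_self_eq_one_iff.1 (hε i) with e1 | e1
  · rw [if_neg (by simp [e1]; intro e2; exact h.two (by linear_combination e2)), e1]
  · rw [if_pos (by simp [e1]), e1]

theorem mem_of_mono {g : Grp Q} {π : Equiv.Perm (Fin 5)} (hπ : Equiv.Perm.sign π = 1)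
    {ε : Fin 5 → F} (hε : ∀ i, ε i * ε i = 1) (hg : ∀ i, ap g (e i) = ε i • e (π i)) : g ∈ M := by
  obtain ⟨p, hp⟩ := exists_mono_iso h.toFrame π (fun _ => 1) (fun _ => one_mul 1)
  simp only [one_smul] at hp
  have h1 : p⁻¹ * g ∈ M := h.mem_of_signs hε fun i => by
    rw [ap_mul, hg, ap_smul, ← hp, ap_inv_ap]
  simpa using M.mul_mem (h.perm π hπ p hp) h1

theorem root_e (i : Fin 5) : Root M a (e i) := ⟨h.q i, h.sgn i⟩

theorem root_map {x : ι → F} (hx : Root M a x) {g : Grp Q} (hg : g ∈ M) : Root M a (ap g x) :=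
  ⟨by rw [ap_q, hx.1], hx.2.map hg⟩

theorem root_mono {C : Fin 5 → F} (hC : Root M a (vec e C)) {π : Equiv.Perm (Fin 5)}
    (hπ : Equiv.Perm.sign π = 1) {ε : Fin 5 → F} (hε : ∀ i, ε i * ε i = 1) :
    Root M a (vec e fun i => ε i * C (π i)) := by
  obtain ⟨g, hg⟩ := exists_mono_iso h.toFrame π.symm (fun i => ε (π.symm i)) fun i => hε _
  have hmem : g ∈ M := h.mem_of_mono (π := π.symm) (by rw [Equiv.Perm.sign_symm, hπ]) (fun i => hε _) hg
  have h1 := h.root_map hC hmem
  suffices ap g (vec e C) = vec e fun i => ε i * C (π i) by rwa [this] at h1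
  refine h.ext fun l => ?_
  rw [co_mono h.toFrame (hε (π.symm (π l))) (hg (π l) |>.trans (by rw [Equiv.symm_apply_apply])),
    co_vec h.toFrame, co_vec h.toFrame, Equiv.symm_apply_apply]

theorem root_refl {C D : Fin 5 → F} (hC : Root M a (vec e C)) (hD : Root M a (vec e D)) :
    Root M a (vec e fun i => D i - 2 * (∑ l, C l * D l) * C i) := by
  obtain ⟨r, hr⟩ := exists_refl h.nd (v := vec e C) (by rw [hC.1]; exact h.a0)
  have h1 := h.root_map hD (hC.2 r hr)
  suffices ap r (vec e D) = vec e fun i => D i - 2 * (∑ l, C l * D l) * C i by rwa [this] at h1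
  refine h.ext fun l => ?_
  rw [hr.2, co_sub, co_smul, co_vec h.toFrame, co_vec h.toFrame, co_vec h.toFrame, hC.1, h.b_eq]
  simp only [co_vec h.toFrame]
  field_simp [h.a0]

theorem root_sum {C : Fin 5 → F} (hC : Root M a (vec e C)) : ∑ i, C i * C i = 1 := by
  have h1 := sum_sq h.toFrame hC.1
  simpa only [co_vec h.toFrame] using h1

end Over5

end CfsgLib.Orth.FiveMax
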