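import Cfsg.Agent.Lib.Classical.FiveMax.FrameTriples

set_option autoImplicit false
set_option linter.unusedSectionVars false

/-!
The monomial group of an orthogonal frame in dimension five over a prime field is maximal in `Ω`.
-/

namespace CfsgLib.Orth.FiveMax

open Matrix DecompMax FrameMax
open scoped commutatorElement

variable {F : Type*} [Field F] [Finite F] {ι : Type} [Fintype ι] [DecidableEq ι]
variable {Q : QuadraticForm F (ι → F)} {e : Fin 5 → ι → F} {a : F} {M : Subgroup (Grp Q)}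

local notation "B" => QuadraticMap.polar (DFunLike.coe Q)

theorem sq_one_of_three (hF : ∀ x : F, ∃ k : ℕ, (k : F) = x) (h3 : (3 : F) = 0) {c : F}
    (hc : c ≠ 0) : c * c = 1 := by
  obtain ⟨k, rfl⟩ := hF c
  have hk : (k : F) = ((k % 3 : ℕ) : F) := by
    conv_lhs => rw [← Nat.mod_add_div k 3]
    push_cast
    rw [h3, zero_mul, add_zero]
  rw [hk] at hc ⊢
  rcases (show k % 3 = 0 ∨ k % 3 = 1 ∨ k % 3 = 2 by omega) with e0 | e0 | e0 <;> rw [e0] at hc ⊢
  · exact absurd Nat.cast_zero hc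
  · norm_num
  · push_cast; linear_combination h3

theorem pick_four : ∀ i : Fin 5, ∃ k l m n : Fin 5,
    (k ≠ l ∧ k ≠ i ∧ l ≠ i ∧ m ≠ n ∧ m ≠ i ∧ n ≠ i ∧ m ≠ k ∧ m ≠ l ∧ n ≠ k ∧ n ≠ l) ∧
      ∀ w, w = i ∨ w = k ∨ w = l ∨ w = m ∨ w = n := by decide

namespace Over5

variable (h : Over5 Q e a M)
include h

theorem card_three (hF : ∀ x : F, ∃ k : ℕ, (k : F) = x) (h3 : (3 : F) = 0) {x : ι → F}
    (hx : Q x = a) : (supp Q e a x).card = 1 ∨ (supp Q e a x).card = 4 := by
  classical
  have h1 := sum_sq h.toFrame hx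
  rw [← Finset.sum_subset (Finset.subset_univ (supp Q e a x)) (fun m _ hm => by
      rw [notMem_supp.1 hm, zero_mul]),
    Finset.sum_congr rfl (fun m hm => sq_one_of_three hF h3 (mem_supp.1 hm)), Finset.sum_const,
    nsmul_one] at h1
  have h5 : (supp Q e a x).card ≤ 5 := (Finset.card_le_univ _).trans_eq (Fintype.card_fin 5)
  have h2 := h.two
  obtain ⟨k, hk⟩ : ∃ k, (supp Q e a x).card = k := ⟨_, rfl⟩
  rw [hk] at h1 h5 ⊢
  interval_cases k
  · exact absurd h1 (by simp)
  · simp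
  · exact absurd h1 (fun e0 => one_ne_zero (α := F) (by push_cast at e0; linear_combination e0))
  · exact absurd h1 (fun e0 => one_ne_zero (α := F) (by push_cast at e0; linear_combination h3 - e0))
  · simp
  · exact absurd h1 (fun e0 => h2 (by push_cast at e0; linear_combination 2 * h3 - e0))

theorem axis_root {x : ι → F} (hq : Q x = a) (hx : (supp Q e a x).card ≤ 1) : Root M a x := by
  obtain ⟨i, c, rfl⟩ := h.axis_of_supp hx 0
  refine ⟨hq, fun r hr => ?_⟩
  have hc : c ≠ 0 := fun e0 => hr.1 (by rw [e0, zero_smul, QuadraticMap.map_zero])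
  have h1 := refl_smul hr (inv_ne_zero hc)
  rw [smul_smul, inv_mul_cancel₀ hc, one_smul] at h1
  exact h.sgn i r h1

theorem three_case (hF : ∀ x : F, ∃ k : ℕ, (k : F) = x) (h3 : (3 : F) = 0) :
    (∀ g ∈ M, Mono e g) ∨ Cfsg.Omega F ⇑Q ≤ M := by
  classical
  by_cases hall : ∀ g ∈ M, ∀ u, (supp Q e a (ap g (e u))).card ≤ 1
  · exact Or.inl fun g hg u => h.axis_of_supp (hall g hg u) 0
  push Not at hall
  obtain ⟨g, hg, u, hu⟩ := hall
  refine Or.inr ?_
  have hq : Q (ap g (e u)) = a := by rw [ap_q, h.q]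
  have hc4 : (supp Q e a (ap g (e u))).card = 4 := (h.card_three hF h3 hq).resolve_left (by omega)
  obtain ⟨C, hC⟩ : ∃ C : Fin 5 → F, C = fun i => co Q e a i (ap g (e u)) := ⟨_, rfl⟩
  have hCr : Root M a (vec e C) := by
    rw [hC, vec_co h.toFrame]; exact h.root_map (h.root_e u) hg
  have hz : ∀ x, (supp Q e a x).card = 4 → ∃ o, co Q e a o x = 0 ∧ ∀ l, l ≠ o → co Q e a l x ≠ 0 := by
    intro x hx
    obtain ⟨o, ho⟩ := Finset.card_eq_one.1 (show (supp Q e a x)ᶜ.card = 1 by
      rw [Finset.card_compl, hx]; rfl)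
    refine ⟨o, notMem_supp.1 (Finset.mem_compl.1 (by rw [ho]; exact Finset.mem_singleton_self o)),
      fun l hl => mem_supp.1 ?_⟩
    by_contra h1
    have := Finset.mem_compl.2 h1
    rw [ho, Finset.mem_singleton] at this
    exact hl this
  obtain ⟨o, ho, hno⟩ := hz _ hc4
  have hroot : ∀ x, Q x = a → Root M a x := by
    intro x hx
    rcases h.card_three hF h3 hx with h1 | h1
    · exact h.axis_root hx h1.le
    obtain ⟨o', ho', hno'⟩ := hz x h1
    obtain ⟨π, hπ, hπo⟩ := exists_even_move o' o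
    have hne : ∀ l, l ≠ o' → C (π l) ≠ 0 := fun l hl => by
      rw [hC]; exact hno _ fun e0 => hl (π.injective (e0.trans hπo.symm))
    obtain ⟨ε, hε⟩ : ∃ ε : Fin 5 → F, ε = fun l => if l = o' then 1 else co Q e a l x * C (π l) := ⟨_, rfl⟩
    have h1 := h.root_mono hCr hπ (ε := ε) fun l => by
      rw [hε]
      dsimp only
      split_ifs with hl
      · exact one_mul 1
      · rw [mul_mul_mul_comm, sq_one_of_three hF h3 (hno' l hl), sq_one_of_three hF h3 (hne l hl), one_mul]
    convert h1 using 1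
    refine h.ext fun l => ?_
    rw [co_vec h.toFrame, hε]
    dsimp only
    split_ifs with hl
    · rw [hl, ho', hπo, hC, one_mul]; exact ho.symm
    · rw [mul_assoc, sq_one_of_three hF h3 (hne l hl), mul_one]
  refine omega_le_of_refl_at h.nd h.two (by rw [h.finrank_V]) h.a0
    (fun x r hx hr => (hroot x hx).2 r hr) (h.q 0) (h.q 1) (h.orth 0 1 (by decide))
    (y := vec e ![1, 1, 1, 1, 0]) ?_ ?_ ?_
  · rw [h.q_eq]
    simp [co_vec h.toFrame, Fin.sum_univ_five]
    linear_combination a * h3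
  · rw [b_comm, h.b_co, co_vec h.toFrame]
    simpa using ⟨h.two, h.a0⟩
  · intro hm
    obtain ⟨s, t, hst⟩ := Submodule.mem_span_pair.1 hm
    have := congrArg (co Q e a 2) hst
    simp [co_add, co_smul, h.co_e, co_vec h.toFrame] at this

theorem five_case {P : ℕ} [Fact P.Prime] [CharP F P] (hF : ∀ x : F, ∃ k : ℕ, (k : F) = x) (h3 : (3 : F) ≠ 0) :
    (∀ g ∈ M, Mono e g) ∨ Cfsg.Omega F ⇑Q ≤ M := by
  classical
  by_cases hmono : ∀ p q, p ≠ q → ∀ x ∈ trot h.nd M e a p q, Mono e x
  · exact Or.inl fun g hg => h.mono_all (h.centMono_of_trot hmono) h3 hg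
  push Not at hmono
  obtain ⟨p, q, hpq, x, hx, hxm⟩ := hmono
  refine Or.inr ?_
  obtain ⟨T, hT⟩ : ∃ T, T = ({p, q} : Finset (Fin 5))ᶜ := ⟨_, rfl⟩
  have hTm : ∀ u, u ∈ T ↔ u ≠ p ∧ u ≠ q := fun u => by simp [hT]
  obtain ⟨i, j, k, hij, hik, hjk, rfl⟩ := Finset.card_eq_three.1 (show T.card = 3 by
    rw [hT, Finset.card_compl, Finset.card_pair hpq]; rfl)
  obtain ⟨y, hy, hy1, hyP⟩ : ∃ y ∈ trot h.nd M e a p q, y ≠ 1 ∧ y ^ P = 1 := by
    by_contra hc
    push Not at hc
    exact hxm (h.trot_mono (P := P) hij hik hjk hpq hTm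
      (fun g hg hgP => by_contra fun hg1 => hc g hg hg1 hgP) x hx)
  have hw := h.wild_of_trot (P := P) hpq hTm hy hy1 hyP
  have hroot := h.all_roots hF h3 (h.wild_all hpq hTm hw) 5
  have hsupp : ∀ z, (supp Q e a z).card ≤ 5 := fun z => (Finset.card_le_univ _).trans_eq (Fintype.card_fin 5)
  have h5 : 5 ≤ Nat.card F := by
    have hp := (Fact.out : P.Prime)
    have hP : P ≠ 2 := fun e0 => h.two (by subst e0; exact_mod_cast CharP.cast_eq_zero F 2)
    have hP3 : P ≠ 3 := fun e0 => h3 (by subst e0; exact_mod_cast CharP.cast_eq_zero F 3)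
    have hP4 : P ≠ 4 := fun e0 => by rw [e0] at hp; norm_num at hp
    have h2le := hp.two_le
    have : P ≤ Nat.card F := by
      have := Nat.card_le_card_of_injective (fun n : Fin P => ((n : ℕ) : F)) (fun u v huv =>
        Fin.ext (CharP.natCast_injOn_Iio F P u.2 v.2 huv))
      rwa [Nat.card_eq_fintype_card, Fintype.card_fin] at this
    omega
  exact omega_le_of_refl h.nd h.two h5 (by rw [h.finrank_V]) h.a0
    (fun z r hz hr => (hroot z (hsupp z) hz).2 r hr) (h.q 0) (h.q 1) (h.orth 0 1 (by decide))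

end Over5

/-- The subgroup of monomial isometries. -/
def monoStab (h : Frame Q e a) : Subgroup (Grp Q) where
  carrier := {g | Mono e g}
  mul_mem' ha hb := Frame.mono_mul ha hb
  one_mem' := Frame.mono_one
  inv_mem' ha := h.mono_inv ha

theorem exists_prime (hcard : (Nat.card F).Prime) :
    CharP F (Nat.card F) ∧ ∀ x : F, ∃ k : ℕ, (k : F) = x := by
  cases nonempty_fintype F
  obtain ⟨p, hp⟩ := CharP.exists F
  haveI : Fact p.Prime := ⟨CharP.char_is_prime F p⟩
  obtain ⟨n, hp', hn⟩ := FiniteField.card F p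
  rw [Nat.card_eq_fintype_card] at hcard ⊢
  have hpe : p = Fintype.card F := (Nat.prime_dvd_prime_iff_eq hp' hcard).1 (hn ▸ dvd_pow_self p n.ne_zero)
  haveI : CharP F (Fintype.card F) := hpe ▸ hp
  refine ⟨this, fun x => ?_⟩
  haveI : NeZero (Fintype.card F) := ⟨Fintype.card_ne_zero⟩
  have hb := (Fintype.bijective_iff_injective_and_card (ZMod.castHom dvd_rfl F :
    ZMod (Fintype.card F) → F)).2 ⟨ZMod.castHom_injective _, ZMod.card _⟩
  obtain ⟨z, hz⟩ := hb.2 x
  exact ⟨z.val, by rw [← hz, ZMod.castHom_apply, ZMod.natCast_val]⟩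

/-- An overgroup in `Ω` of the monomial isometries is monomial or all of `Ω`. -/
theorem frame_or_omega (h : Frame Q e a) (hcard : (Nat.card F).Prime)
    (hM : monoStab h ⊓ Cfsg.Omega F ⇑Q ≤ M) :
    M ≤ monoStab h ∨ Cfsg.Omega F ⇑Q ≤ M := by
  classical
  obtain ⟨hch, hF⟩ := exists_prime (F := F) hcard
  haveI : Fact (Nat.card F).Prime := ⟨hcard⟩
  obtain ⟨z, hz⟩ := exists_iso h.nd (-LinearMap.id) (fun x => by
    rw [LinearMap.neg_apply, LinearMap.id_apply, ← neg_one_smul F x, q_smul]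
    ring)
  have hz' : ∀ x, ap z x = -x := fun x => by rw [hz, LinearMap.neg_apply, LinearMap.id_apply]
  have hcomm : ∀ g : Grp Q, g * z = z * g := fun g => ext_ap fun x => by
    rw [ap_mul, ap_mul, hz', hz', ← neg_one_smul F x, ap_smul, neg_one_smul]
  let Z := Subgroup.zpowers z
  have hZc : ∀ c ∈ Z, ∀ g : Grp Q, g * c = c * g := fun c hc g => by
    obtain ⟨k, rfl⟩ := Subgroup.mem_zpowers_iff.1 hc
    exact (Commute.zpow_right (hcomm g) k).eq
  haveI : Z.Normal := ⟨fun c hc g => by rw [hZc c hc g, mul_inv_cancel_right]; exact hc⟩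
  -- permutations
  choose p hp using fun π : Equiv.Perm (Fin 5) => exists_mono_iso h π (fun _ => 1) fun _ => one_mul 1
  simp only [one_smul] at hp
  let φ : Equiv.Perm (Fin 5) →* Grp Q := MonoidHom.mk' p fun π σ => ext_frame h fun i => by
    rw [hp, ap_mul, hp, hp, Equiv.Perm.mul_apply]
  have hOm : ∀ π : Equiv.Perm (Fin 5), Equiv.Perm.sign π = 1 → p π ∈ Cfsg.Omega F ⇑Q := fun π hπ => by
    have h1 : π ∈ commutator (Equiv.Perm (Fin 5)) := by
      rw [alternatingGroup.commutator_perm_eq (by simp)]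
      exact Equiv.Perm.mem_alternatingGroup.2 hπ
    have h2 : (commutator (Equiv.Perm (Fin 5))).map φ ≤ Cfsg.Omega F ⇑Q := by
      show _ ≤ commutator _
      rw [commutator_def, commutator_def, Subgroup.map_commutator]
      exact Subgroup.commutator_mono le_top le_top
    exact h2 ⟨π, h1, rfl⟩
  have hmonop : ∀ π, Mono e (p π) := fun π i => ⟨π i, 1, by rw [hp, one_smul]⟩
  choose r hr using fun i : Fin 5 => exists_refl h.nd (v := e i) (by rw [h.q]; exact h.a0)
  have hpair : ∀ i j, i ≠ j → r i * r j ∈ monoStab h ⊓ Cfsg.Omega F ⇑Q := by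
    intro i j hij
    refine ⟨Frame.mono_mul (h.mono_refl (Frame.mir_e i) (hr i)) (h.mono_refl (Frame.mir_e j) (hr j)), ?_⟩
    obtain ⟨π, -, hπ⟩ := exists_even_move j i
    have h1 := refl_unique (hr i) (by rw [← hπ, ← hp]; exact refl_conj (hr j) (p π))
    rw [h1]
    have : p π * r j * (p π)⁻¹ * r j = ⁅p π, r j⁆ := by
      rw [commutatorElement_def, refl_inv (hr j)]
    rw [this]
    exact Subgroup.commutator_mem_commutator (Subgroup.mem_top _) (Subgroup.mem_top _)
  have hR : ∀ i, r i ∈ M ⊔ Z := by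
    intro i
    obtain ⟨k, l, m, n', ⟨hkl, hki, hli, hmn, hmi, hni, hmk, hml, hnk, hnl⟩, hcov⟩ := pick_four i
    have h4 : r i = z * ((r k * r l) * (r m * r n')) := ext_frame h fun w => by
      rw [ap_mul, ap_mul, ap_mul, ap_mul, hz']
      have key : ∀ u v, ap (r u) (e v) = (if v = u then (-1 : F) else 1) • e v := fun u v => by
        by_cases huv : v = u
        · subst huv; rw [refl_self (hr v), if_pos rfl, neg_one_smul]
        · rw [refl_fix (hr u) (h.orth u v (Ne.symm huv)), if_neg huv, one_smul]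
      simp only [key, ap_smul, smul_smul, ← neg_smul]
      congr 1
      obtain rfl | rfl | rfl | rfl | rfl := hcov w
      all_goals simp [hki, hli, hkl, hmn, hmi, hni, hmk, hml, hnk, hnl, hki.symm, hli.symm, hkl.symm,
        hmn.symm, hmi.symm, hni.symm, hmk.symm, hml.symm, hnk.symm, hnl.symm]
    rw [h4]
    exact mul_mem (Subgroup.mem_sup_right (Subgroup.mem_zpowers z))
      (Subgroup.mem_sup_left (hM (mul_mem (hpair k l hkl) (hpair m n' hmn))))
  have hover : Over5 Q e a (M ⊔ Z) :=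
    { toFrame := h
      sgn := fun i t ht => by rw [refl_unique ht (hr i)]; exact hR i
      perm := fun π hπ g hg => by
        rw [show g = p π from ext_frame h fun i => by rw [hg, hp]]
        exact Subgroup.mem_sup_left (hM ⟨hmonop π, hOm π hπ⟩) }
  have hcases : (∀ g ∈ M ⊔ Z, Mono e g) ∨ Cfsg.Omega F ⇑Q ≤ M ⊔ Z := by
    by_cases h3 : (3 : F) = 0
    · exact hover.three_case hF h3
    · exact hover.five_case (P := Nat.card F) hF h3
  rcases hcases with h1 | h1
  · exact Or.inl fun g hg => h1 g (Subgroup.mem_sup_left hg)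
  · exact Or.inr (le_of_le_sup_central hZc (omega_perfect h.nd (by rw [h.finrank_V])) h1)

/-- The monomial isometries do not contain `Ω`. -/
theorem not_omega_le_mono (h : Frame Q e a) (hcard : (Nat.card F).Prime) :
    ¬ Cfsg.Omega F ⇑Q ≤ monoStab h := by
  classical
  obtain ⟨hch, hF⟩ := exists_prime (F := F) hcard
  haveI : NeZero (Nat.card F) := ⟨hcard.ne_zero⟩
  intro hle
  obtain ⟨u, v, huv⟩ := CharP.sq_add_sq F (Nat.card F) (-4)
  obtain ⟨x, hx⟩ : ∃ x, x = vec e ![(u : F), (v : F), 2, 1, 0] := ⟨_, rfl⟩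
  have h4 : (4 : F) ≠ 0 := by
    rw [show (4 : F) = 2 * 2 by norm_num]; exact mul_ne_zero h.two h.two
  have hqx : Q x = a := by
    rw [hx, h.q_eq]
    simp [co_vec h, Fin.sum_univ_five]
    push_cast at huv
    linear_combination a * huv
  obtain ⟨r, hr⟩ := exists_refl h.nd (v := x) (by rw [hqx]; exact h.a0)
  obtain ⟨s, hs⟩ := exists_refl h.nd (v := e 0) (by rw [h.q]; exact h.a0)
  have hmem : r * s ∈ Cfsg.Omega F ⇑Q := by
    have := QuotientGroup.eq.1 (refl_coset h.nd (by rw [h.finrank_V]) hr hs (by rw [hqx, h.q]; exact ⟨a, rfl⟩))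
    rwa [refl_inv hr] at this
  have hm := Frame.mono_mul (hle hmem) (h.mono_refl (Frame.mir_e 0) hs)
  rw [mul_assoc, refl_mul_self hs, mul_one] at hm
  have hmir := h.mir_of_refl hr hm
  have h2 := h.mir_card hmir
  have h23 : ({2, 3} : Finset (Fin 5)) ⊆ supp Q e a x := fun l hl => by
    rw [mem_supp, hx, co_vec h]
    simp only [Finset.mem_insert, Finset.mem_singleton] at hl
    rcases hl with rfl | rfl <;> simp [h.two]
  have heq : supp Q e a x = {2, 3} := (Finset.eq_of_subset_of_card_le h23 (by simpa using h2)).symm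
  have h0 : (u : F) = 0 ∧ (v : F) = 0 := by
    refine ⟨?_, ?_⟩
    · have := notMem_supp.1 (show (0 : Fin 5) ∉ supp Q e a x by rw [heq]; decide)
      rw [hx, co_vec h] at this
      simpa using this
    · have := notMem_supp.1 (show (1 : Fin 5) ∉ supp Q e a x by rw [heq]; decide)
      rw [hx, co_vec h] at this
      simpa using this
  rw [h0.1, h0.2] at huv
  push_cast at huv
  exact h4 (by linear_combination huv)

end CfsgLib.Orth.FiveMax
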