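import Cfsg.Agent.Lib.Classical.FiveMax.FrameBasic

set_option autoImplicit false
set_option linter.unusedSectionVars false

/-!
Roots of an overgroup of the monomial group in dimension five have at most two non-zero coordinates when the
centralisers of pairs of signs are monomial; hence such an overgroup is monomial.
-/

namespace CfsgLib.Orth.FiveMax

open Matrix DecompMax FrameMax

variable {F : Type*} [Field F] [Finite F] {ι : Type} [Fintype ι] [DecidableEq ι]
variable {Q : QuadraticForm F (ι → F)} {e : Fin 5 → ι → F} {a : F} {M : Subgroup (Grp Q)}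

local notation "B" => QuadraticMap.polar (DFunLike.coe Q)

/-- The centralisers of the pairs of signs are monomial. -/
def CentMono (M : Subgroup (Grp Q)) (e : Fin 5 → ι → F) (a : F) : Prop :=
  ∀ i j, i ≠ j → ∀ s, Sign e a s {i, j} → ∀ g ∈ M, g * s = s * g → Mono e g

theorem pick_two : ∀ k l : Fin 5, ∃ x y : Fin 5, x ≠ y ∧ x ≠ k ∧ x ≠ l ∧ y ≠ k ∧ y ≠ l := by decide

theorem pick_three : ∀ i j : Fin 5, ∃ k l m : Fin 5, k ≠ l ∧ k ≠ i ∧ k ≠ j ∧ l ≠ i ∧ l ≠ j ∧ m ≠ i ∧
    m ≠ j ∧ m ≠ k ∧ m ≠ l := by decide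

theorem exists_even_move (k : Fin 5) : ∀ o : Fin 5, ∃ π : Equiv.Perm (Fin 5),
    Equiv.Perm.sign π = 1 ∧ π k = o := by
  intro o
  by_cases hko : k = o
  · exact ⟨1, map_one _, hko⟩
  obtain ⟨x, y, hxy, hxk, hxo, hyk, hyo⟩ := pick_two k o
  refine ⟨Equiv.swap x y * Equiv.swap k o, ?_, ?_⟩
  · rw [map_mul, Equiv.Perm.sign_swap hxy, Equiv.Perm.sign_swap hko]; rfl
  · rw [Equiv.Perm.mul_apply, Equiv.swap_apply_left, Equiv.swap_apply_of_ne_of_ne hxo.symm hyo.symm]

theorem exists_even_pair {i j k l : Fin 5} (hij : i ≠ j) (hkl : k ≠ l) :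
    ∃ π : Equiv.Perm (Fin 5), Equiv.Perm.sign π = 1 ∧ π i = k ∧ π j = l := by
  obtain ⟨σ, h1, h2⟩ : ∃ σ : Equiv.Perm (Fin 5), σ i = k ∧ σ j = l := by
    refine ⟨Equiv.swap (Equiv.swap i k j) l * Equiv.swap i k, ?_, ?_⟩
    · rw [Equiv.Perm.mul_apply, Equiv.swap_apply_left, Equiv.swap_apply_of_ne_of_ne ?_ hkl]
      intro hk
      exact hij ((Equiv.swap i k).injective ((Equiv.swap_apply_left i k).trans hk))
    · rw [Equiv.Perm.mul_apply, Equiv.swap_apply_left]
  rcases Int.units_eq_one_or (Equiv.Perm.sign σ) with hs | hs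
  · exact ⟨σ, hs, h1, h2⟩
  obtain ⟨x, y, hxy, hxk, hxl, hyk, hyl⟩ := pick_two k l
  refine ⟨Equiv.swap x y * σ, by rw [map_mul, Equiv.Perm.sign_swap hxy, hs]; rfl, ?_, ?_⟩
  · rw [Equiv.Perm.mul_apply, h1, Equiv.swap_apply_of_ne_of_ne hxk.symm hyk.symm]
  · rw [Equiv.Perm.mul_apply, h2, Equiv.swap_apply_of_ne_of_ne hxl.symm hyl.symm]

/-- Three of four squares agree if each of the three pairings has an equal pair. -/
theorem three_equal {α : Type*} {w x y z : α} (h1 : w = x ∨ y = z) (h2 : w = y ∨ x = z)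
    (h3 : w = z ∨ x = y) : (w = x ∧ x = y) ∨ (w = x ∧ x = z) ∨ (w = y ∧ y = z) ∨ (x = y ∧ y = z) := by
  rcases h1 with e1 | e1 <;> rcases h2 with e2 | e2 <;> rcases h3 with e3 | e3 <;> simp_all

namespace Over5

variable (h : Over5 Q e a M)
include h

/-- Either the pair has equal squares, or outside it at most two non-zero coordinates with equal squares. -/
theorem dichotomy (hcm : CentMono M e a) {C : Fin 5 → F} (hC : Root M a (vec e C)) {i j k l : Fin 5}
    (hij : i ≠ j) (hi : C i ≠ 0) (hj : C j ≠ 0) (hki : k ≠ i) (hkj : k ≠ j) (hli : l ≠ i) (hlj : l ≠ j)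
    (hkl : k ≠ l) (hk : C k ≠ 0) (hl : C l ≠ 0) :
    C i * C i = C j * C j ∨
      (C k * C k = C l * C l ∧ ∀ m, m ≠ i → m ≠ j → m ≠ k → m ≠ l → C m = 0) := by
  classical
  haveI : Finite (Grp Q) := inferInstance
  obtain ⟨s, hsM, hs⟩ := h.exists_sign {i, j}
  obtain ⟨r, hr⟩ := exists_refl h.nd (v := vec e C) (by rw [hC.1]; exact h.a0)
  have hrM := hC.2 r hr
  have hds : dickson h.nd s = 1 := by
    obtain ⟨ri, hri⟩ := exists_refl h.nd (v := e i) (by rw [h.q]; exact h.a0)
    obtain ⟨rj, hrj⟩ := exists_refl h.nd (v := e j) (by rw [h.q]; exact h.a0)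
    have hp := h.pair_sign hij hri hrj
    have : s = ri * rj := ext_ap fun x => h.ext fun w => by rw [hs, hp]
    rw [this, map_mul, dickson_refl h.nd hri, dickson_refl h.nd hrj]; rfl
  have hne : ¬ IsConj r s := fun hc => by
    obtain ⟨c, hc⟩ := isConj_iff.1 hc
    have := congrArg (dickson h.nd) hc
    rw [map_mul, map_mul, map_inv, mul_comm (dickson h.nd c), mul_inv_cancel_right,
      dickson_refl h.nd hr, hds] at this
    exact absurd this (by decide)
  obtain ⟨n, -, hn1, hnr, hns⟩ := exists_central (refl_mul_self hr) (h.sign_self hs) hne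
  obtain ⟨J, hJ⟩ : ∃ J, J = (r * s) ^ n := ⟨_, rfl⟩
  rw [← hJ] at hn1 hnr hns
  have hJM : J ∈ M := hJ ▸ pow_mem (M.mul_mem hrM hsM) n
  have hJmono : Mono e J := hcm i j hij s hs J hJM hns.symm
  have hfix : ∀ z, co Q e a i z = 0 → co Q e a j z = 0 → B (vec e C) z = 0 → ap J z = z := by
    intro z hzi hzj hzC
    have h1 : ap (r * s) z = z := by
      have hsz : ap s z = z := h.ext fun w => by
        rw [hs]
        by_cases hw : w ∈ ({i, j} : Finset (Fin 5))
        · simp only [Finset.mem_insert, Finset.mem_singleton] at hw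
          rcases hw with rfl | rfl
          · rw [hzi, mul_zero]
          · rw [hzj, mul_zero]
        · rw [if_neg hw, one_mul]
      rw [ap_mul, hsz, refl_fix hr hzC]
    rw [hJ]
    exact pow_fix h1 n
  obtain ⟨hcS, hcT⟩ := h.sign_cent hs hns.symm
  choose π δ hδ hπ using h.mono_sign hJmono
  have hπinj : Function.Injective π := fun u v huv => by
    by_contra hne'
    have h0 := ap_b J (e u) (e v)
    rw [hπ, hπ, huv, b_smul_left, b_smul_right, b_self, h.q, h.orth u v hne'] at h0
    exact mul_ne_zero (left_ne_zero_of_mul_eq_one (hδ u)) (mul_ne_zero (left_ne_zero_of_mul_eq_one (hδ v)) h.two_a) h0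
  have hsupp : ∀ u, π u ∈ supp Q e a (ap J (e u)) := fun u => mem_supp.2 (by
    rw [hπ, co_smul, h.co_self, mul_one]; exact left_ne_zero_of_mul_eq_one (hδ u))
  have hS : ∀ u, u = i ∨ u = j → π u = i ∨ π u = j := fun u hu => by
    have := hcS u (by simpa using hu) (hsupp u)
    simpa using this
  have hT : ∀ u, u ≠ i → u ≠ j → π u ≠ i ∧ π u ≠ j := fun u hui huj => by
    have := Finset.disjoint_left.1 (hcT u (by simp [hui, huj])) (hsupp u)
    simpa using this
  obtain ⟨c, hc⟩ := smul_of_comm_refl h.two hr hnr.symm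
  have hc2 : c * c = 1 := by
    have h1 := ap_q J (vec e C)
    rw [hc, q_smul, hC.1] at h1
    exact mul_right_cancel₀ h.a0 (by rw [h1, one_mul])
  have hy : ∀ u, c * C (π u) = δ u * C u := fun u => by
    have h1 := co_mono h.toFrame (hδ u) (hπ u) (vec e C)
    rw [hc, co_smul, co_vec h.toFrame, co_vec h.toFrame] at h1
    exact h1
  -- vectors of the outer space orthogonal to the root
  have hz : ∀ u v, u ≠ i → u ≠ j → v ≠ i → v ≠ j → u ≠ v →
      ap J (C v • e u - C u • e v) = C v • e u - C u • e v := fun u v hui huj hvi hvj huv => by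
    refine hfix _ ?_ ?_ ?_
    · rw [co_sub, co_smul, co_smul, h.co_ne hui.symm, h.co_ne hvi.symm]; ring
    · rw [co_sub, co_smul, co_smul, h.co_ne huj.symm, h.co_ne hvj.symm]; ring
    · rw [b_sub_right, b_smul_right, b_smul_right, b_comm _ (e u), b_comm _ (e v), h.b_co, h.b_co,
        co_vec h.toFrame, co_vec h.toFrame]
      ring
  have hzc : ∀ u v, u ≠ i → u ≠ j → v ≠ i → v ≠ j → u ≠ v → ∀ w,
      C v * (δ u * (if w = π u then 1 else 0)) - C u * (δ v * (if w = π v then 1 else 0)) =
        C v * (if w = u then 1 else 0) - C u * (if w = v then 1 else 0) := fun u v hui huj hvi hvj huv w => by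
    have h1 := congrArg (co Q e a w) (hz u v hui huj hvi hvj huv)
    rw [sub_eq_add_neg, ← neg_smul] at h1
    simp only [ap_add, ap_smul, hπ, co_add, co_smul, h.co_e] at h1
    linear_combination h1
  rcases mul_self_eq_one_iff.1 hc2 with rfl | rfl
  · -- the root is fixed
    left
    by_contra hneq
    have hPfix : ∀ u, u = i ∨ u = j → π u = u ∧ δ u = 1 := by
      have key : ∀ u v, u ≠ v → (π u = u ∨ π u = v) → C u ≠ 0 → C u * C u ≠ C v * C v → π u = u ∧ δ u = 1 := by
        intro u v _ hu hu0 hne'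
        have h1 := hy u
        rw [one_mul] at h1
        rcases hu with hu | hu
        · rw [hu] at h1
          exact ⟨hu, mul_right_cancel₀ hu0 (by rw [one_mul, ← h1])⟩
        · rw [hu] at h1
          exact absurd (by rw [h1]; linear_combination -(C u * C u) * hδ u) hne'
      rintro u (rfl | rfl)
      · exact key u j hij (hS u (Or.inl rfl)) hi hneq
      · exact key u i hij.symm ((hS u (Or.inr rfl)).symm) hj (Ne.symm hneq)
    refine hn1 (ext_frame h.toFrame fun u => ?_)
    rw [ap_one]
    by_cases hu : u = i ∨ u = j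
    · obtain ⟨h1, h2⟩ := hPfix u hu
      rw [hπ, h1, h2, one_smul]
    push Not at hu
    obtain ⟨hui, huj⟩ := hu
    have h1 := hy u
    rw [one_mul] at h1
    by_cases hu0 : C u = 0
    · -- it is itself orthogonal to the root
      refine hfix _ (h.co_ne hui.symm) (h.co_ne huj.symm) ?_
      rw [b_comm, h.b_co, co_vec h.toFrame, hu0, mul_zero]
    suffices π u = u by
      rw [this] at h1
      rw [hπ, this, mul_right_cancel₀ hu0 (show δ u * C u = 1 * C u by rw [one_mul, ← h1]), one_smul]
    by_contra hpu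
    obtain ⟨hpi, hpj⟩ := hT u hui huj
    have e1 := hzc u (π u) hui huj hpi hpj (Ne.symm hpu) (π u)
    rw [if_pos rfl, if_neg (fun e0 => hpu (hπinj e0).symm), if_neg hpu] at e1
    rw [h1] at e1
    exact hu0 ((mul_eq_zero.1 (show C u * 2 = 0 by linear_combination e1 - C u * hδ u)).resolve_right h.two)
  · -- the root is negated
    right
    have hto : ∀ u v, u ≠ i → u ≠ j → v ≠ i → v ≠ j → u ≠ v → C u ≠ 0 → C v ≠ 0 → π u = v := by
      intro u v hui huj hvi hvj huv hu0 hv0
      have e1 := hzc u v hui huj hvi hvj huv (π u)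
      rw [if_pos rfl, if_neg (fun e0 => huv (hπinj e0))] at e1
      by_cases hpu : π u = u
      · exfalso
        rw [if_pos hpu, if_neg (by rw [hpu]; exact huv)] at e1
        have hd : δ u = 1 := mul_left_cancel₀ hv0 (by linear_combination e1)
        have h1 := hy u
        rw [hpu, hd] at h1
        exact hu0 ((mul_eq_zero.1 (show C u * 2 = 0 by linear_combination -h1)).resolve_right h.two)
      rw [if_neg hpu] at e1
      by_contra hv
      rw [if_neg hv] at e1
      exact mul_ne_zero hv0 (left_ne_zero_of_mul_eq_one (hδ u)) (by linear_combination e1)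
    have hkl' := hto k l hki hkj hli hlj hkl hk hl
    refine ⟨?_, fun m hmi hmj hmk hml => ?_⟩
    · have h1 := hy k
      rw [hkl', neg_one_mul] at h1
      linear_combination -(C k * C k) * hδ k + (C l - δ k * C k) * h1
    · by_contra hm
      exact hml ((hto k m hki hkj hmi hmj hmk.symm hk hm).symm.trans hkl')

/-- Two vanishing coordinates force a mirror. -/
theorem mir_of_two_zero (hcm : CentMono M e a) {C : Fin 5 → F} (hC : Root M a (vec e C)) {i j : Fin 5}
    (hij : i ≠ j) (hi : C i = 0) (hj : C j = 0) : Mir e (vec e C) := by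
  obtain ⟨s, hsM, hs⟩ := h.exists_sign {i, j}
  obtain ⟨r, hr⟩ := exists_refl h.nd (v := vec e C) (by rw [hC.1]; exact h.a0)
  refine h.mir_of_refl hr (hcm i j hij s hs r (hC.2 r hr) ?_)
  have hsC : ap s (vec e C) = vec e C := h.ext fun w => by
    rw [hs, co_vec h.toFrame]
    by_cases hw : w ∈ ({i, j} : Finset (Fin 5))
    · simp only [Finset.mem_insert, Finset.mem_singleton] at hw
      rcases hw with rfl | rfl
      · rw [hi, mul_zero]
      · rw [hj, mul_zero]
    · rw [if_neg hw, one_mul]
  have h1 := refl_conj hr s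
  rw [hsC] at h1
  have h2 := refl_unique h1 hr
  calc r * s = (s * r * s⁻¹) * s := by rw [h2]
    _ = s * r := by group

theorem five_sq (hcm : CentMono M e a) {C : Fin 5 → F} (hC : Root M a (vec e C)) (h0 : ∀ u, C u ≠ 0)
    (i j : Fin 5) : C i * C i = C j * C j := by
  by_cases hij : i = j
  · rw [hij]
  obtain ⟨k, l, m, hkl, hki, hkj, hli, hlj, hmi, hmj, hmk, hml⟩ := pick_three i j
  rcases h.dichotomy hcm hC hij (h0 i) (h0 j) hki hkj hli hlj hkl (h0 k) (h0 l) with h1 | h1
  · exact h1
  · exact absurd (h1.2 m hmi hmj hmk hml) (h0 m)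

/-- A root supported on the first four coordinates, with a distinguished coordinate. -/
theorem four_normal (hcm : CentMono M e a) {C : Fin 5 → F} (hC : Root M a (vec e C)) {o : Fin 5}
    (ho : C o = 0) (h0 : ∀ u, u ≠ o → C u ≠ 0) :
    ∃ c d : F, c ≠ 0 ∧ d ≠ 0 ∧ Root M a (vec e ![c, c, c, d, 0]) := by
  classical
  obtain ⟨π, hπ, hπ4⟩ := exists_even_move 4 o
  obtain ⟨D, hD⟩ : ∃ D : Fin 5 → F, D = fun u => C (π u) := ⟨_, rfl⟩
  have hDr : Root M a (vec e D) := by
    have := h.root_mono hC hπ (ε := fun _ => 1) fun _ => one_mul 1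
    simpa [hD] using this
  have hD0 : ∀ u, u ≠ 4 → D u ≠ 0 := fun u hu => by
    rw [hD]; exact h0 _ fun e0 => hu (π.injective (e0.trans hπ4.symm))
  have d4 : D 4 = 0 := by rw [hD, ← ho, ← hπ4]
  have hd : ∀ u v k l : Fin 5, u ≠ v → k ≠ u → k ≠ v → l ≠ u → l ≠ v → k ≠ l → u ≠ 4 → v ≠ 4 →
      k ≠ 4 → l ≠ 4 → D u * D u = D v * D v ∨ D k * D k = D l * D l :=
    fun u v k l huv hku hkv hlu hlv hkl hu hv hk hl =>
      (h.dichotomy hcm hDr huv (hD0 u hu) (hD0 v hv) hku hkv hlu hlv hkl (hD0 k hk) (hD0 l hl)).imp_right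
        And.left
  have h3 := three_equal (hd 0 1 2 3 (by decide) (by decide) (by decide) (by decide) (by decide)
      (by decide) (by decide) (by decide) (by decide) (by decide))
    (hd 0 2 1 3 (by decide) (by decide) (by decide) (by decide) (by decide) (by decide) (by decide)
      (by decide) (by decide) (by decide))
    (hd 0 3 1 2 (by decide) (by decide) (by decide) (by decide) (by decide) (by decide) (by decide)
      (by decide) (by decide) (by decide))
  obtain ⟨p, σ, hσ, hσ4, hp, hE⟩ : ∃ (p : Fin 5) (σ : Equiv.Perm (Fin 5)), Equiv.Perm.sign σ = 1 ∧ σ 4 = 4 ∧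
      σ 3 = p ∧ D (σ 0) * D (σ 0) = D (σ 1) * D (σ 1) ∧ D (σ 1) * D (σ 1) = D (σ 2) * D (σ 2) := by
    rcases h3 with ⟨e1, e2⟩ | ⟨e1, e2⟩ | ⟨e1, e2⟩ | ⟨e1, e2⟩
    · exact ⟨3, 1, map_one _, rfl, rfl, e1, e2⟩
    · refine ⟨2, Equiv.swap 3 2 * Equiv.swap 0 1, by decide, by decide, by decide, ?_, ?_⟩
      · rw [show (Equiv.swap (3 : Fin 5) 2 * Equiv.swap 0 1 : Equiv.Perm (Fin 5)) 0 = 1 by decide,
          show (Equiv.swap (3 : Fin 5) 2 * Equiv.swap 0 1 : Equiv.Perm (Fin 5)) 1 = 0 by decide]
        exact e1.symm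
      · rw [show (Equiv.swap (3 : Fin 5) 2 * Equiv.swap 0 1 : Equiv.Perm (Fin 5)) 1 = 0 by decide,
          show (Equiv.swap (3 : Fin 5) 2 * Equiv.swap 0 1 : Equiv.Perm (Fin 5)) 2 = 3 by decide]
        exact e1.trans e2
    · refine ⟨1, Equiv.swap 3 1 * Equiv.swap 0 2, by decide, by decide, by decide, ?_, ?_⟩
      · rw [show (Equiv.swap (3 : Fin 5) 1 * Equiv.swap 0 2 : Equiv.Perm (Fin 5)) 0 = 2 by decide,
          show (Equiv.swap (3 : Fin 5) 1 * Equiv.swap 0 2 : Equiv.Perm (Fin 5)) 1 = 3 by decide]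
        exact e2
      · rw [show (Equiv.swap (3 : Fin 5) 1 * Equiv.swap 0 2 : Equiv.Perm (Fin 5)) 1 = 3 by decide,
          show (Equiv.swap (3 : Fin 5) 1 * Equiv.swap 0 2 : Equiv.Perm (Fin 5)) 2 = 0 by decide]
        exact (e1.trans e2).symm
    · refine ⟨0, Equiv.swap 3 0 * Equiv.swap 1 2, by decide, by decide, by decide, ?_, ?_⟩
      · rw [show (Equiv.swap (3 : Fin 5) 0 * Equiv.swap 1 2 : Equiv.Perm (Fin 5)) 0 = 3 by decide,
          show (Equiv.swap (3 : Fin 5) 0 * Equiv.swap 1 2 : Equiv.Perm (Fin 5)) 1 = 2 by decide]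
        exact e2.symm
      · rw [show (Equiv.swap (3 : Fin 5) 0 * Equiv.swap 1 2 : Equiv.Perm (Fin 5)) 1 = 2 by decide,
          show (Equiv.swap (3 : Fin 5) 0 * Equiv.swap 1 2 : Equiv.Perm (Fin 5)) 2 = 1 by decide]
        exact e1.symm
  have hne : ∀ u, u ≠ 4 → D (σ u) ≠ 0 := fun u hu => hD0 _ fun e0 => hu (σ.injective (e0.trans hσ4.symm))
  obtain ⟨E, hEdef⟩ : ∃ E : Fin 5 → F, E = fun u => D (σ u) := ⟨_, rfl⟩
  refine ⟨E 0, E 3, hEdef ▸ hne 0 (by decide), hEdef ▸ hne 3 (by decide), ?_⟩
  have hε : ∀ u, (![1, E 0 / E 1, E 0 / E 2, 1, 1] : Fin 5 → F) u *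
      (![1, E 0 / E 1, E 0 / E 2, 1, 1] : Fin 5 → F) u = 1 := by
    have h1 : E 1 ≠ 0 := hEdef ▸ hne 1 (by decide)
    have h2 : E 2 ≠ 0 := hEdef ▸ hne 2 (by decide)
    intro u
    fin_cases u <;> simp <;> field_simp
    · rw [pow_two, pow_two, hEdef]; exact hE.1
    · rw [pow_two, pow_two, hEdef]; exact hE.1.trans hE.2
  have h4 : Root M a (vec e E) := by
    have := h.root_mono hDr hσ (ε := fun _ => 1) fun _ => one_mul 1
    simpa [hEdef] using this
  have h5 := h.root_mono h4 (map_one _) hε
  have e4 : E 4 = 0 := by rw [hEdef]; simp only [hσ4, d4]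
  have h1 : E 1 ≠ 0 := hEdef ▸ hne 1 (by decide)
  have h2 : E 2 ≠ 0 := hEdef ▸ hne 2 (by decide)
  convert h5 using 2
  funext u
  fin_cases u <;> simp [e4, h1, h2]

/-- No root of support five or four in characteristic at least five. -/
theorem no_big (hcm : CentMono M e a) (h3 : (3 : F) ≠ 0) {C : Fin 5 → F} (hC : Root M a (vec e C)) :
    ∃ i j, i ≠ j ∧ C i = 0 ∧ C j = 0 := by
  classical
  have h2 := h.two
  -- full support
  have hfive : ∀ C : Fin 5 → F, Root M a (vec e C) → (∀ u, C u ≠ 0) →
      (11 : F) = 0 ∧ ∃ c : F, c ≠ 0 ∧ Root M a (vec e ![c, c, c, c, 0]) := by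
    intro C hC hne
    obtain ⟨c, hc⟩ : ∃ c, c = C 0 := ⟨_, rfl⟩
    have hc0 : c ≠ 0 := hc ▸ hne 0
    have hsq : ∀ u, C u * C u = c * c := fun u => hc ▸ h.five_sq hcm hC hne u 0
    have hε : ∀ u, (c / C u) * (c / C u) = 1 := fun u => by
      have := hne u
      field_simp
      linear_combination -hsq u
    have hK : Root M a (vec e fun _ => c) := by
      have := h.root_mono hC (map_one _) hε
      convert this using 2
      funext u
      rw [Equiv.Perm.one_apply, div_mul_cancel₀ _ (hne u)]
    have hK' : Root M a (vec e ![-c, c, c, c, c]) := by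
      have := h.root_mono hK (map_one _) (ε := ![-1, 1, 1, 1, 1]) (fun u => by fin_cases u <;> simp)
      convert this using 2
      funext u
      fin_cases u <;> simp
    have hsum : 5 * (c * c) = 1 := by
      have := h.root_sum hK
      simp only [Fin.sum_univ_five] at this
      linear_combination this
    have h5 : (5 : F) ≠ 0 := fun e0 => zero_ne_one (α := F) (by rw [← hsum, e0, zero_mul])
    have hnew := h.root_refl hK' hK
    obtain ⟨k, hk⟩ : ∃ k : F, k = 2 * (3 * (c * c)) := ⟨_, rfl⟩
    have hG : Root M a (vec e ![c + k * c, c - k * c, c - k * c, c - k * c, c - k * c]) := by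
      convert hnew using 2
      funext u
      fin_cases u <;> simp [Fin.sum_univ_five, hk, -mul_eq_mul_left_iff, -mul_eq_mul_right_iff] <;> ring
    have hk5 : 5 * k = 6 := by rw [hk]; linear_combination 6 * hsum
    have hm : c - k * c ≠ 0 := fun e0 => by
      rcases mul_eq_zero.1 (show c * (1 - k) = 0 by linear_combination e0) with e1 | e1
      · exact hc0 e1
      · exact one_ne_zero (α := F) (by linear_combination -hk5 - 5 * e1)
    by_cases hp : c + k * c = 0
    · have h11 : (11 : F) = 0 := by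
        rcases mul_eq_zero.1 (show c * (1 + k) = 0 by linear_combination hp) with e1 | e1
        · exact absurd e1 hc0
        · linear_combination 5 * e1 - hk5
      refine ⟨h11, c - k * c, hm, ?_⟩
      have := h.root_mono hG (π := Equiv.swap 0 4 * Equiv.swap 1 2) (by decide) (ε := fun _ => 1)
        (fun _ => one_mul 1)
      convert this using 2
      funext u
      fin_cases u <;> simp [Equiv.swap_apply_def, hp]
    · exfalso
      have hall : ∀ u, (![c + k * c, c - k * c, c - k * c, c - k * c, c - k * c] : Fin 5 → F) u ≠ 0 := by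
        intro u; fin_cases u <;> simp [hp, hm]
      have h01 := h.five_sq hcm hG hall 0 1
      simp at h01
      have hk0 : k = 0 := by
        have : k * (4 * (c * c)) = 0 := by linear_combination h01
        exact (mul_eq_zero.1 this).resolve_right (mul_ne_zero (by
          rw [show (4 : F) = 2 * 2 by norm_num]; exact mul_ne_zero h2 h2) (mul_ne_zero hc0 hc0))
      rw [hk0, mul_zero] at hk5
      exact mul_ne_zero h2 h3 (by linear_combination -hk5)
  -- exactly one vanishing coordinate
  have hfour : ∀ C : Fin 5 → F, Root M a (vec e C) → ∀ o, C o = 0 → (∀ u, u ≠ o → C u ≠ 0) →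
      (13 : F) = 0 ∧ ∃ D : Fin 5 → F, Root M a (vec e D) ∧ ∀ u, D u ≠ 0 := by
    intro C hC o ho hne
    obtain ⟨c, d, hc, hd, hK⟩ := h.four_normal hcm hC ho hne
    have hsum : 3 * (c * c) + d * d = 1 := by
      have := h.root_sum hK
      simp [Fin.sum_univ_five] at this
      linear_combination this
    have hK' : Root M a (vec e ![c, c, c, 0, d]) := by
      have := h.root_mono hK (π := Equiv.swap 3 4 * Equiv.swap 0 1) (by decide) (ε := fun _ => 1)
        (fun _ => one_mul 1)
      convert this using 2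
      funext u
      fin_cases u <;> simp [Equiv.swap_apply_def]
    obtain ⟨k, hk⟩ : ∃ k : F, k = 2 * (3 * (c * c)) := ⟨_, rfl⟩
    have hk0 : k ≠ 0 := hk ▸ mul_ne_zero h2 (mul_ne_zero h3 (mul_ne_zero hc hc))
    have hG : Root M a (vec e ![c - k * c, c - k * c, c - k * c, d, -(k * d)]) := by
      convert h.root_refl hK' hK using 2
      funext u
      fin_cases u <;> simp [Fin.sum_univ_five, hk, -mul_eq_mul_left_iff, -mul_eq_mul_right_iff] <;> ring
    by_cases he : 1 - k = 0
    · exfalso
      have hdd : d * d = 3 * (c * c) := mul_left_cancel₀ h2 (by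
        linear_combination 2 * hsum + 2 * he + 2 * hk)
      have hK2 : Root M a (vec e ![-c, c, c, d, 0]) := by
        have := h.root_mono hK (map_one _) (ε := ![-1, 1, 1, 1, 1]) (fun u => by fin_cases u <;> simp)
        convert this using 2
        funext u
        fin_cases u <;> simp
      obtain ⟨t, ht⟩ : ∃ t : F, t = 2 * (1 - 2 * (c * c)) := ⟨_, rfl⟩
      have hH : Root M a (vec e ![c + t * c, c - t * c, c - t * c, d - t * d, 0]) := by
        convert h.root_refl hK2 hK using 2
        funext u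
        fin_cases u <;> simp [Fin.sum_univ_five, ht, -mul_eq_mul_left_iff, -mul_eq_mul_right_iff] <;>
          first
          | linear_combination (-2 * c) * hsum
          | linear_combination (2 * c) * hsum
          | linear_combination (2 * d) * hsum
          | linear_combination (-2 * d) * hsum
      have h3t : 3 * t = 4 := by rw [ht]; linear_combination 2 * he + 2 * hk
      have hmt : 1 - t ≠ 0 := fun e0 => one_ne_zero (α := F) (by linear_combination -(h3t) - 3 * e0)
      have hcm' : c - t * c ≠ 0 := fun e0 => mul_ne_zero hmt hc (by linear_combination e0)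
      have hdm : d - t * d ≠ 0 := fun e0 => mul_ne_zero hmt hd (by linear_combination e0)
      by_cases hp : c + t * c = 0
      · have hmir := h.mir_of_two_zero hcm hH (i := 0) (j := 4) (by decide) (by simp [hp]) (by simp)
        have h4 := h.mir_card hmir
        have hsub : ({1, 2, 3} : Finset (Fin 5)) ⊆
            supp Q e a (vec e ![c + t * c, c - t * c, c - t * c, d - t * d, 0]) := fun u hu => by
          rw [mem_supp, co_vec h.toFrame]
          simp only [Finset.mem_insert, Finset.mem_singleton] at hu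
          rcases hu with rfl | rfl | rfl <;> simp [hcm', hdm]
        have h5 := (Finset.card_le_card hsub).trans h4
        simp at h5
      · have hall : ∀ u : Fin 5, u ≠ 4 →
            (![c + t * c, c - t * c, c - t * c, d - t * d, 0] : Fin 5 → F) u ≠ 0 := by
          intro u hu; fin_cases u <;> simp [hp, hcm', hdm] at hu ⊢
        have h1 := h.dichotomy hcm hH (i := 0) (j := 1) (k := 2) (l := 3) (by decide) (hall 0 (by decide))
          (hall 1 (by decide)) (by decide) (by decide) (by decide) (by decide) (by decide)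
          (hall 2 (by decide)) (hall 3 (by decide))
        simp at h1
        rcases h1 with h1 | ⟨h1, -⟩
        · have h4 : (4 * (c * c)) * t = 0 := by linear_combination h1
          rcases mul_eq_zero.1 h4 with e1 | e1
          · exact mul_ne_zero (mul_ne_zero h2 h2) (mul_ne_zero hc hc) (by linear_combination e1)
          · rw [e1, mul_zero] at h3t
            exact mul_ne_zero h2 h2 (by linear_combination -h3t)
        · have h4 : ((1 - t) * (1 - t)) * (c * c - d * d) = 0 := by linear_combination h1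
          rcases mul_eq_zero.1 h4 with e1 | e1
          · exact hmt (mul_self_eq_zero.1 e1)
          · exact mul_ne_zero h2 (mul_ne_zero hc hc) (by linear_combination -e1 - hdd)
    · have hall : ∀ u, (![c - k * c, c - k * c, c - k * c, d, -(k * d)] : Fin 5 → F) u ≠ 0 := by
        have : c - k * c ≠ 0 := fun e0 => mul_ne_zero hc he (by linear_combination e0)
        intro u; fin_cases u <;> simp [this, hd, hk0]
      have h1 := h.five_sq hcm hG hall 3 4
      have h2' := h.five_sq hcm hG hall 0 3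
      simp at h1 h2'
      have hkk : k = -1 := by
        have : (1 - k) * (1 + k) * (d * d) = 0 := by linear_combination h1
        rcases mul_eq_zero.1 ((mul_eq_zero.1 this).resolve_right (mul_ne_zero hd hd)) with e1 | e1
        · exact absurd e1 he
        · linear_combination e1
      refine ⟨?_, _, hG, hall⟩
      rw [hkk] at h2' hk
      linear_combination (-7 : F) * hk - 6 * hsum - 6 * h2'
  by_contra hcon
  push Not at hcon
  have hbig : ∀ C : Fin 5 → F, Root M a (vec e C) → (∀ u, C u ≠ 0) → False := by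
    intro C hC hne
    obtain ⟨h11, c, hc, hK⟩ := hfive C hC hne
    obtain ⟨h13, -⟩ := hfour _ hK 4 (by simp) (fun u hu => by fin_cases u <;> simp [hc] at hu ⊢)
    exact h2 (by linear_combination h13 - h11)
  by_cases hz : ∃ o, C o = 0
  · obtain ⟨o, ho⟩ := hz
    obtain ⟨-, D, hD, hD0⟩ := hfour C hC o ho fun u hu hu0 => hcon o u (Ne.symm hu) ho hu0
    exact hbig D hD hD0
  · push Not at hz
    exact hbig C hC hz

/-- Conjugating a pair of signs to a pair of signs. -/
theorem mono_of_pair (hcm : CentMono M e a) {g : Grp Q} (hg : g ∈ M) {u v k l : Fin 5} (huv : u ≠ v)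
    (hkl : k ≠ l) {s t : Grp Q} (hs : Sign e a s {u, v}) (ht : Sign e a t {k, l})
    (hgs : g * s = t * g) : Mono e g := by
  obtain ⟨π, hπ, hπu, hπv⟩ := exists_even_pair huv hkl
  obtain ⟨p, hp⟩ := exists_mono_iso h.toFrame π (fun _ => 1) fun _ => one_mul 1
  simp only [one_smul] at hp
  have hpM := h.perm π hπ p hp
  have hps : p * s = t * p := ext_frame h.toFrame fun w => by
    rw [ap_mul, ap_mul, h.sign_apply hs, ap_smul, hp, h.sign_apply ht]
    congr 1
    by_cases hw : w ∈ ({u, v} : Finset (Fin 5))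
    · rw [if_pos hw, if_pos]
      simp only [Finset.mem_insert, Finset.mem_singleton] at hw ⊢
      rcases hw with rfl | rfl
      exacts [Or.inl hπu, Or.inr hπv]
    · rw [if_neg hw, if_neg]
      simp only [Finset.mem_insert, Finset.mem_singleton, not_or] at hw ⊢
      exact ⟨fun e0 => hw.1 (π.injective (e0.trans hπu.symm)), fun e0 => hw.2 (π.injective (e0.trans hπv.symm))⟩
  have hc : (p⁻¹ * g) * s = s * (p⁻¹ * g) := by
    rw [mul_assoc, hgs, show t = p * s * p⁻¹ by rw [hps, mul_inv_cancel_right]]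
    group
  have hpmono : Mono e p := fun w => ⟨π w, 1, by rw [hp, one_smul]⟩
  have := Frame.mono_mul hpmono (hcm u v huv s hs _ (M.mul_mem (M.inv_mem hpM) hg) hc)
  rwa [mul_inv_cancel_left] at this

/-- Monomial when centralisers of sign pairs are, in characteristic at least five. -/
theorem mono_all (hcm : CentMono M e a) (h3 : (3 : F) ≠ 0) {g : Grp Q} (hg : g ∈ M) : Mono e g := by
  classical
  have hmir : ∀ u, Mir e (ap g (e u)) := fun u => by
    have hR : Root M a (vec e fun i => co Q e a i (ap g (e u))) := by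
      rw [vec_co h.toFrame]; exact h.root_map (h.root_e u) hg
    obtain ⟨i, j, hij, hi, hj⟩ := h.no_big hcm h3 hR
    have := h.mir_of_two_zero hcm hR hij hi hj
    rwa [vec_co h.toFrame] at this
  let S : Fin 5 → Finset (Fin 5) := fun u => supp Q e a (ap g (e u))
  have hS1 : ∀ u, 1 ≤ (S u).card := fun u => Finset.card_pos.2 (Finset.nonempty_iff_ne_empty.2 fun e0 =>
    h.e_ne u (ap_inj g (by rw [h.supp_eq_empty e0, ap_zero])))
  have hS2 : ∀ u, (S u).card ≤ 2 := fun u => h.mir_card (hmir u)
  have hmeet : ∀ u v, u ≠ v → S u = S v ∨ Disjoint (S u) (S v) := fun u v huv => by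
    by_cases hd : Disjoint (S u) (S v)
    · exact Or.inr hd
    refine Or.inl ?_
    have hone : ∀ w, S u ∩ S v ≠ {w} := fun w hw => by
      have h0 := h.b_eq (ap g (e u)) (ap g (e v))
      rw [ap_b, h.orth u v huv, Finset.sum_eq_single w] at h0
      · have hwm : w ∈ S u ∩ S v := by rw [hw]; exact Finset.mem_singleton_self w
        rw [Finset.mem_inter] at hwm
        exact mul_ne_zero h.two_a (mul_ne_zero (mem_supp.1 hwm.1) (mem_supp.1 hwm.2)) h0.symm
      · intro m _ hm
        by_contra hne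
        have hmm : m ∈ S u ∩ S v := Finset.mem_inter.2
          ⟨mem_supp.2 (left_ne_zero_of_mul hne), mem_supp.2 (right_ne_zero_of_mul hne)⟩
        rw [hw, Finset.mem_singleton] at hmm
        exact hm hmm
      · intro hw'; exact absurd (Finset.mem_univ w) hw'
    have h1 : 1 ≤ (S u ∩ S v).card := Finset.card_pos.2 (Finset.nonempty_iff_ne_empty.2 fun e0 =>
      hd (Finset.disjoint_iff_inter_eq_empty.2 e0))
    have h2 : (S u ∩ S v).card ≠ 1 := fun e0 => by
      obtain ⟨w, hw⟩ := Finset.card_eq_one.1 e0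
      exact hone w hw
    have e1 : S u ∩ S v = S u := Finset.eq_of_subset_of_card_le Finset.inter_subset_left
      (by have := hS2 u; omega)
    have e2 : S u ∩ S v = S v := Finset.eq_of_subset_of_card_le Finset.inter_subset_right
      (by have := hS2 v; omega)
    exact e1.symm.trans e2
  obtain ⟨u, v, huv, hcard⟩ : ∃ u v, u ≠ v ∧ (S u ∪ S v).card ≤ 2 := by
    by_cases heq : ∃ u v, u ≠ v ∧ S u = S v
    · obtain ⟨u, v, huv, e0⟩ := heq
      exact ⟨u, v, huv, by rw [e0, Finset.union_self]; exact hS2 v⟩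
    push Not at heq
    have hdis : ((Finset.univ : Finset (Fin 5)) : Set (Fin 5)).PairwiseDisjoint S := fun u _ v _ huv =>
      (hmeet u v huv).resolve_left (heq u v huv)
    have hbound : ∑ u, (S u).card ≤ 5 := by
      rw [← Finset.card_biUnion hdis]
      exact (Finset.card_le_univ _).trans_eq (Fintype.card_fin 5)
    have : (S 0).card = 1 ∧ (S 1).card = 1 := by
      rw [Fin.sum_univ_five] at hbound
      have := hS1 0; have := hS1 1; have := hS1 2; have := hS1 3; have := hS1 4
      omega
    exact ⟨0, 1, by decide, (Finset.card_union_le _ _).trans (by omega)⟩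
  obtain ⟨P, hP, hP2⟩ := Finset.exists_superset_card_eq (n := 2) hcard (by simp)
  obtain ⟨k, l, hkl, rfl⟩ := Finset.card_eq_two.1 hP2
  obtain ⟨s, hsM, hs⟩ := h.exists_sign {u, v}
  obtain ⟨t, htM, ht⟩ := h.exists_sign {k, l}
  refine h.mono_of_pair hcm hg huv hkl hs ht (ext_frame h.toFrame fun w => ?_)
  rw [ap_mul, ap_mul, h.sign_apply hs, ap_smul]
  have hpair : ∀ z, z = u ∨ z = v → supp Q e a (ap g (e z)) ⊆ {k, l} := fun z hz => by
    rcases hz with rfl | rfl
    · exact Finset.subset_union_left.trans hP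
    · exact Finset.subset_union_right.trans hP
  by_cases hw : w ∈ ({u, v} : Finset (Fin 5))
  · rw [if_pos hw]
    simp only [Finset.mem_insert, Finset.mem_singleton] at hw
    refine h.ext fun m => ?_
    rw [co_smul, ht]
    by_cases hm : m ∈ ({k, l} : Finset (Fin 5))
    · rw [if_pos hm]
    · rw [notMem_supp.1 fun h1 => hm (hpair w hw h1), mul_zero, mul_zero]
  · rw [if_neg hw, one_smul]
    simp only [Finset.mem_insert, Finset.mem_singleton, not_or] at hw
    refine h.ext fun m => ?_
    rw [ht]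
    by_cases hm : m ∈ ({k, l} : Finset (Fin 5))
    swap
    · rw [if_neg hm, one_mul]
    suffices h0 : co Q e a m (ap g (e w)) = 0 by rw [h0, mul_zero]
    have hor : ∀ z, z = u ∨ z = v → co Q e a k (ap g (e z)) * co Q e a k (ap g (e w)) +
        co Q e a l (ap g (e z)) * co Q e a l (ap g (e w)) = 0 := fun z hz => by
      have h0 := h.b_eq (ap g (e z)) (ap g (e w))
      rw [ap_b, h.orth z w (by rcases hz with rfl | rfl; exacts [Ne.symm hw.1, Ne.symm hw.2]),
        ← Finset.sum_subset (Finset.subset_univ ({k, l} : Finset (Fin 5))) (fun p _ hp => by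
          rw [notMem_supp.1 fun h1 => hp (hpair z hz h1), zero_mul]), Finset.sum_pair hkl] at h0
      exact (mul_eq_zero.1 h0.symm).resolve_left h.two_a
    have hself : ∀ z z', (z = u ∨ z = v) → (z' = u ∨ z' = v) →
        co Q e a k (ap g (e z)) * co Q e a k (ap g (e z')) +
          co Q e a l (ap g (e z)) * co Q e a l (ap g (e z')) = if z = z' then 1 else 0 := fun z z' hz hz' => by
      have h0 := h.b_eq (ap g (e z)) (ap g (e z'))
      rw [ap_b, h.b_e, ← Finset.sum_subset (Finset.subset_univ ({k, l} : Finset (Fin 5))) (fun p _ hp => by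
          rw [notMem_supp.1 fun h1 => hp (hpair z hz h1), zero_mul]), Finset.sum_pair hkl] at h0
      refine mul_left_cancel₀ h.two_a (h0.symm.trans ?_)
      split_ifs <;> ring
    have suu := hself u u (Or.inl rfl) (Or.inl rfl)
    have svv := hself v v (Or.inr rfl) (Or.inr rfl)
    have suv := hself u v (Or.inl rfl) (Or.inr rfl)
    rw [if_pos rfl] at suu svv
    rw [if_neg huv] at suv
    have ou := hor u (Or.inl rfl)
    have ov := hor v (Or.inr rfl)
    obtain ⟨c1, hc1⟩ : ∃ c, co Q e a k (ap g (e u)) = c := ⟨_, rfl⟩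
    obtain ⟨c2, hc2⟩ : ∃ c, co Q e a l (ap g (e u)) = c := ⟨_, rfl⟩
    obtain ⟨d1, hd1⟩ : ∃ c, co Q e a k (ap g (e v)) = c := ⟨_, rfl⟩
    obtain ⟨d2, hd2⟩ : ∃ c, co Q e a l (ap g (e v)) = c := ⟨_, rfl⟩
    rw [hc1, hc2] at suu ou suv
    rw [hd1, hd2] at svv ov suv
    have hdet : (c1 * d2 - c2 * d1) * (c1 * d2 - c2 * d1) = 1 := by
      linear_combination (d1 * d1 + d2 * d2) * suu + svv - (c1 * d1 + c2 * d2) * suv
    have hd0 : c1 * d2 - c2 * d1 ≠ 0 := left_ne_zero_of_mul_eq_one hdet
    simp only [Finset.mem_insert, Finset.mem_singleton] at hm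
    rcases hm with rfl | rfl
    · exact (mul_eq_zero.1 (show (c1 * d2 - c2 * d1) * co Q e a m (ap g (e w)) = 0 by
        linear_combination d2 * ou - c2 * ov)).resolve_left hd0
    · exact (mul_eq_zero.1 (show (c1 * d2 - c2 * d1) * co Q e a m (ap g (e w)) = 0 by
        linear_combination c1 * ov - d1 * ou)).resolve_left hd0

end Over5

end CfsgLib.Orth.FiveMax
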