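import Cfsg.Agent.Lib.Classical.FiveMax.Triple
import Cfsg.Agent.Lib.Classical.FiveMax.FrameRoots

set_option autoImplicit false
set_option linter.unusedSectionVars false

/-!
An overgroup of the monomial group of an orthogonal frame in dimension five over a prime field is monomial or
contains `Ω`.
-/

namespace CfsgLib.Orth.FiveMax

open Matrix DecompMax FrameMax

variable {F : Type*} [Field F] [Finite F] {ι : Type} [Fintype ι] [DecidableEq ι]
variable {Q : QuadraticForm F (ι → F)} {e : Fin 5 → ι → F} {a : F} {M : Subgroup (Grp Q)}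

local notation "B" => QuadraticMap.polar (DFunLike.coe Q)

/-- Supported away from two coordinates. -/
def Out (Q : QuadraticForm F (ι → F)) (e : Fin 5 → ι → F) (a : F) (p q : Fin 5) (y : ι → F) : Prop :=
  co Q e a p y = 0 ∧ co Q e a q y = 0

theorem out_ap {p q : Fin 5} {x : Grp Q} (hp : ap x (e p) = e p) (hq : ap x (e q) = e q) {y : ι → F}
    (hy : Out Q e a p q y) : Out Q e a p q (ap x y) := by
  obtain ⟨h1, h2⟩ := hy
  refine ⟨?_, ?_⟩
  · rw [co, ← hp, ap_b]; exact h1
  · rw [co, ← hq, ap_b]; exact h2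

/-- The isometries fixing two coordinates which agree elsewhere with a member. -/
def half (M : Subgroup (Grp Q)) (e : Fin 5 → ι → F) (a : F) (p q : Fin 5) : Subgroup (Grp Q) where
  carrier := {x | (ap x (e p) = e p ∧ ap x (e q) = e q) ∧
    ∃ g ∈ M, ∀ y, Out Q e a p q y → ap g y = ap x y}
  mul_mem' {x x'} hx hx' := by
    obtain ⟨⟨hp, hq⟩, g, hg, hgx⟩ := hx
    obtain ⟨⟨hp', hq'⟩, g', hg', hgx'⟩ := hx'
    refine ⟨⟨by rw [ap_mul, hp', hp], by rw [ap_mul, hq', hq]⟩, g * g', M.mul_mem hg hg', fun y hy => ?_⟩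
    rw [ap_mul, ap_mul, hgx' y hy, hgx _ (out_ap hp' hq' hy)]
  one_mem' := ⟨⟨ap_one _, ap_one _⟩, 1, M.one_mem, fun y _ => rfl⟩
  inv_mem' {x} hx := by
    obtain ⟨⟨hp, hq⟩, g, hg, hgx⟩ := hx
    have hp' : ap x⁻¹ (e p) = e p := by conv_lhs => rw [← hp, ap_inv_ap]
    have hq' : ap x⁻¹ (e q) = e q := by conv_lhs => rw [← hq, ap_inv_ap]
    refine ⟨⟨hp', hq'⟩, g⁻¹, M.inv_mem hg, fun y hy => ?_⟩
    have h1 := hgx _ (out_ap hp' hq' hy)
    rw [ap_ap_inv] at h1
    conv_lhs => rw [← h1, ap_inv_ap]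

/-- The rotations among them. -/
noncomputable def trot (hB : Nondeg Q) (M : Subgroup (Grp Q)) (e : Fin 5 → ι → F) (a : F) (p q : Fin 5) :
    Subgroup (Grp Q) :=
  half M e a p q ⊓ (dickson hB).ker

theorem exists_fixed_of_pow' {p : ℕ} [Fact p.Prime] [CharP F p] {u : Grp Q} {k : ℕ}
    (hu : u ^ (p ^ k) = 1) (P : Submodule F (ι → F)) (hP : ∀ x ∈ P, ap u x ∈ P) {x : ι → F} (hx : x ∈ P)
    (hx0 : x ≠ 0) : ∃ y ∈ P, y ≠ 0 ∧ ap u y = y := by
  classical
  obtain ⟨D, hD⟩ : ∃ D : Matrix ι ι F, D = ((u : GL ι F) : Matrix ι ι F) - 1 := ⟨_, rfl⟩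
  haveI : Nonempty ι := by
    by_contra hc
    exact hx0 (funext fun i => (hc ⟨i⟩).elim)
  have hDp : D ^ (p ^ k) = 0 := by
    rw [hD, sub_pow_char_pow_of_commute p k (Commute.one_right _), one_pow, ← Units.val_pow_eq_pow_val,
      ← SubgroupClass.coe_pow, hu]
    simp
  have hDP : ∀ k : ℕ, D ^ k *ᵥ x ∈ P := fun k => by
    induction k with
    | zero => rwa [pow_zero, Matrix.one_mulVec]
    | succ k ih =>
      rw [pow_succ', ← Matrix.mulVec_mulVec, hD, Matrix.sub_mulVec, Matrix.one_mulVec]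
      rw [hD] at ih
      exact sub_mem (hP _ ih) ih
  have hex : ∃ k, D ^ k *ᵥ x = 0 := ⟨p ^ k, by rw [hDp, Matrix.zero_mulVec]⟩
  have hk : Nat.find hex ≠ 0 := fun e0 => hx0 (by
    have := Nat.find_spec hex
    rwa [e0, pow_zero, Matrix.one_mulVec] at this)
  obtain ⟨l, hl⟩ := Nat.exists_eq_succ_of_ne_zero hk
  refine ⟨_, hDP l, Nat.find_min hex (by omega), ?_⟩
  have h0 := Nat.find_spec hex
  rw [hl, Nat.succ_eq_add_one, pow_succ', ← Matrix.mulVec_mulVec, hD, Matrix.sub_mulVec,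
    Matrix.one_mulVec, sub_eq_zero] at h0
  rw [hD]
  exact h0

namespace Over5

variable (h : Over5 Q e a M)
include h

theorem out_of_supp {T : Finset (Fin 5)} {p q : Fin 5} (hTm : ∀ u, u ∈ T ↔ u ≠ p ∧ u ≠ q) {y : ι → F}
    (hy : supp Q e a y ⊆ T) : Out Q e a p q y :=
  ⟨notMem_supp.1 fun h1 => ((hTm p).1 (hy h1)).1 rfl, notMem_supp.1 fun h1 => ((hTm q).1 (hy h1)).2 rfl⟩

theorem supp_of_out {T : Finset (Fin 5)} {p q : Fin 5} (hTm : ∀ u, u ∈ T ↔ u ≠ p ∧ u ≠ q) {y : ι → F}
    (hy : Out Q e a p q y) : supp Q e a y ⊆ T := fun u hu => (hTm u).2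
  ⟨fun e0 => mem_supp.1 hu (by rw [e0]; exact hy.1), fun e0 => mem_supp.1 hu (by rw [e0]; exact hy.2)⟩

theorem rot_of_trot {T : Finset (Fin 5)} {p q : Fin 5} (hTm : ∀ u, u ∈ T ↔ u ≠ p ∧ u ≠ q) {x : Grp Q}
    (hx : x ∈ trot h.nd M e a p q) : Rot5 Q e a T x := by
  obtain ⟨⟨⟨hp, hq⟩, -⟩, hd⟩ := hx
  refine ⟨fun c hc => ?_, fun y hy => h.supp_of_out hTm (out_ap hp hq (h.out_of_supp hTm hy)),
    fun _ => MonoidHom.mem_ker.1 hd⟩
  rw [hTm] at hc
  by_cases h1 : c = p
  · rw [h1]; exact hp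
  · rw [not_and, not_not] at hc
    rw [hc h1]; exact hq

/-- Without elements of order `p` the rotations of three coordinates are monomial. -/
theorem trot_mono {P : ℕ} [Fact P.Prime] [CharP F P] {i j k p q : Fin 5} (hij : i ≠ j) (hik : i ≠ k)
    (hjk : j ≠ k) (hpq : p ≠ q) (hTm : ∀ u, u ∈ ({i, j, k} : Finset (Fin 5)) ↔ u ≠ p ∧ u ≠ q)
    (hfree : ∀ g ∈ trot h.nd M e a p q, g ^ P = 1 → g = 1) :
    ∀ g ∈ trot h.nd M e a p q, Mono e g := by
  classical
  have hT : ({i, j, k} : Finset (Fin 5)).card = 3 := by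
    rw [Finset.card_eq_three]; exact ⟨i, j, k, hij, hik, hjk, rfl⟩
  set T := ({i, j, k} : Finset (Fin 5)) with hTdef
  let R := trot h.nd M e a p q
  have hrot : ∀ g : Grp Q, g ∈ R → Rot5 Q e a T g := fun g hg => h.rot_of_trot hTm hg
  let X := {L : Submodule F (ι → F) // ∃ v, v ∈ tsp e T ∧ Q v ≠ 0 ∧ L = Submodule.span F {v}}
  have hact : ∀ (g : R) (v : ι → F), v ∈ tsp e T →
      ap (g : Grp Q) v ∈ tsp e T := fun g v hv =>
    h.mem_tsp.2 ((hrot _ g.2).2.1 v (h.mem_tsp.1 hv))
  letI : MulAction R X :=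
    { smul := fun g L => ⟨L.1.map (apl (g : Grp Q)), by
        obtain ⟨v, hv, hq, hL⟩ := L.2
        refine ⟨ap (g : Grp Q) v, hact g v hv, by rw [ap_q]; exact hq, ?_⟩
        rw [hL, Submodule.map_span, Set.image_singleton, apl_apply]⟩
      one_smul := fun L => Subtype.ext (by
        show L.1.map (apl ((1 : R) : Grp Q)) = L.1
        have : apl ((1 : R) : Grp Q) = LinearMap.id := LinearMap.ext fun x => ap_one x
        rw [this, Submodule.map_id])
      mul_smul := fun g g' L => Subtype.ext (by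
        show L.1.map (apl ((g * g' : R) : Grp Q)) = (L.1.map (apl (g' : Grp Q))).map (apl (g : Grp Q))
        rw [← Submodule.map_comp]
        congr 1
        exact LinearMap.ext fun x => ap_mul _ _ x) }
  have smul_val : ∀ (g : R) (L : X), (g • L).1 = L.1.map (apl (g : Grp Q)) := fun _ _ => rfl
  let mkX : ∀ v, v ∈ tsp e T → Q v ≠ 0 → X := fun v hv hq => ⟨Submodule.span F {v}, v, hv, hq, rfl⟩
  let E : X → Subgroup R := fun L =>
    { carrier := {g | ∀ x ∈ L.1, ap (g : Grp Q) x = x}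
      mul_mem' := fun {g g'} hg hg' x hx => by
        show ap ((g * g' : R) : Grp Q) x = x
        rw [Subgroup.coe_mul, ap_mul, hg' x hx, hg x hx]
      one_mem' := fun x _ => ap_one x
      inv_mem' := fun {g} hg x hx => by
        show ap ((g⁻¹ : R) : Grp Q) x = x
        rw [Subgroup.coe_inv]
        conv_lhs => rw [← hg x hx]
        rw [ap_inv_ap] }
  have hei : ∀ l ∈ T, e l ∈ tsp e T := fun l hl => Submodule.subset_span ⟨l, hl, rfl⟩
  have hqe : ∀ l, Q (e l) ≠ 0 := fun l => by rw [h.q]; exact h.a0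
  let Li : X := mkX (e i) (hei i (by simp [hTdef])) (hqe i)
  -- the axis
  have haxis : ∀ g : R, g ≠ 1 → ∃ L : X, ∀ L' : X, g ∈ E L' ↔ L = L' := by
    intro g hg
    have hg1 : (g : Grp Q) ≠ 1 := fun e0 => hg (Subtype.ext e0)
    obtain ⟨v, hv0, hvT, hgv, huni⟩ := h.axis_of_rot hT (hrot _ g.2) hg1
    have hQv : Q v ≠ 0 := by
      intro hQv
      obtain ⟨w', f, α, -, -, -, -, -, -, -, -, hdec, hform⟩ := h.unip_form hT (hrot _ g.2) hg1 hv0 hvT hgv hQv
      refine hg1 (hfree _ g.2 (ext_ap fun x => ?_))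
      rw [ap_one]
      refine h.ext fun l => ?_
      obtain ⟨hf1, hf2, hf3⟩ := hform P
      rw [CharP.cast_eq_zero] at hf2 hf3
      simp only [mul_zero, zero_mul, neg_zero, zero_smul, add_zero] at hf2 hf3
      obtain ⟨hout, hin, -⟩ := hrot _ (pow_mem g.2 P)
      rw [show ap ((g : Grp Q) ^ P) x = x from ?_]
      conv_lhs => rw [← h.sum_co x]
      rw [ap_sum]
      conv_rhs => rw [← h.sum_co x]
      refine Finset.sum_congr rfl fun m _ => ?_
      rw [ap_smul]
      by_cases hm : m ∈ T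
      · obtain ⟨p', r', s', he⟩ := hdec (e m) (by rw [h.supp_e, Finset.singleton_subset_iff]; exact hm)
        rw [he, ap_add, ap_add, ap_smul, ap_smul, ap_smul, hf1, hf2, hf3]
      · rw [hout m hm]
    refine ⟨mkX v hvT hQv, fun L' => ⟨fun hL' => ?_, fun hL' => ?_⟩⟩
    · obtain ⟨v', hv'T, hq', hL'e⟩ := L'.2
      have hgv' : ap (g : Grp Q) v' = v' := hL' v' (hL'e ▸ Submodule.mem_span_singleton_self v')
      obtain ⟨c, hc⟩ := huni v' hv'T hgv'
      have hc0 : c ≠ 0 := fun e0 => hq' (by rw [hc, e0, zero_smul, QuadraticMap.map_zero])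
      refine Subtype.ext ?_
      show Submodule.span F {v} = L'.1
      rw [hL'e, hc, Submodule.span_singleton_smul_eq (IsUnit.mk0 c hc0)]
    · subst hL'
      intro x hx
      obtain ⟨c, rfl⟩ := Submodule.mem_span_singleton.1 hx
      rw [ap_smul, hgv]
  choose axf hax using haxis
  let ax : R → X := fun g => if hg : g = 1 then Li else axf g hg
  have hle : ∀ L : X, E L ≤ MulAction.stabilizer R L := fun L g hg => by
    rw [MulAction.mem_stabilizer_iff]
    refine Subtype.ext ?_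
    rw [smul_val]
    refine le_antisymm ?_ fun x hx => ⟨x, hx, hg x hx⟩
    rintro _ ⟨x, hx, rfl⟩
    rw [apl_apply, hg x hx]; exact hx
  have hsign : ∀ (L : X) (g : R), g • L = L → ∀ v, v ∈ L.1 → Q v ≠ 0 →
      ap (g : Grp Q) v = v ∨ ap (g : Grp Q) v = -v := by
    intro L g hg v hv hq
    obtain ⟨v', -, hq', hL⟩ := L.2
    have h1 : ap (g : Grp Q) v ∈ L.1 := by
      rw [← hg, smul_val]; exact ⟨v, hv, rfl⟩
    rw [hL] at hv h1
    obtain ⟨c, rfl⟩ := Submodule.mem_span_singleton.1 hv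
    obtain ⟨d, hd⟩ := Submodule.mem_span_singleton.1 h1
    have hqq := ap_q (g : Grp Q) (c • v')
    rw [← hd, q_smul, q_smul] at hqq
    have hdd : (d - c) * (d + c) = 0 := mul_right_cancel₀ hq' (by linear_combination hqq)
    rw [← hd]
    rcases mul_eq_zero.1 hdd with e1 | e1
    · exact Or.inl (by rw [sub_eq_zero.1 e1])
    · exact Or.inr (by rw [eq_neg_of_add_eq_zero_left e1, neg_smul])
  have hfixv : ∀ (L : X) (g : R) (v : ι → F), L.1 = Submodule.span F {v} → ap (g : Grp Q) v = v →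
      g ∈ E L := fun L g v hL hv x hx => by
    rw [hL] at hx
    obtain ⟨c, rfl⟩ := Submodule.mem_span_singleton.1 hx
    rw [ap_smul, hv]
  have hidx : ∀ L : X, Nat.card (MulAction.stabilizer R L) ≤ 2 * Nat.card (E L) := by
    intro L
    obtain ⟨v, -, hq, hL⟩ := L.2
    have hvL : v ∈ L.1 := hL ▸ Submodule.mem_span_singleton_self v
    by_cases hs : ∀ g ∈ MulAction.stabilizer R L, ap (g : Grp Q) v = v
    · have : MulAction.stabilizer R L ≤ E L := fun g hg => hfixv L g v hL (hs g hg)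
      have := Subgroup.card_le_of_le this
      omega
    push Not at hs
    obtain ⟨s, hs, hsv⟩ := hs
    have hsv' := (hsign L s hs v hvL hq).resolve_left hsv
    have key : (MulAction.stabilizer R L : Set R) ⊆
        (E L : Set R) ∪ (fun g => s * g) '' (E L : Set R) := fun g hg => by
      rcases hsign L g hg v hvL hq with h1 | h1
      · exact Or.inl (hfixv L g v hL h1)
      · refine Or.inr ⟨s⁻¹ * g, hfixv L _ v hL ?_, mul_inv_cancel_left s g⟩
        rw [Subgroup.coe_mul, Subgroup.coe_inv, ap_mul, h1, ← hsv', ap_inv_ap]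
    have h1 := (Set.ncard_le_ncard key (Set.toFinite _)).trans (Set.ncard_union_le _ _)
    have h2 : ((fun g => s * g) '' (E L : Set R)).ncard = (E L : Set R).ncard :=
      Set.ncard_image_of_injective _ (mul_right_injective s)
    rw [h2, ← Nat.card_coe_set_eq, ← Nat.card_coe_set_eq] at h1
    show Nat.card (MulAction.stabilizer R L : Set R) ≤ 2 * Nat.card (E L : Set R)
    omega
  have hconj : ∀ (g : R) (L : X), Nat.card (E (g • L)) = Nat.card (E L) := by
    intro g L
    have hiff : ∀ k : R, k ∈ E (g • L) ↔ g⁻¹ * k * g ∈ E L := fun k => by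
      constructor
      · intro hk x hx
        have := hk (ap (g : Grp Q) x) (by rw [smul_val]; exact ⟨x, hx, rfl⟩)
        rw [Subgroup.coe_mul, Subgroup.coe_mul, Subgroup.coe_inv, ap_mul, ap_mul, this, ap_inv_ap]
      · intro hk y hy
        rw [smul_val] at hy
        obtain ⟨x, hx, rfl⟩ := hy
        have := hk x hx
        rw [Subgroup.coe_mul, Subgroup.coe_mul, Subgroup.coe_inv, ap_mul, ap_mul] at this
        have h2 := congrArg (ap (g : Grp Q)) this
        rwa [ap_ap_inv] at h2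
    exact Nat.card_congr
      { toFun := fun k => ⟨g⁻¹ * k.1 * g, (hiff k.1).1 k.2⟩
        invFun := fun k => ⟨g * k.1 * g⁻¹, (hiff _).2 (by
          rw [show g⁻¹ * (g * k.1 * g⁻¹) * g = k.1 by group]; exact k.2)⟩
        left_inv := fun k => Subtype.ext (show g * (g⁻¹ * k.1 * g) * g⁻¹ = k.1 by group)
        right_inv := fun k => Subtype.ext (show g⁻¹ * (g * k.1 * g⁻¹) * g = k.1 by group) }
  -- reflections in members and pairs
  have mkR : ∀ x y r s,
      ((∃ u, u ∈ T ∧ x = e u) ∨ ∃ u v, u ≠ v ∧ u ∈ T ∧ v ∈ T ∧ x = e u + e v) →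
      ((∃ u, u ∈ T ∧ y = e u) ∨ ∃ u v, u ≠ v ∧ u ∈ T ∧ v ∈ T ∧ y = e u + e v) →
      IsRefl x r → IsRefl y s → r * s ∈ R := by
    have key : ∀ x r, ((∃ u, u ∈ T ∧ x = e u) ∨ ∃ u v, u ≠ v ∧ u ∈ T ∧ v ∈ T ∧ x = e u + e v) →
        IsRefl x r → r ∈ half M e a p q := by
      intro x r hx hr
      have hfix : ∀ c, (c = p ∨ c = q) → ap r (e c) = e c := fun c hc => by
        have hcT : ∀ u, u ∈ T → u ≠ c := fun u hu => by
          rcases hc with rfl | rfl
          exacts [((hTm u).1 hu).1, ((hTm u).1 hu).2]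
        refine refl_fix hr ?_
        rcases hx with ⟨u, hu, rfl⟩ | ⟨u, v, -, hu, hv, rfl⟩
        · exact h.orth u c (hcT u hu)
        · rw [b_add_left, h.orth u c (hcT u hu), h.orth v c (hcT v hv), add_zero]
      refine ⟨⟨hfix p (Or.inl rfl), hfix q (Or.inr rfl)⟩, ?_⟩
      rcases hx with ⟨u, hu, rfl⟩ | ⟨u, v, huv, hu, hv, rfl⟩
      · exact ⟨r, h.sgn u r hr, fun y _ => rfl⟩
      have hQ : ∀ u v : Fin 5, u ≠ v → Q (e u + e v) = 2 * a := fun u v huv => by
        rw [q_add, h.q, h.q, h.orth u v huv]; ring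
      obtain ⟨r', hr'⟩ := exists_refl h.nd (v := e p + e q) (by rw [hQ p q hpq]; exact h.two_a)
      have himg : ∀ u v : Fin 5, u ≠ v → ∀ t : Grp Q, IsRefl (e u + e v) t → ∀ w,
          ap t (e w) = if w = u then -e v else if w = v then -e u else e w := by
        intro u v huv t ht w
        by_cases h1 : w = u
        · subst h1
          rw [if_pos rfl, ht.2, hQ w v huv, b_add_left, h.b_e, h.b_e, if_pos rfl, if_neg huv.symm,
            add_zero, inv_mul_cancel₀ h.two_a, one_smul]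
          abel
        by_cases h2 : w = v
        · subst h2
          rw [if_neg h1, if_pos rfl, ht.2, hQ u w huv, b_add_left, h.b_e, h.b_e, if_neg huv,
            if_pos rfl, zero_add, inv_mul_cancel₀ h.two_a, one_smul]
          abel
        rw [if_neg h1, if_neg h2, refl_fix ht (by
          rw [b_add_left, h.b_e, h.b_e, if_neg (Ne.symm h1), if_neg (Ne.symm h2), add_zero])]
      obtain ⟨hup, huq⟩ := (hTm u).1 hu
      obtain ⟨hvp, hvq⟩ := (hTm v).1 hv
      refine ⟨r * r', h.mem_of_mono (π := Equiv.swap u v * Equiv.swap p q)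
        (by rw [map_mul, Equiv.Perm.sign_swap huv, Equiv.Perm.sign_swap hpq]; rfl)
        (ε := fun w => if w = u ∨ w = v ∨ w = p ∨ w = q then -1 else 1)
        (fun w => by split_ifs <;> norm_num) (fun w => ?_), fun y hy => ?_⟩
      · rw [ap_mul, himg p q hpq r' hr' w, Equiv.Perm.mul_apply]
        by_cases h1 : w = p
        · subst h1
          rw [if_pos rfl, ← neg_one_smul F (e q), ap_smul, himg u v huv r hr q, if_neg huq.symm,
            if_neg hvq.symm, Equiv.swap_apply_left, Equiv.swap_apply_of_ne_of_ne huq.symm hvq.symm,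
            if_pos (Or.inr (Or.inr (Or.inl rfl)))]
        by_cases h2 : w = q
        · subst h2
          rw [if_neg h1, if_pos rfl, ← neg_one_smul F (e p), ap_smul, himg u v huv r hr p,
            if_neg hup.symm, if_neg hvp.symm, Equiv.swap_apply_right,
            Equiv.swap_apply_of_ne_of_ne hup.symm hvp.symm, if_pos (Or.inr (Or.inr (Or.inr rfl)))]
        rw [if_neg h1, if_neg h2, himg u v huv r hr w, Equiv.swap_apply_of_ne_of_ne h1 h2]
        by_cases h3 : w = u
        · subst h3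
          rw [if_pos rfl, Equiv.swap_apply_left, if_pos (Or.inl rfl), neg_one_smul]
        by_cases h4 : w = v
        · subst h4
          rw [if_neg h3, if_pos rfl, Equiv.swap_apply_right, if_pos (Or.inr (Or.inl rfl)), neg_one_smul]
        rw [if_neg h3, if_neg h4, Equiv.swap_apply_of_ne_of_ne h3 h4, if_neg (by simp [h1, h2, h3, h4]),
          one_smul]
      · rw [ap_mul, refl_fix hr' (by rw [b_add_left, h.b_co, h.b_co, hy.1, hy.2, mul_zero, add_zero])]
    exact fun x y r s hx hy hr hs => ⟨mul_mem (key x r hx hr) (key y s hy hs),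
      show r * s ∈ (dickson h.nd).ker from
        MonoidHom.mem_ker.2 (by rw [map_mul, dickson_refl h.nd hr, dickson_refl h.nd hs]; rfl)⟩
  have hpair : ∀ u v : Fin 5, u ≠ v → u ∈ T → v ∈ T →
      supp Q e a (e u + e v) ⊆ T ∧ Mir e (e u + e v) ∧ Q (e u + e v) = 2 * a := by
    intro u v huv hu hv
    refine ⟨(supp_add_le _ _).trans (Finset.union_subset ?_ ?_),
      Or.inr ⟨u, v, huv, 1, 1, one_mul 1, by rw [one_smul, one_smul]⟩, ?_⟩
    · rw [h.supp_e, Finset.singleton_subset_iff]; exact hu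
    · rw [h.supp_e, Finset.singleton_subset_iff]; exact hv
    · rw [q_add, h.q, h.q, h.orth u v huv]; ring
  have hse : ∀ l ∈ T, supp Q e a (e l) ⊆ T := fun l hl => by
    rw [h.supp_e, Finset.singleton_subset_iff]; exact hl
  have hiT : i ∈ T := by simp [hTdef]
  have hjT : j ∈ T := by simp [hTdef]
  have hkT : k ∈ T := by simp [hTdef]
  -- the turn sending one member to another
  have turn : ∀ u v o : Fin 5, u ≠ v → u ≠ o → v ≠ o → u ∈ T → v ∈ T → o ∈ T →
      ∃ g : R, ap (g : Grp Q) (e u) = -e v := by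
    intro u v o huv huo hvo hu hv ho
    obtain ⟨h1, h2, h3⟩ := hpair u v huv hu hv
    obtain ⟨r, hr⟩ := exists_refl h.nd (v := e u + e v) (by rw [h3]; exact h.two_a)
    obtain ⟨s, hs⟩ := exists_refl h.nd (hqe o)
    refine ⟨⟨r * s, mkR _ _ r s (Or.inr ⟨u, v, huv, hu, hv, rfl⟩) (Or.inl ⟨o, ho, rfl⟩) hr hs⟩, ?_⟩
    show ap (r * s) (e u) = -e v
    rw [ap_mul, refl_fix hs (h.orth o u (Ne.symm huo)), hr.2, h3, b_add_left, h.b_e, h.b_e,
      if_pos rfl, if_neg huv.symm, add_zero, inv_mul_cancel₀ h.two_a, one_smul]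
    abel
  have hfour : 4 ∣ Nat.card (E Li) := by
    obtain ⟨h1, h2, h3⟩ := hpair j k hjk hjT hkT
    obtain ⟨r, hr⟩ := exists_refl h.nd (hqe j)
    obtain ⟨s, hs⟩ := exists_refl h.nd (v := e j + e k) (by rw [h3]; exact h.two_a)
    let ρ : R := ⟨r * s, mkR _ _ r s (Or.inl ⟨j, hjT, rfl⟩) (Or.inr ⟨j, k, hjk, hjT, hkT, rfl⟩) hr hs⟩
    have hρi : ap (r * s) (e i) = e i := refl_mul_apply_perp hr hs (h.orth j i hij.symm)
      (by rw [b_add_left, h.orth j i hij.symm, h.orth k i hik.symm, add_zero])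
    have hsj : ap s (e j) = -e k := by
      rw [hs.2, h3, b_add_left, h.b_e, h.b_e, if_pos rfl, if_neg hjk.symm, add_zero,
        inv_mul_cancel₀ h.two_a, one_smul]
      abel
    have hsk : ap s (e k) = -e j := by
      rw [hs.2, h3, b_add_left, h.b_e, h.b_e, if_neg hjk, if_pos rfl, zero_add,
        inv_mul_cancel₀ h.two_a, one_smul]
      abel
    have hrk : ap r (e k) = e k := refl_fix hr (h.orth j k hjk)
    have h1j : ap (r * s) (e j) = -e k := by
      rw [ap_mul, hsj, ← neg_one_smul F (e k), ap_smul, hrk]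
    have h1k : ap (r * s) (e k) = e j := by
      rw [ap_mul, hsk, ← neg_one_smul F (e j), ap_smul, refl_self hr, neg_one_smul, neg_neg]
    have hne : ρ ^ 2 ≠ 1 := fun e0 => by
      have := congrArg (fun g : R => ap (g : Grp Q) (e j)) e0
      simp only [pow_two, Subgroup.coe_mul, Subgroup.coe_one, ap_one] at this
      rw [show (ρ : Grp Q) = r * s from rfl, ap_mul (r * s), h1j, ← neg_one_smul F (e k), ap_smul, h1k,
        neg_one_smul] at this
      rw [neg_eq_iff_add_eq_zero, ← two_smul F, smul_eq_zero] at this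
      exact this.elim h.two (h.e_ne j)
    have h4 : ρ ^ 4 = 1 := by
      refine Subtype.ext (ext_ap fun x => ?_)
      rw [SubgroupClass.coe_pow, Subgroup.coe_one, ap_one, show (ρ : Grp Q) = r * s from rfl]
      conv_lhs => rw [← h.sum_co x]
      conv_rhs => rw [← h.sum_co x]
      rw [ap_sum]
      refine Finset.sum_congr rfl fun m _ => ?_
      rw [ap_smul]
      congr 1
      have e4 : ∀ y, ap ((r * s) ^ 4) y = ap (r * s) (ap (r * s) (ap (r * s) (ap (r * s) y))) :=
        fun y => by rw [← ap_mul (r * s), ← ap_mul, ← ap_mul]; congr 1; simp only [pow_succ, pow_zero, one_mul, mul_assoc]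
      rw [e4]
      have hneg : ∀ y, ap (r * s) (-y) = -ap (r * s) y := fun y => by
        rw [← neg_one_smul F y, ap_smul, neg_one_smul]
      by_cases hm : m ∈ T
      · simp only [hTdef, Finset.mem_insert, Finset.mem_singleton] at hm
        rcases hm with rfl | rfl | rfl
        · rw [hρi, hρi, hρi, hρi]
        · rw [h1j, hneg, h1k, hneg, h1j, neg_neg, h1k]
        · rw [h1k, h1j, hneg, h1k, hneg, h1j, neg_neg]
      · have := (hrot _ ρ.2).1 m hm
        rw [show (ρ : Grp Q) = r * s from rfl] at this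
        rw [this, this, this, this]
    have hord : orderOf ρ = 2 ^ 2 := orderOf_eq_prime_pow (p := 2) (n := 1) (by simpa using hne)
      (by simpa using h4)
    have hmem : ρ ∈ E Li := hfixv Li ρ (e i) rfl hρi
    have := Subgroup.orderOf_dvd_natCard (E Li) hmem
    rwa [hord] at this
  have hflip : Nat.card (MulAction.stabilizer R Li) = 2 * Nat.card (E Li) := by
    obtain ⟨r, hr⟩ := exists_refl h.nd (hqe i)
    obtain ⟨s, hs⟩ := exists_refl h.nd (hqe j)
    let g : R := ⟨r * s, mkR _ _ r s (Or.inl ⟨i, hiT, rfl⟩) (Or.inl ⟨j, hjT, rfl⟩) hr hs⟩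
    have hgi : ap (r * s) (e i) = -e i := by
      rw [ap_mul, refl_fix hs (h.orth j i hij.symm), refl_self hr]
    have hgs : g ∈ MulAction.stabilizer R Li := by
      rw [MulAction.mem_stabilizer_iff]
      refine Subtype.ext ?_
      rw [smul_val]
      show (Submodule.span F {e i}).map (apl (r * s)) = Submodule.span F {e i}
      rw [Submodule.map_span, Set.image_singleton, apl_apply, hgi, ← Set.neg_singleton, Submodule.span_neg]
    have hgE : g ∉ E Li := fun h1 => by
      have := h1 (e i) (Submodule.mem_span_singleton_self _)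
      rw [show (g : Grp Q) = r * s from rfl, hgi, neg_eq_iff_add_eq_zero, ← two_smul F, smul_eq_zero] at this
      exact this.elim h.two (h.e_ne i)
    obtain ⟨d, hd⟩ := Subgroup.card_dvd_of_le (hle Li)
    have h1 := hidx Li
    have hd1 : d ≠ 1 := fun e0 => hgE (by
      have := Subgroup.eq_of_le_of_card_ge (hle Li) (by rw [hd, e0, mul_one])
      rw [this]; exact hgs)
    have h2 : 0 < Nat.card (MulAction.stabilizer R Li) := Nat.card_pos
    rw [hd] at h1 h2 ⊢
    have hd2 : d ≤ 2 := by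
      by_contra hc
      have := Nat.mul_le_mul_left (Nat.card (E Li)) (show 3 ≤ d by omega)
      omega
    interval_cases d <;> omega
  obtain ⟨gj, hgj⟩ := turn i j k hij hik hjk hiT hjT hkT
  obtain ⟨gk, hgk⟩ := turn i k j hik hij hjk.symm hiT hkT hjT
  let Lj : X := mkX (e j) (hei j hjT) (hqe j)
  let Lk : X := mkX (e k) (hei k hkT) (hqe k)
  have hLj : gj • Li = Lj := Subtype.ext (by
    rw [smul_val]
    show (Submodule.span F {e i}).map _ = Submodule.span F {e j}
    rw [Submodule.map_span, Set.image_singleton, apl_apply, hgj, ← Set.neg_singleton, Submodule.span_neg])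
  have hLk : gk • Li = Lk := Subtype.ext (by
    rw [smul_val]
    show (Submodule.span F {e i}).map _ = Submodule.span F {e k}
    rw [Submodule.map_span, Set.image_singleton, apl_apply, hgk, ← Set.neg_singleton, Submodule.span_neg])
  have hne : ∀ u v : Fin 5, u ≠ v → Submodule.span F {e u} ≠ Submodule.span F {e v} := fun u v huv e0 => by
    have : e u ∈ Submodule.span F {e v} := e0 ▸ Submodule.mem_span_singleton_self _
    obtain ⟨c, hc⟩ := Submodule.mem_span_singleton.1 this
    have h1 := congrArg (co Q e a u) hc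
    rw [co_smul, h.co_ne huv, mul_zero, h.co_self] at h1
    exact zero_ne_one h1
  have hsub : ({Li, Lj, Lk} : Set X) ⊆ MulAction.orbit R Li := by
    rintro L (rfl | rfl | rfl)
    exacts [MulAction.mem_orbit_self _, ⟨gj, hLj⟩, ⟨gk, hLk⟩]
  have hcard3 : ({Li, Lj, Lk} : Set X).ncard = 3 := by
    rw [Set.ncard_insert_of_notMem (by
      simp only [Set.mem_insert_iff, Set.mem_singleton_iff]
      rintro (e0 | e0)
      exacts [hne i j hij (congrArg Subtype.val e0), hne i k hik (congrArg Subtype.val e0)]),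
      Set.ncard_pair (fun e0 => hne j k hjk (congrArg Subtype.val e0))]
  haveI : Finite X := Subtype.finite
  have h3le : 3 ≤ Nat.card (MulAction.orbit R Li) := by
    rw [Nat.card_coe_set_eq, ← hcard3]
    exact Set.ncard_le_ncard hsub (Set.toFinite _)
  have h3 := three_axes E ax (fun g L hg => by simp only [ax, dif_neg hg]; exact hax g hg L) hle hidx
    hconj Li hfour hflip h3le
  have horbit : ({Li, Lj, Lk} : Set X) = MulAction.orbit R Li :=
    Set.eq_of_subset_of_ncard_le hsub (by rw [hcard3, ← Nat.card_coe_set_eq, h3]) (Set.toFinite _)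
  have hmono : ∀ g : R, Mono e (g : Grp Q) := by
    intro g l
    by_cases hl : l ∈ T
    swap
    · exact ⟨l, 1, by rw [(hrot _ g.2).1 l hl, one_smul]⟩
    let Ll : X := mkX (e l) (hei l hl) (hqe l)
    have hLl : Ll ∈ ({Li, Lj, Lk} : Set X) := by
      simp only [hTdef, Finset.mem_insert, Finset.mem_singleton] at hl
      rcases hl with rfl | rfl | rfl
      exacts [Or.inl rfl, Or.inr (Or.inl rfl), Or.inr (Or.inr rfl)]
    rw [horbit] at hLl
    have hgl : g • Ll ∈ ({Li, Lj, Lk} : Set X) := by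
      rw [horbit]
      obtain ⟨g', hg'⟩ := hLl
      exact ⟨g * g', by
        show (g * g') • Li = g • Ll
        rw [mul_smul, show g' • Li = Ll from hg']⟩
    have hmem : ap (g : Grp Q) (e l) ∈ (g • Ll).1 :=
      ⟨e l, Submodule.mem_span_singleton_self _, rfl⟩
    rcases hgl with e0 | e0 | e0 <;> rw [e0] at hmem <;>
      obtain ⟨c, hc⟩ := Submodule.mem_span_singleton.1 hmem <;> exact ⟨_, c, hc.symm⟩
  exact fun g hg => hmono ⟨g, hg⟩

/-- A rotation of order `p` yields one in the group. -/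
theorem wild_of_trot {P : ℕ} [hP : Fact P.Prime] [CharP F P] {T : Finset (Fin 5)} {p q : Fin 5}
    (hpq : p ≠ q) (hTm : ∀ u, u ∈ T ↔ u ≠ p ∧ u ≠ q) {x : Grp Q} (hx : x ∈ trot h.nd M e a p q)
    (hx1 : x ≠ 1) (hxP : x ^ P = 1) : Wild Q M e a P T := by
  classical
  obtain ⟨hout, hin, hd⟩ := h.rot_of_trot hTm hx
  obtain ⟨⟨⟨hxp, hxq⟩, g, hg, hgx⟩, -⟩ := hx
  have hpow : ∀ n : ℕ, ∀ y, Out Q e a p q y → ap (g ^ n) y = ap (x ^ n) y := fun n => by
    induction n with
    | zero => intro y _; rw [pow_zero, pow_zero]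
    | succ n ih =>
      intro y hy
      rw [pow_succ, pow_succ, ap_mul, ap_mul, hgx y hy, ih _ (out_ap hxp hxq hy)]
  obtain ⟨m, hm, hgm⟩ : ∃ m, ¬ P ∣ m ∧ ∃ k, (g ^ m) ^ (P ^ k) = 1 := by
    obtain ⟨k, m, hm, hn⟩ := Nat.exists_eq_pow_mul_and_not_dvd (orderOf_pos g).ne' P hP.out.one_lt.ne'
    exact ⟨m, hm, k, by rw [← pow_mul, mul_comm m, ← hn, pow_orderOf_eq_one]⟩
  obtain ⟨k, hk⟩ := hgm
  obtain ⟨u, hu⟩ : ∃ u, u = g ^ m := ⟨_, rfl⟩
  rw [← hu] at hk
  have hux : ∀ y, Out Q e a p q y → ap u y = ap (x ^ m) y := hu ▸ hpow m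
  have hfixm : ∀ n : ℕ, ap (x ^ n) (e p) = e p ∧ ap (x ^ n) (e q) = e q := fun n =>
    ⟨pow_fix hxp n, pow_fix hxq n⟩
  -- the plane is preserved
  have hbb : ∀ c, (c = p ∨ c = q) → ∀ l, l ∈ T → co Q e a l (ap u (e c)) = 0 := by
    intro c hc l hl
    have hy : Out Q e a p q (e l) := h.out_of_supp hTm (by rw [h.supp_e, Finset.singleton_subset_iff]; exact hl)
    have hy' : Out Q e a p q (ap (x ^ m)⁻¹ (e l)) := by
      refine out_ap ?_ ?_ hy
      · conv_lhs => rw [← (hfixm m).1, ap_inv_ap]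
      · conv_lhs => rw [← (hfixm m).2, ap_inv_ap]
    have h1 := hux _ hy'
    rw [ap_ap_inv] at h1
    have h2 := ap_b u (ap (x ^ m)⁻¹ (e l)) (e c)
    rw [h1, b_comm (ap (x ^ m)⁻¹ (e l)) (e c), h.b_co, h.b_co] at h2
    have h3 : co Q e a c (ap (x ^ m)⁻¹ (e l)) = 0 := by
      rcases hc with rfl | rfl
      exacts [hy'.1, hy'.2]
    rw [h3, mul_zero] at h2
    exact (mul_eq_zero.1 h2).resolve_left h.two_a
  have hTc : ∀ l, l ∈ T → l ≠ p ∧ l ≠ q := fun l hl => (hTm l).1 hl
  have hexp : ∀ c, (c = p ∨ c = q) →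
      ap u (e c) = co Q e a p (ap u (e c)) • e p + co Q e a q (ap u (e c)) • e q := fun c hc => by
    refine h.ext fun l => ?_
    rw [co_add, co_smul, co_smul, h.co_e, h.co_e]
    by_cases h1 : l = p
    · subst h1; rw [if_pos rfl, if_neg hpq]; ring
    by_cases h2 : l = q
    · subst h2; rw [if_neg h1, if_pos rfl]; ring
    rw [if_neg h1, if_neg h2, hbb c hc l ((hTm l).2 ⟨h1, h2⟩)]; ring
  obtain ⟨α, hα⟩ : ∃ α, co Q e a p (ap u (e p)) = α := ⟨_, rfl⟩
  obtain ⟨β, hβ⟩ : ∃ β, co Q e a q (ap u (e p)) = β := ⟨_, rfl⟩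
  obtain ⟨γ, hγ⟩ : ∃ γ, co Q e a p (ap u (e q)) = γ := ⟨_, rfl⟩
  obtain ⟨δ, hδ⟩ : ∃ δ, co Q e a q (ap u (e q)) = δ := ⟨_, rfl⟩
  have ep := hexp p (Or.inl rfl)
  have eq' := hexp q (Or.inr rfl)
  rw [hα, hβ] at ep
  rw [hγ, hδ] at eq'
  have hlin : ∀ c d : F, ap u (c • e p + d • e q) = (c * α + d * γ) • e p + (c * β + d * δ) • e q :=
    fun c d => by rw [ap_add, ap_smul, ap_smul, ep, eq']; module
  have hq1 : α * α + β * β = 1 := mul_left_cancel₀ h.a0 (by
    have h1 := ap_q u (e p)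
    rw [ep, h.q, q_add, q_smul, q_smul, h.q, h.q, b_smul_left, b_smul_right, h.orth p q hpq] at h1
    linear_combination h1)
  have hq2 : γ * γ + δ * δ = 1 := mul_left_cancel₀ h.a0 (by
    have h1 := ap_q u (e q)
    rw [eq', h.q, q_add, q_smul, q_smul, h.q, h.q, b_smul_left, b_smul_right, h.orth p q hpq] at h1
    linear_combination h1)
  have hq3 : α * γ + β * δ = 0 := by
    have h1 := ap_b u (e p) (e q)
    rw [ep, eq', h.orth p q hpq] at h1
    simp only [b_add_left, b_add_right, b_smul_left, b_smul_right, b_self, h.q, h.orth p q hpq,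
      h.orth q p hpq.symm] at h1
    exact (mul_eq_zero.1 (show (2 * a) * (α * γ + β * δ) = 0 by linear_combination h1)).resolve_left h.two_a
  obtain ⟨D, hD⟩ : ∃ D, D = α * δ - β * γ := ⟨_, rfl⟩
  have hDD : D * D = 1 := by
    rw [hD]; linear_combination (γ * γ + δ * δ) * hq1 + hq2 - (α * γ + β * δ) * hq3
  have hg' : γ = -(D * β) := by rw [hD]; linear_combination (-γ) * hq1 + α * hq3
  have hd' : δ = D * α := by rw [hD]; linear_combination (-δ) * hq1 + β * hq3
  have hup : ap u (e p) = e p ∧ ap u (e q) = e q := by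
    rcases mul_self_eq_one_iff.1 hDD with hD1 | hD1 <;> rw [hD1] at hg' hd'
    · obtain ⟨y, hy, hy0, huy⟩ := exists_fixed_of_pow' hk (Submodule.span F ({e p, e q} : Set (ι → F)))
        (fun z hz => by
          obtain ⟨c, d, rfl⟩ := Submodule.mem_span_pair.1 hz
          rw [hlin]; exact Submodule.mem_span_pair.2 ⟨_, _, rfl⟩)
        (Submodule.subset_span (Set.mem_insert _ _)) (h.e_ne p)
      obtain ⟨c, d, rfl⟩ := Submodule.mem_span_pair.1 hy
      rw [hlin] at huy
      have e1 := congrArg (co Q e a p) huy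
      have e2 := congrArg (co Q e a q) huy
      simp [co_add, co_smul, h.co_e, hpq, hpq.symm] at e1 e2
      rw [hg'] at e1
      rw [hd'] at e2
      have ec : ((α - 1) * (α - 1) + β * β) * c = 0 := by linear_combination (α - 1) * e1 + β * e2
      have ed : ((α - 1) * (α - 1) + β * β) * d = 0 := by linear_combination -β * e1 + (α - 1) * e2
      have hcd : c ≠ 0 ∨ d ≠ 0 := by
        by_contra hc
        push Not at hc
        exact hy0 (by rw [hc.1, hc.2, zero_smul, zero_smul, add_zero])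
      have hz : (α - 1) * (α - 1) + β * β = 0 := by
        rcases hcd with hc | hc
        exacts [(mul_eq_zero.1 ec).resolve_right hc, (mul_eq_zero.1 ed).resolve_right hc]
      have hα1 : α = 1 := mul_left_cancel₀ h.two (by linear_combination -hz + hq1)
      have hβ0 : β = 0 := mul_self_eq_zero.1 (by rw [hα1] at hz; linear_combination hz)
      refine ⟨?_, ?_⟩
      · rw [ep, hα1, hβ0, one_smul, zero_smul, add_zero]
      · rw [eq', hg', hd', hα1, hβ0, mul_zero, neg_zero, zero_smul, one_mul, one_smul, zero_add]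
    · have hsq : ∀ c, (c = p ∨ c = q) → ap (u * u) (e c) = e c := by
        intro c hc
        rcases hc with rfl | rfl
        · rw [ap_mul, ep, hlin, hg', hd']
          match_scalars
          · linear_combination hq1
          · ring
        · rw [ap_mul, eq', hlin, hg', hd']
          match_scalars
          · ring
          · linear_combination hq1
      have hPodd : Odd (P ^ k) := (hP.out.odd_of_ne_two fun e0 => h.two (by
        subst e0; exact_mod_cast CharP.cast_eq_zero F 2)).pow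
      obtain ⟨n, hn⟩ := hPodd
      have key : ∀ c, (c = p ∨ c = q) → ap u (e c) = e c := fun c hc => by
        have h1 : ap (u ^ (P ^ k)) (e c) = e c := by rw [hk, ap_one]
        rw [hn, pow_succ', ap_mul, pow_mul, pow_two, pow_fix (hsq c hc) n] at h1
        exact h1
      exact ⟨key p (Or.inl rfl), key q (Or.inr rfl)⟩
  have huxm : u = x ^ m := ext_frame h.toFrame fun c => by
    by_cases h1 : c = p
    · rw [h1, hup.1, (hfixm m).1]
    by_cases h2 : c = q
    · rw [h2, hup.2, (hfixm m).2]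
    exact hux _ (h.out_of_supp hTm (by rw [h.supp_e, Finset.singleton_subset_iff]; exact (hTm c).2 ⟨h1, h2⟩))
  refine ⟨x ^ m, huxm ▸ hu ▸ pow_mem hg m, ⟨fun c hc => pow_fix (hout c hc) m, fun y hy => ?_,
    fun hB => by rw [map_pow, hd hB, one_pow]⟩, fun e0 => hm ?_, by rw [← pow_mul, mul_comm, pow_mul, hxP, one_pow]⟩
  · exact h.supp_of_out hTm (out_ap (hfixm m).1 (hfixm m).2 (h.out_of_supp hTm hy))
  · rw [← orderOf_eq_prime hxP hx1]
    exact orderOf_dvd_of_pow_eq_one e0

/-- A member commuting with a pair of signs sends the other three coordinates to axes. -/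
theorem cent_axes (hmono : ∀ p q, p ≠ q → ∀ x ∈ trot h.nd M e a p q, Mono e x) {p q : Fin 5} (hpq : p ≠ q)
    {s : Grp Q} (hs : Sign e a s {p, q}) {g : Grp Q} (hg : g ∈ M) (hgs : g * s = s * g) {w : Fin 5}
    (hwp : w ≠ p) (hwq : w ≠ q) : Axis e (ap g (e w)) := by
  classical
  obtain ⟨hcS, hcT⟩ := h.sign_cent hs hgs
  have hz : ∀ l, l ≠ p → l ≠ q → Out Q e a p q (ap g (e l)) := fun l hlp hlq => by
    have := hcT l (by simp [hlp, hlq])
    rw [Finset.disjoint_right] at this
    exact ⟨notMem_supp.1 (this (by simp)), notMem_supp.1 (this (by simp))⟩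
  obtain ⟨x₀, hx₀⟩ := exists_frame_iso h.toFrame
    (fun l => if l = p ∨ l = q then e l else ap g (e l))
    (fun l => by split_ifs <;> simp [ap_q, h.q]) (fun l l' hll => by
      split_ifs with h1 h2 h2
      · exact h.orth l l' hll
      · push Not at h2
        obtain ⟨z1, z2⟩ := hz l' h2.1 h2.2
        rcases h1 with rfl | rfl <;> rw [h.b_co]
        · rw [z1, mul_zero]
        · rw [z2, mul_zero]
      · push Not at h1
        obtain ⟨z1, z2⟩ := hz l h1.1 h1.2
        rcases h2 with rfl | rfl <;> rw [b_comm, h.b_co]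
        · rw [z1, mul_zero]
        · rw [z2, mul_zero]
      · rw [ap_b, h.orth l l' hll])
  have hagree : ∀ y, Out Q e a p q y → ap g y = ap x₀ y := fun y hy => by
    conv_lhs => rw [← h.sum_co y, ap_sum]
    conv_rhs => rw [← h.sum_co y, ap_sum]
    refine Finset.sum_congr rfl fun l _ => ?_
    rw [ap_smul, ap_smul, hx₀]
    by_cases hl : l = p ∨ l = q
    · rcases hl with rfl | rfl
      · rw [hy.1, zero_smul, zero_smul]
      · rw [hy.2, zero_smul, zero_smul]
    · rw [if_neg hl]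
  have hhalf : x₀ ∈ half M e a p q :=
    ⟨⟨by rw [hx₀, if_pos (Or.inl rfl)], by rw [hx₀, if_pos (Or.inr rfl)]⟩, g, hg, hagree⟩
  have hew : Out Q e a p q (e w) := ⟨h.co_ne hwp.symm, h.co_ne hwq.symm⟩
  rw [hagree _ hew]
  rcases Int.units_eq_one_or (dickson h.nd x₀) with hd | hd
  · exact hmono p q hpq x₀ ⟨hhalf, MonoidHom.mem_ker.2 hd⟩ w
  obtain ⟨r, hr⟩ := exists_refl h.nd (v := e w) (by rw [h.q]; exact h.a0)
  have hrh : r ∈ half M e a p q :=
    ⟨⟨refl_fix hr (h.orth w p hwp), refl_fix hr (h.orth w q hwq)⟩, r, h.sgn w r hr, fun y _ => rfl⟩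
  obtain ⟨l, c, hc⟩ := hmono p q hpq (x₀ * r) ⟨mul_mem hhalf hrh, MonoidHom.mem_ker.2 (by
    rw [map_mul, hd, dickson_refl h.nd hr]; rfl)⟩ w
  rw [ap_mul, refl_self hr, ← neg_one_smul F (e w), ap_smul] at hc
  exact ⟨l, -c, by rw [neg_smul, ← hc, neg_one_smul, neg_neg]⟩

theorem centMono_of_trot (hmono : ∀ p q, p ≠ q → ∀ x ∈ trot h.nd M e a p q, Mono e x) :
    CentMono M e a := by
  intro p q hpq s hs g hg hgs w
  by_cases hw : w ≠ p ∧ w ≠ q
  · exact h.cent_axes hmono hpq hs hg hgs hw.1 hw.2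
  obtain ⟨l, m, -, hlm, hlp, hlq, hmp, hmq, -, -, -, -⟩ := pick_three p q
  obtain ⟨l', c, hc, hl'⟩ : ∃ l' c, c * c = (1 : F) ∧ ap g (e l) = c • e l' := by
    obtain ⟨l', c, hl'⟩ := h.cent_axes hmono hpq hs hg hgs hlp hlq
    refine ⟨l', c, ?_, hl'⟩
    have := ap_q g (e l)
    rw [hl', q_smul, h.q, h.q] at this
    exact mul_right_cancel₀ h.a0 (by rw [this, one_mul])
  obtain ⟨m', d, hd, hm'⟩ : ∃ m' d, d * d = (1 : F) ∧ ap g (e m) = d • e m' := by
    obtain ⟨m', d, hm'⟩ := h.cent_axes hmono hpq hs hg hgs hmp hmq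
    refine ⟨m', d, ?_, hm'⟩
    have := ap_q g (e m)
    rw [hm', q_smul, h.q, h.q] at this
    exact mul_right_cancel₀ h.a0 (by rw [this, one_mul])
  have hne : l' ≠ m' := fun e0 => by
    have := ap_b g (e l) (e m)
    rw [hl', hm', e0, b_smul_left, b_smul_right, b_self, h.q, h.orth l m hlm] at this
    exact mul_ne_zero (left_ne_zero_of_mul_eq_one hc) (mul_ne_zero (left_ne_zero_of_mul_eq_one hd) h.two_a) this
  obtain ⟨π, hπ, hπl, hπm⟩ := exists_even_pair hne hlm
  obtain ⟨p', hp'⟩ := exists_mono_iso h.toFrame π (fun _ => 1) fun _ => one_mul 1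
  simp only [one_smul] at hp'
  have hpM := h.perm π hπ p' hp'
  obtain ⟨t, -, ht⟩ := h.exists_sign {l, m}
  have hcl : ap (p' * g) (e l) = c • e l := by rw [ap_mul, hl', ap_smul, hp', hπl]
  have hcm : ap (p' * g) (e m) = d • e m := by rw [ap_mul, hm', ap_smul, hp', hπm]
  have hct : (p' * g) * t = t * (p' * g) := by
    refine ext_frame h.toFrame fun z => ?_
    rw [ap_mul (p' * g), ap_mul t, h.sign_apply ht, ap_smul]
    by_cases hz : z = l ∨ z = m
    · rw [if_pos (by simpa using hz)]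
      rcases hz with rfl | rfl
      · rw [hcl, ap_smul, h.sign_apply ht, if_pos (by simp), smul_smul, smul_smul, mul_comm]
      · rw [hcm, ap_smul, h.sign_apply ht, if_pos (by simp), smul_smul, smul_smul, mul_comm]
    · rw [if_neg (by simpa using hz), one_smul]
      push Not at hz
      refine h.ext fun v => ?_
      rw [ht]
      by_cases hv : v = l ∨ v = m
      swap
      · rw [if_neg (by simpa using hv), one_mul]
      suffices h0 : co Q e a v (ap (p' * g) (e z)) = 0 by rw [h0, mul_zero]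
      rcases hv with rfl | rfl
      · rw [co_mono h.toFrame hc hcl, h.co_ne hz.1.symm, mul_zero]
      · rw [co_mono h.toFrame hd hcm, h.co_ne hz.2.symm, mul_zero]
  push Not at hw
  have hwl : w ≠ l ∧ w ≠ m := by
    by_cases hwp : w = p
    · exact ⟨by rw [hwp]; exact hlp.symm, by rw [hwp]; exact hmp.symm⟩
    · exact ⟨by rw [hw hwp]; exact hlq.symm, by rw [hw hwp]; exact hmq.symm⟩
  obtain ⟨v, b, hv⟩ := h.cent_axes hmono hlm ht (M.mul_mem hpM hg) hct hwl.1 hwl.2
  refine ⟨π.symm v, b, ap_inj p' ?_⟩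
  rw [← ap_mul, hv, ap_smul, hp', Equiv.apply_symm_apply]

/-- One wild triple makes all of them wild. -/
theorem wild_all {P : ℕ} {p q : Fin 5} (hpq : p ≠ q) {T : Finset (Fin 5)}
    (hTm : ∀ u, u ∈ T ↔ u ≠ p ∧ u ≠ q) (hw : Wild Q M e a P T) (T' : Finset (Fin 5)) (hT' : T'.card = 3) :
    Wild Q M e a P T' := by
  classical
  obtain ⟨p', q', hpq', hc⟩ := Finset.card_eq_two.1 (show T'ᶜ.card = 2 by
    rw [Finset.card_compl, hT']; rfl)
  have hTm' : ∀ u, u ∈ T' ↔ u ≠ p' ∧ u ≠ q' := fun u => by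
    have : u ∈ T'ᶜ ↔ u = p' ∨ u = q' := by rw [hc]; simp
    rw [Finset.mem_compl] at this
    tauto
  obtain ⟨π, hπ, hπp, hπq⟩ := exists_even_pair hpq hpq'
  obtain ⟨g, hg⟩ := exists_mono_iso h.toFrame π (fun _ => 1) fun _ => one_mul 1
  simp only [one_smul] at hg
  have hgM := h.perm π hπ g hg
  obtain ⟨u, huM, ⟨hout, hin, hd⟩, hu1, huP⟩ := hw
  have hfix : ∀ c, c ∉ T' → ap (g * u * g⁻¹) (e c) = e c := fun c hc' => by
    have hc'' : π.symm c ∉ T := fun h1 => hc' ((hTm' c).2 ⟨fun e0 => ((hTm _).1 h1).1 (by rw [e0, ← hπp, Equiv.symm_apply_apply]),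
      fun e0 => ((hTm _).1 h1).2 (by rw [e0, ← hπq, Equiv.symm_apply_apply])⟩)
    have e1 : e c = ap g (e (π.symm c)) := by rw [hg, Equiv.apply_symm_apply]
    rw [e1, ap_mul, ap_inv_ap, ap_mul, hout _ hc'']
  refine ⟨g * u * g⁻¹, M.mul_mem (M.mul_mem hgM huM) (M.inv_mem hgM), ⟨hfix, fun y hy => ?_, fun hB => ?_⟩,
    fun e0 => hu1 ?_, ?_⟩
  · exact h.supp_of_out hTm' (out_ap (hfix p' fun h1 => ((hTm' p').1 h1).1 rfl)
      (hfix q' fun h1 => ((hTm' q').1 h1).2 rfl) (h.out_of_supp hTm' hy))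
  · rw [map_mul, map_mul, hd hB, map_inv, mul_one, mul_inv_cancel]
  · rwa [mul_inv_eq_one, mul_eq_left] at e0
  · rw [conj_pow, huP, mul_one, mul_inv_cancel]

/-- With all triples wild every vector of norm `a` is a root. -/
theorem all_roots {P : ℕ} [Fact P.Prime] [CharP F P] (hF : ∀ x : F, ∃ k : ℕ, (k : F) = x) (h3 : (3 : F) ≠ 0)
    (hall : ∀ T : Finset (Fin 5), T.card = 3 → Wild Q M e a P T) :
    ∀ (n : ℕ) (x : ι → F), (supp Q e a x).card ≤ n → Q x = a → Root M a x := by
  classical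
  haveI : NeZero P := ⟨(Fact.out : P.Prime).ne_zero⟩
  intro n
  induction n using Nat.strong_induction_on with
  | _ n ih =>
    intro x hx hq
    by_cases hsm : (supp Q e a x).card ≤ 3
    · obtain ⟨T, hT, hT3⟩ := Finset.exists_superset_card_eq hsm (by simp)
      obtain ⟨l, hl⟩ := Finset.card_pos.1 (show 0 < T.card by omega)
      obtain ⟨g, hg, -, hgx⟩ := h.triple_trans (p := P) hF h3 hT3 (hall T hT3) h.a0
        (by rw [h.supp_e, Finset.singleton_subset_iff]; exact hl : supp Q e a (e l) ⊆ T) hT (h.q l) hq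
      exact hgx ▸ h.root_map (h.root_e l) hg
    push Not at hsm
    obtain ⟨T, hTs, hT3, hN⟩ : ∃ T, T ⊆ supp Q e a x ∧ T.card = 3 ∧
        ∑ m ∈ T, co Q e a m x * co Q e a m x ≠ 0 := by
      by_contra hc
      push Not at hc
      obtain ⟨S, hS, hS4⟩ := Finset.exists_subset_card_eq hsm
      obtain ⟨S', hS'⟩ : ∃ S' : ℕ, S.card = S' := ⟨_, rfl⟩
      have heq : ∀ m ∈ S, ∑ l ∈ S.erase m, co Q e a l x * co Q e a l x = 0 := fun m hm =>
        hc _ ((Finset.erase_subset _ _).trans hS) (by rw [Finset.card_erase_of_mem hm, hS4])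
      have h1 : ∀ m ∈ S, co Q e a m x * co Q e a m x = ∑ l ∈ S, co Q e a l x * co Q e a l x := fun m hm => by
        rw [← Finset.add_sum_erase S _ hm, heq m hm, add_zero]
      obtain ⟨m, hm⟩ := Finset.card_pos.1 (show 0 < S.card by omega)
      have h2 := heq m hm
      rw [Finset.sum_congr rfl fun l hl => h1 l (Finset.mem_of_mem_erase hl), Finset.sum_const,
        Finset.card_erase_of_mem hm, hS4, nsmul_eq_mul] at h2
      have h4 : ∑ l ∈ S, co Q e a l x * co Q e a l x = 0 := by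
        refine (mul_eq_zero.1 h2).resolve_left ?_
        show ((3 : ℕ) : F) ≠ 0
        exact_mod_cast h3
      rw [← h1 m hm] at h4
      exact mem_supp.1 (hS hm) (mul_self_eq_zero.1 h4)
    obtain ⟨i, j, k, hij, hik, hjk, rfl⟩ := Finset.card_eq_three.1 hT3
    obtain ⟨N, hNd⟩ : ∃ N, N = ∑ m ∈ ({i, j, k} : Finset (Fin 5)), co Q e a m x * co Q e a m x := ⟨_, rfl⟩
    obtain ⟨z, hz⟩ := hF N
    obtain ⟨u, v, huv⟩ := CharP.sq_add_sq F P (z : ℤ)
    obtain ⟨y, hy⟩ : ∃ y, y = (u : F) • e i + (v : F) • e j := ⟨_, rfl⟩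
    obtain ⟨xT, hxT⟩ : ∃ xT, xT = ∑ m ∈ ({i, j, k} : Finset (Fin 5)), co Q e a m x • e m := ⟨_, rfl⟩
    have hco : ∀ l, co Q e a l xT = if l ∈ ({i, j, k} : Finset (Fin 5)) then co Q e a l x else 0 := fun l => by
      rw [hxT]; exact h.co_part _ x l
    have hys : supp Q e a y ⊆ {i, j} := fun l hl => by
      have := mem_supp.1 hl
      rw [hy, co_add, co_smul, co_smul, h.co_e, h.co_e] at this
      by_contra hc
      simp only [Finset.mem_insert, Finset.mem_singleton, not_or] at hc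
      rw [if_neg hc.1, if_neg hc.2] at this
      simp at this
    have hyq : Q y = a * N := by
      rw [hy, q_add, q_smul, q_smul, h.q, h.q, b_smul_left, b_smul_right, h.orth i j hij, ← hz]
      push_cast at huv
      linear_combination a * huv
    obtain ⟨g, hg, hfix, hgy⟩ := h.triple_trans (p := P) hF h3 hT3 (hall _ hT3)
      (mul_ne_zero h.a0 (hNd ▸ hN)) (hxT ▸ h.supp_part _ x) (hys.trans (by
        intro l hl; simp only [Finset.mem_insert, Finset.mem_singleton] at hl ⊢; tauto))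
      (by rw [hxT, h.q_part, hNd]) hyq
    obtain ⟨x', hx'⟩ : ∃ x', x' = y + (x - xT) := ⟨_, rfl⟩
    have hgx : ap g x = x' := by
      have hfx : ap g (x - xT) = x - xT := by
        conv_lhs => rw [← h.sum_co (x - xT), ap_sum]
        conv_rhs => rw [← h.sum_co (x - xT)]
        refine Finset.sum_congr rfl fun l _ => ?_
        rw [ap_smul]
        by_cases hl : l ∈ ({i, j, k} : Finset (Fin 5))
        · rw [co_sub, hco, if_pos hl, sub_self, zero_smul, zero_smul]
        · rw [hfix l hl]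
      conv_lhs => rw [← add_sub_cancel xT x]
      rw [ap_add, hgy, hfx, hx']
    have hsub : supp Q e a x' ⊆ (supp Q e a x).erase k := fun l hl => by
      have h1 := mem_supp.1 hl
      rw [hx', co_add, co_sub, hco] at h1
      rw [Finset.mem_erase, mem_supp]
      by_cases hlT : l ∈ ({i, j, k} : Finset (Fin 5))
      · rw [if_pos hlT, sub_self, add_zero] at h1
        have h2 := hys (mem_supp.2 h1)
        simp only [Finset.mem_insert, Finset.mem_singleton] at h2
        refine ⟨?_, mem_supp.1 (hTs hlT)⟩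
        rcases h2 with rfl | rfl
        exacts [hik, hjk]
      · rw [if_neg hlT, sub_zero, notMem_supp.1 (fun h2 => hlT (by
          have := hys h2
          simp only [Finset.mem_insert, Finset.mem_singleton] at this ⊢; tauto)), zero_add] at h1
        exact ⟨fun e0 => hlT (by simp [e0]), h1⟩
    have hkm : k ∈ supp Q e a x := hTs (by simp)
    have hlt : (supp Q e a x').card < n := lt_of_lt_of_le (lt_of_le_of_lt (Finset.card_le_card hsub)
      (Finset.card_erase_lt_of_mem hkm)) hx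
    have h1 := ih _ hlt x' le_rfl (by rw [← hgx, ap_q, hq])
    have h2 := h.root_map h1 (M.inv_mem hg)
    rwa [← hgx, ap_inv_ap] at h2

end Over5

end CfsgLib.Orth.FiveMax
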