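import Cfsg.Agent.Lib.Classical.FiveMax.Common

set_option autoImplicit false
set_option linter.unusedSectionVars false

/-!
In dimension five the stabiliser of a non-degenerate plane is maximal in `Ω`: the vectors of one norm
whose reflection lies in an overgroup spread from the plane and its orthogonal to the whole space.
-/

namespace CfsgLib.Orth.FiveMax

open Matrix
open scoped commutatorElement

variable {F : Type*} [Field F] [Finite F] {ι : Type} [Fintype ι] [DecidableEq ι]
variable {Q : QuadraticForm F (ι → F)}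

local notation "B" => QuadraticMap.polar (DFunLike.coe Q)

/-- The reflection of the vector lies in the group. -/
def RefIn (M : Subgroup (Grp Q)) (x : ι → F) : Prop := ∀ r, IsRefl x r → r ∈ M

/-- A plane, an overgroup of its stabiliser, and a norm whose reflections in the two sides lie in it. -/
structure PlaneCfg (Q : QuadraticForm F (ι → F)) (W : Submodule F (ι → F)) (c : F)
    (M : Subgroup (Grp Q)) : Prop where
  nd : Nondeg Q
  two : (2 : F) ≠ 0
  five : Module.finrank F (ι → F) = 5
  big : 5 ≤ Nat.card F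
  hW : NondegOn Q W
  dimW : Module.finrank F W = 2
  c0 : c ≠ 0
  stabM : ∀ g ∈ Cfsg.Omega F ⇑Q, (∀ w ∈ W, ap g w ∈ W) → g ∈ M
  memU : ∀ x ∈ orth Q W, Q x = c → RefIn M x
  memW : ∀ x ∈ W, Q x = c → RefIn M x

variable {W : Submodule F (ι → F)} {c : F} {M : Subgroup (Grp Q)}

theorem RefIn.map {x : ι → F} (hx : RefIn M x) {g : Grp Q} (hg : g ∈ M) : RefIn M (ap g x) := by
  intro r hr
  have h1 := refl_conj hr g⁻¹
  rw [ap_inv_ap] at h1
  have h2 := M.mul_mem (M.mul_mem hg (hx _ h1)) (M.inv_mem hg)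
  rwa [show g * (g⁻¹ * r * (g⁻¹)⁻¹) * g⁻¹ = r by group] at h2

theorem orth_b {X : Submodule F (ι → F)} {x y : ι → F} (hx : x ∈ orth Q X) (hy : y ∈ X) :
    B y x = 0 := hx y hy

/-- Moving an anisotropic vector of a subspace to another of the same norm. -/
theorem exists_to (hB : Nondeg Q) (h2 : (2 : F) ≠ 0) {X : Submodule F (ι → F)} {a b : ι → F}
    (ha : a ∈ X) (hb : b ∈ X) (hq : Q a = Q b) (h0 : Q a ≠ 0) :
    ∃ g : Grp Q, ap g a = b ∧ (∀ x, (∀ y ∈ X, B y x = 0) → ap g x = x) ∧ ∀ x ∈ X, ap g x ∈ X := by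
  have hstay : ∀ {m : ι → F} {r : Grp Q}, IsRefl m r → m ∈ X →
      (∀ x, (∀ y ∈ X, B y x = 0) → ap r x = x) ∧ ∀ x ∈ X, ap r x ∈ X := fun {m r} hr hm =>
    ⟨fun x hx => refl_fix hr (hx m hm), fun x hx => by
      rw [hr.2]; exact X.sub_mem hx (X.smul_mem _ hm)⟩
  by_cases hd : Q (a - b) = 0
  · have hs : Q (a + b) ≠ 0 := fun e0 => by
      rw [q_sub] at hd; rw [q_add] at e0
      refine mul_ne_zero (mul_ne_zero h2 h2) h0 ?_
      linear_combination e0 + hd + 2 * hq
    obtain ⟨r, hr⟩ := exists_refl hB hs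
    obtain ⟨t, ht⟩ := exists_refl hB (v := b) (by rw [← hq]; exact h0)
    have h1 : ap r a = -b := by
      have e1 : B (a + b) a = Q (a + b) := by
        rw [q_add, b_add_left, b_self, b_comm b a]; linear_combination hq
      rw [hr.2, e1, inv_mul_cancel₀ hs, one_smul]
      abel
    obtain ⟨hr1, hr2⟩ := hstay hr (X.add_mem ha hb)
    obtain ⟨ht1, ht2⟩ := hstay ht hb
    refine ⟨t * r, ?_, fun x hx => by rw [ap_mul, hr1 x hx, ht1 x hx],
      fun x hx => by rw [ap_mul]; exact ht2 _ (hr2 x hx)⟩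
    rw [ap_mul, h1, ← neg_one_smul F b, ap_smul, refl_self ht, neg_one_smul, neg_neg]
  · obtain ⟨r, hr⟩ := exists_refl hB hd
    obtain ⟨hr1, hr2⟩ := hstay hr (X.sub_mem ha hb)
    refine ⟨r, ?_, hr1, hr2⟩
    have e1 : B (a - b) a = Q (a - b) := by
      rw [q_sub, b_sub_left, b_self, b_comm b a]; linear_combination hq
    rw [hr.2, e1, inv_mul_cancel₀ hd, one_smul, sub_sub_cancel]

namespace PlaneCfg

variable (h : PlaneCfg Q W c M)
include h

theorem hU : NondegOn Q (orth Q W) := nondegOn_orth h.nd h.hW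

theorem dimU : Module.finrank F (orth Q W) = 3 := by
  have h1 := finrank_orth h.nd W
  rw [h.five, h.dimW] at h1
  omega

theorem q_sum {w v : ι → F} (hw : w ∈ W) (hv : v ∈ orth Q W) : Q (w + v) = Q w + Q v := by
  rw [q_add, orth_b hv hw, add_zero]

theorem b_sum {w v w' v' : ι → F} (hw : w ∈ W) (hv : v ∈ orth Q W) (hw' : w' ∈ W)
    (hv' : v' ∈ orth Q W) : B (w + v) (w' + v') = B w w' + B v v' := by
  rw [b_add_left, b_add_right, b_add_right, orth_b hv' hw, b_comm v w', orth_b hv hw', add_zero, zero_add]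

/-- Reflecting inside the set. -/
theorem refl_in {x y : ι → F} (hx : Q x = c) (hsx : RefIn M x) (hsy : RefIn M y) (k : F)
    (hk : B x y = k * c) : RefIn M (y - k • x) := by
  obtain ⟨r, hr⟩ := exists_refl h.nd (v := x) (by rw [hx]; exact h.c0)
  have h1 := hsy.map (hsx r hr)
  rwa [hr.2, hx, hk, mul_comm k c, ← mul_assoc, inv_mul_cancel₀ h.c0, one_mul] at h1

/-- The stabiliser moves the anisotropic second components. -/
theorem move {w v w' v' : ι → F} (hw : w ∈ W) (hv : v ∈ orth Q W) (hw' : w' ∈ W)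
    (hv' : v' ∈ orth Q W) (hqw : Q w = Q w') (hw0 : w' = w ∨ Q w ≠ 0) (hqv : Q v = Q v')
    (hv0 : Q v ≠ 0) (hS : RefIn M (w + v)) : RefIn M (w' + v') := by
  obtain ⟨ρ, hρw, hρout, hρin⟩ : ∃ g : Grp Q, ap g w = w' ∧
      (∀ x, (∀ y ∈ W, B y x = 0) → ap g x = x) ∧ ∀ x ∈ W, ap g x ∈ W := by
    rcases hw0 with rfl | hw0
    · exact ⟨1, ap_one _, fun x _ => ap_one x, fun x hx => by rwa [ap_one]⟩
    · exact exists_to h.nd h.two hw hw' hqw hw0
  obtain ⟨τ, hτv, hτout, -⟩ := exists_to h.nd h.two hv hv' hqv hv0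
  have hR := nondegOn_relOrth h.two h.hU hv hv0
  have h4 := finrank_relOrth h.nd (orth Q W) (Submodule.span F {v})
  rw [h.dimU, finrank_span_singleton (fun e => hv0 (by rw [e, QuadraticMap.map_zero]))] at h4
  obtain ⟨k, hk, hkO⟩ := exists_adjust h.nd h.five.ge (univ_of_nondeg hR (by omega)) (ρ * τ)
  have hkW : ∀ x ∈ W, ap k x = x := fun x hx => hk x fun r hr => by
    rw [b_comm]; exact hr.1 x hx
  have hτW : ∀ x ∈ W, ap τ x = x := fun x hx => hτout x fun y hy => by
    rw [b_comm]; exact hy x hx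
  have hst : ∀ x ∈ W, ap (ρ * τ * k) x ∈ W := fun x hx => by
    rw [ap_mul, ap_mul, hkW x hx, hτW x hx]; exact hρin x hx
  have h1 := hS.map (h.stabM _ hkO hst)
  have hkv : ap k v = v := hk v fun r hr => by
    rw [b_comm]
    have := hr.2 v (Submodule.mem_span_singleton_self v)
    exact this
  rwa [ap_mul, ap_mul, ap_add, hkW w hw, hkv, ap_add, hτW w hw, hτv, ap_add, hρw,
    hρout v' fun y hy => orth_b hv' hy] at h1

/-- All multiples of a first component. -/
theorem step_line {w v : ι → F} (hw : w ∈ W) (hv : v ∈ orth Q W) (hq : Q w + Q v = c)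
    (hv0 : Q v ≠ 0) (hS : RefIn M (w + v)) (t : F) {v' : ι → F} (hv' : v' ∈ orth Q W)
    (hq' : Q (t • w) + Q v' = c) (hv'0 : Q v' ≠ 0) : RefIn M (t • w + v') := by
  obtain ⟨z, hz, hzb, hzq⟩ := exists_b_q h.nd h.two h.hU h.dimU.ge hv hv0 (-t * c) c
  have hx : Q (w + v) = c := by rw [h.q_sum hw hv, hq]
  have h1 := h.refl_in hx hS (h.memU z hz hzq) (-t) (by rw [b_add_left, orth_b hz hw, zero_add, hzb])
  rw [show z - -t • (w + v) = t • w + (z + t • v) by module] at h1
  refine h.move (W.smul_mem _ hw) (Submodule.add_mem _ hz (Submodule.smul_mem _ _ hv))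
    (W.smul_mem _ hw) hv' rfl (Or.inl rfl) ?_ ?_ h1
  · rw [q_add, q_smul, b_smul_right, b_comm z v, hzb, hzq]
    rw [q_smul] at hq'
    linear_combination -hq' + t * t * hq
  · rw [q_add, q_smul, b_smul_right, b_comm z v, hzb, hzq]
    rw [q_smul] at hq'
    intro e0
    exact hv'0 (by linear_combination hq' + e0 - t * t * hq)

/-- Two first components of one norm give their combinations. -/
theorem step_comb {w v w₁ : ι → F} (hw : w ∈ W) (hv : v ∈ orth Q W) (hw₁ : w₁ ∈ W)
    (hq : Q w + Q v = c) (hw0 : Q w ≠ 0) (hv0 : Q v ≠ 0) (hqw : Q w = Q w₁)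
    (hS : RefIn M (w + v)) {a b : F} (hb : b * b * Q w ≠ c) {v' : ι → F} (hv' : v' ∈ orth Q W)
    (hq' : Q (a • w + b • w₁) + Q v' = c) (hv'0 : Q v' ≠ 0) :
    RefIn M ((a • w + b • w₁) + v') := by
  obtain ⟨z, hz, hzb, hzq⟩ := exists_b_q h.nd h.two h.hU h.dimU.ge hv hv0
    (-a * c - b * B w w₁) (c - b * b * Q w)
  have hz0 : Q z ≠ 0 := by rw [hzq]; exact sub_ne_zero.2 (Ne.symm hb)
  have h1 : RefIn M (b • w₁ + z) := by
    rcases eq_or_ne b 0 with rfl | hb0
    · rw [zero_smul, zero_add]
      refine h.memU z hz ?_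
      rw [hzq]; ring
    · have h2 := h.step_line hw hv hq hv0 hS b hz (by rw [q_smul, hzq]; ring) hz0
      refine h.move (W.smul_mem _ hw) hz (W.smul_mem _ hw₁) hz (by rw [q_smul, q_smul, hqw])
        (Or.inr ?_) rfl hz0 h2
      rw [q_smul]
      exact mul_ne_zero (mul_ne_zero hb0 hb0) hw0
  have h2 := h.refl_in (by rw [h.q_sum hw hv, hq]) hS h1 (-a)
    (by rw [h.b_sum hw hv (W.smul_mem _ hw₁) hz, b_smul_right, hzb]; ring)
  rw [show b • w₁ + z - -a • (w + v) = (a • w + b • w₁) + (z + a • v) by module] at h2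
  have hqz : Q (z + a • v) = c - Q (a • w + b • w₁) := by
    rw [q_add z, q_add (a • w), q_smul, q_smul, q_smul, b_smul_right, b_smul_right, b_smul_left,
      b_comm z v, hzb, hzq, ← hqw]
    linear_combination a * a * hq
  refine h.move (W.add_mem (W.smul_mem _ hw) (W.smul_mem _ hw₁))
    (Submodule.add_mem _ hz (Submodule.smul_mem _ _ hv))
    (W.add_mem (W.smul_mem _ hw) (W.smul_mem _ hw₁)) hv' rfl (Or.inl rfl) ?_ ?_ h2
  · rw [hqz]; linear_combination -hq'
  · rw [hqz]
    intro e0
    exact hv'0 (by linear_combination hq' + e0)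

/-- An independent vector of the same norm, with coordinates. -/
theorem exists_second {w : ι → F} (hw : w ∈ W) (hw0 : Q w ≠ 0) :
    ∃ w₁ ∈ W, Q w = Q w₁ ∧ B w w₁ * B w w₁ - 4 * Q w * Q w ≠ 0 ∧
      ∀ p ∈ W, ∃ a b : F, p = a • w + b • w₁ := by
  classical
  have hR := nondegOn_relOrth h.two h.hW hw hw0
  obtain ⟨n, hn, hn0⟩ : ∃ n ∈ relOrth Q W (Submodule.span F {w}), n ≠ 0 := by
    refine Submodule.exists_mem_ne_zero_of_ne_bot fun e => ?_
    have h1 := finrank_relOrth h.nd W (Submodule.span F {w})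
    rw [e, finrank_bot, h.dimW, finrank_span_singleton (fun e => hw0 (by rw [e, QuadraticMap.map_zero]))] at h1
    omega
  have hwn : B w n = 0 := hn.2 w (Submodule.mem_span_singleton_self w)
  have hspan : W ≤ Submodule.span F {w, n} := by
    refine (Submodule.eq_of_le_of_finrank_le (Submodule.span_le.2 ?_) ?_).ge
    · rintro x (rfl | rfl)
      exacts [hw, hn.1]
    · have hli : LinearIndependent F ![w, n] := by
        refine LinearIndependent.pair_iff.2 fun s t hst => ?_
        have h1 := congrArg (fun y => B w y) hst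
        simp only [b_add_right, b_smul_right, b_self, hwn, mul_zero, add_zero, b_zero_right] at h1
        have hs := (mul_eq_zero.1 h1).resolve_right (mul_ne_zero h.two hw0)
        rw [hs, zero_smul, zero_add, smul_eq_zero] at hst
        exact ⟨hs, hst.resolve_right hn0⟩
      have h5 := finrank_span_eq_card hli
      rw [Matrix.range_cons, Matrix.range_cons, Matrix.range_empty, Set.union_empty,
        Set.union_singleton, Fintype.card_fin, Set.pair_comm] at h5
      rw [h5, h.dimW]
  have hnq : Q n ≠ 0 := fun e0 => hn0 (h.hW n hn.1 fun y hy => by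
    obtain ⟨p, q, rfl⟩ := Submodule.mem_span_pair.1 (hspan hy)
    rw [b_add_right, b_smul_right, b_smul_right, b_comm n w, hwn, b_self, e0]
    ring)
  obtain ⟨t, ht0, htm⟩ : ∃ t : F, t ≠ 0 ∧ t * t * Q w + Q n ≠ 0 := by
    by_contra hc
    push Not at hc
    have h1 := hc 1 one_ne_zero
    have h3 := hc 2 h.two
    have h4 : (3 : F) * Q w = 0 := by linear_combination h3 - h1
    have h30 : (3 : F) = 0 := (mul_eq_zero.1 h4).resolve_right hw0
    obtain ⟨s, hs⟩ := exists_avoid ({0, 1, -1} : Finset F)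
      (lt_of_le_of_lt Finset.card_le_three (by have := h.big; omega))
    simp only [Finset.mem_insert, Finset.mem_singleton, not_or] at hs
    have h5 := hc s hs.1
    have h6 : (s - 1) * (s + 1) = 0 :=
      (mul_eq_zero.1 (show (s - 1) * (s + 1) * Q w = 0 by linear_combination h5 - h1)).resolve_right hw0
    rcases mul_eq_zero.1 h6 with h7 | h7
    · exact hs.2.1 (by linear_combination h7)
    · exact hs.2.2 (by linear_combination h7)
  obtain ⟨r, hr⟩ := exists_refl h.nd (v := t • w + n) (by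
    rw [q_add, q_smul, b_smul_left, hwn, mul_zero, add_zero]; exact htm)
  have hQm : Q (t • w + n) = t * t * Q w + Q n := by
    rw [q_add, q_smul, b_smul_left, hwn, mul_zero, add_zero]
  obtain ⟨m, hm⟩ : ∃ m, m = (t * t * Q w + Q n)⁻¹ * (t * (2 * Q w)) := ⟨_, rfl⟩
  have hw1 : ap r w = (1 - m * t) • w + (-m) • n := by
    rw [hr.2, hQm, b_add_left, b_smul_left, b_self, b_comm n w, hwn, add_zero, hm]
    module
  have hm0 : m ≠ 0 := by
    rw [hm]; exact mul_ne_zero (inv_ne_zero htm) (mul_ne_zero ht0 (mul_ne_zero h.two hw0))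
  have hB1 : B w (ap r w) = (1 - m * t) * (2 * Q w) := by
    rw [hw1, b_add_right, b_smul_right, b_smul_right, b_self, hwn, mul_zero, add_zero]
  have hsq : Q w = (1 - m * t) * (1 - m * t) * Q w + m * m * Q n := by
    conv_lhs => rw [← ap_q r w, hw1, q_add, q_smul, q_smul, b_smul_left, b_smul_right, hwn]
    ring
  refine ⟨ap r w, ?_, (ap_q r w).symm, ?_, fun p hp => ?_⟩
  · rw [hw1]; exact W.add_mem (W.smul_mem _ hw) (W.smul_mem _ hn.1)
  · rw [hB1]
    intro e0
    refine mul_ne_zero (mul_ne_zero (mul_ne_zero h.two h.two) hw0) (mul_ne_zero (mul_ne_zero hm0 hm0) hnq) ?_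
    linear_combination -e0 - (4 * Q w) * hsq
  · obtain ⟨p1, p2, rfl⟩ := Submodule.mem_span_pair.1 (hspan hp)
    refine ⟨p1 + (p2 / m) * (1 - m * t), -(p2 / m), ?_⟩
    rw [hw1, smul_add, smul_smul, smul_smul, neg_mul_neg, div_mul_cancel₀ _ hm0]
    module

/-- Every first component. -/
theorem step_all {w v : ι → F} (hw : w ∈ W) (hv : v ∈ orth Q W) (hq : Q w + Q v = c)
    (hw0 : Q w ≠ 0) (hv0 : Q v ≠ 0) (hS : RefIn M (w + v)) {p v' : ι → F} (hp : p ∈ W)
    (hv' : v' ∈ orth Q W) (hq' : Q p + Q v' = c) (hv'0 : Q v' ≠ 0) : RefIn M (p + v') := by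
  classical
  obtain ⟨w₁, hw₁, hqw, hdisc, hco⟩ := h.exists_second hw hw0
  obtain ⟨a, b, hab⟩ := hco p hp
  obtain ⟨s, hs0, hsP, hsd⟩ : ∃ s : F, s ≠ 0 ∧ s * s * Q p ≠ c ∧
      ((s * b) * (s * b) * Q w ≠ c ∨ (s * a) * (s * a) * Q w ≠ c) := by
    by_contra hc
    push Not at hc
    have key : ∀ s : F, s ≠ 0 → s * s * Q p = c ∨
        ((s * b) * (s * b) * Q w = c ∧ (s * a) * (s * a) * Q w = c) := fun s hs => by
      by_cases h1 : s * s * Q p = c
      · exact Or.inl h1
      · exact Or.inr (hc s hs h1)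
    have hone : Q p ≠ c := fun e0 => hv'0 (by linear_combination hq' - e0)
    obtain ⟨hb1, ha1⟩ := (key 1 one_ne_zero).resolve_left (by rw [one_mul, one_mul]; exact hone)
    rw [one_mul] at hb1 ha1
    obtain ⟨s, hs⟩ := exists_avoid ({0, 1, -1} : Finset F)
      (lt_of_le_of_lt Finset.card_le_three (by have := h.big; omega))
    simp only [Finset.mem_insert, Finset.mem_singleton, not_or] at hs
    have other : ∀ s : F, s ≠ 0 → s ≠ 1 → s ≠ -1 → s * s * Q p = c := fun s h0 h1 h3 =>
      (key s h0).resolve_right fun h5 => by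
        have h6 : (s - 1) * (s + 1) = 0 :=
          (mul_eq_zero.1 (show (s - 1) * (s + 1) * c = 0 by
            linear_combination h5.1 - s * s * hb1)).resolve_right h.c0
        rcases mul_eq_zero.1 h6 with h7 | h7
        · exact h1 (by linear_combination h7)
        · exact h3 (by linear_combination h7)
    have hQp : Q p ≠ 0 := fun e0 => h.c0 (by
      rw [← other s hs.1 hs.2.1 hs.2.2, e0, mul_zero])
    have hsame : ∀ t : F, t ≠ 0 → t ≠ 1 → t ≠ -1 → t = s ∨ t = -s := fun t h0 h1 h3 => by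
      have h6 : (t - s) * (t + s) = 0 := (mul_eq_zero.1 (show (t - s) * (t + s) * Q p = 0 by
        linear_combination other t h0 h1 h3 - other s hs.1 hs.2.1 hs.2.2)).resolve_right hQp
      rcases mul_eq_zero.1 h6 with h7 | h7
      · exact Or.inl (by linear_combination h7)
      · exact Or.inr (by linear_combination h7)
    cases nonempty_fintype F
    have hsub : (Finset.univ : Finset F) ⊆ {0, 1, -1, s, -s} := fun t _ => by
      simp only [Finset.mem_insert, Finset.mem_singleton]
      by_cases h0 : t = 0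
      · exact Or.inl h0
      by_cases h1 : t = 1
      · exact Or.inr (Or.inl h1)
      by_cases h3 : t = -1
      · exact Or.inr (Or.inr (Or.inl h3))
      exact Or.inr (Or.inr (Or.inr (hsame t h0 h1 h3)))
    have h5card : Fintype.card F = 5 := by
      have h1 := Finset.card_le_card hsub
      have h3 : ({0, 1, -1, s, -s} : Finset F).card ≤ 5 := Finset.card_le_five
      rw [Finset.card_univ] at h1
      have := h.big
      rw [Nat.card_eq_fintype_card] at this
      omega
    have h50 : (5 : F) = 0 := by exact_mod_cast h5card ▸ Nat.cast_card_eq_zero F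
    have hs4 : s * s = -1 := by
      have h4 := FiniteField.pow_card_sub_one_eq_one s hs.1
      rw [h5card] at h4
      have h6 : (s * s - 1) * (s * s + 1) = 0 := by linear_combination h4
      rcases mul_eq_zero.1 h6 with h7 | h7
      · exfalso
        have h8 : (s - 1) * (s + 1) = 0 := by linear_combination h7
        rcases mul_eq_zero.1 h8 with h9 | h9
        · exact hs.2.1 (by linear_combination h9)
        · exact hs.2.2 (by linear_combination h9)
      · linear_combination h7
    have hPc : Q p = -c := by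
      have := other s hs.1 hs.2.1 hs.2.2
      rw [hs4] at this
      linear_combination -this
    have hQab : Q p = a * a * Q w + b * b * Q w + a * (b * B w w₁) := by
      rw [hab, q_add, q_smul, q_smul, ← hqw, b_smul_left, b_smul_right]
    have hab2 : (a * a) * (b * b) * (Q w * Q w) = c * c := by linear_combination (b * b * Q w) * ha1 + c * hb1
    refine hdisc ((mul_eq_zero.1 (?_ : (B w w₁ * B w w₁ - 4 * Q w * Q w) * (c * c) = 0)).resolve_right
      (mul_ne_zero h.c0 h.c0))
    have hkey : a * (b * B w w₁) = -3 * c := by linear_combination hPc - hQab - ha1 - hb1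
    linear_combination (Q w * Q w) * (a * (b * B w w₁) - 3 * c) * hkey + (-(B w w₁ * B w w₁)) * hab2
      + (Q w * Q w * c * c) * h50
  obtain ⟨z, hz, -, hzq⟩ := exists_b_q h.nd h.two h.hU h.dimU.ge hv hv0 0 (c - s * s * Q p)
  have hz0 : Q z ≠ 0 := by rw [hzq]; exact sub_ne_zero.2 (Ne.symm hsP)
  have hsp : s • p = (s * a) • w + (s * b) • w₁ := by rw [hab, smul_add, smul_smul, smul_smul]
  have h1 : RefIn M (s • p + z) := by
    rw [hsp]
    rcases hsd with hd | hd
    · exact h.step_comb hw hv hw₁ hq hw0 hv0 hqw hS hd hz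
        (by rw [← hsp, q_smul, hzq]; ring) hz0
    · have hS₁ := h.move hw hv hw₁ hv hqw (Or.inr hw0) rfl hv0 hS
      rw [add_comm ((s * a) • w)]
      exact h.step_comb hw₁ hv hw (by rw [← hqw]; exact hq) (by rw [← hqw]; exact hw0) hv0 hqw.symm hS₁
        (by rw [← hqw]; exact hd) hz (by rw [add_comm ((s * b) • w₁), ← hsp, q_smul, hzq]; ring) hz0
  have h3 := h.step_line (W.smul_mem _ hp) hz (by rw [q_smul, hzq]; ring) hz0 h1 s⁻¹ hv'
    (by rw [smul_smul, inv_mul_cancel₀ hs0, one_smul, hq']) hv'0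
  rwa [smul_smul, inv_mul_cancel₀ hs0, one_smul] at h3

/-- One mixed vector gives all. -/
theorem all_of_mixed {w v : ι → F} (hw : w ∈ W) (hv : v ∈ orth Q W) (hq : Q w + Q v = c)
    (hw0 : Q w ≠ 0) (hv0 : Q v ≠ 0) (hS : RefIn M (w + v)) (y : ι → F) (hy : Q y = c) :
    RefIn M y := by
  classical
  obtain ⟨p, hp, u, hu, rfl⟩ := exists_decomp h.nd h.hW y
  rw [h.q_sum hp hu] at hy
  by_cases hu0 : Q u = 0
  swap
  · exact h.step_all hw hv hq hw0 hv0 hS hp hu hy hu0
  by_cases hu1 : u = 0
  · rw [hu1, add_zero]; exact h.memW p hp (by rw [← hy, hu0, add_zero])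
  have hpc : Q p = c := by rw [← hy, hu0, add_zero]
  obtain ⟨s, hs0, hs1, hs2⟩ : ∃ s : F, s ≠ 0 ∧ s * s ≠ 1 ∧ 2 * (s * s) ≠ 1 := by
    by_cases h3 : (3 : F) = 0
    · by_contra hc
      push Not at hc
      cases nonempty_fintype F
      have hall : ∀ t : F, t ≠ 0 → t ^ 4 = 1 := fun t ht => by
        by_cases h1 : t * t = 1
        · linear_combination (t * t + 1) * h1
        · have h4 := hc t ht h1
          linear_combination (t * t - 1) * (-h4 + (t * t) * h3)
      have h9 : 7 ≤ Fintype.card F := by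
        have h5 := h.big
        rw [Nat.card_eq_fintype_card] at h5
        by_contra hlt
        push Not at hlt
        have h30 := Nat.cast_card_eq_zero F
        interval_cases hq : Fintype.card F
        · refine one_ne_zero (α := F) ?_
          push_cast at h30
          linear_combination 2 * h3 - h30
        · exact (FiniteField.even_card_iff_char_two (F := F)).2 (by rw [hq]) |> fun e => h.two (by
            have := CharP.cast_eq_zero F (ringChar F)
            rwa [e, Nat.cast_ofNat] at this)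
      have hd : ((Polynomial.X ^ 4 - 1 : Polynomial F)).natDegree = 4 := by compute_degree!
      have hne : (Polynomial.X ^ 4 - 1 : Polynomial F) ≠ 0 := fun e0 => by
        rw [e0, Polynomial.natDegree_zero] at hd; omega
      have hsub : (Finset.univ.erase (0 : F)) ⊆ (Polynomial.X ^ 4 - 1 : Polynomial F).roots.toFinset :=
        fun t ht => by
          rw [Multiset.mem_toFinset, Polynomial.mem_roots hne, Polynomial.IsRoot, Polynomial.eval_sub,
            Polynomial.eval_pow, Polynomial.eval_X, Polynomial.eval_one,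
            hall t (Finset.ne_of_mem_erase ht), sub_self]
      have h1 := Finset.card_le_card hsub
      rw [Finset.card_erase_of_mem (Finset.mem_univ _), Finset.card_univ] at h1
      have h4 := (Multiset.toFinset_card_le _).trans (Polynomial.card_roots' (Polynomial.X ^ 4 - 1 : Polynomial F))
      omega
    · by_cases h7 : (7 : F) = 0
      · refine ⟨3, h3, fun e0 => h.two ?_, fun e0 => h.two ?_⟩
        · exact absurd (show (1 : F) = 0 by linear_combination e0 - h7) one_ne_zero
        · exact absurd (show (3 : F) = 0 by linear_combination e0 - 2 * h7) h3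
      · exact ⟨2, h.two, fun e0 => h3 (by linear_combination e0), fun e0 => h7 (by linear_combination e0)⟩
  have hk : c / s - 2 * s * c ≠ 0 := fun e0 => hs2 (by
    refine mul_right_cancel₀ h.c0 ?_
    have e1 := congrArg (· * s) e0
    simp only [sub_mul, div_mul_cancel₀ _ hs0, zero_mul] at e1
    linear_combination -e1)
  obtain ⟨z, hz, hzb, hzq⟩ := exists_b_q_singular h.nd h.hU hu hu1 hu0 hk (c - s * s * c)
  have hx : Q (s • p + z) = c := by rw [h.q_sum (W.smul_mem _ hp) hz, q_smul, hpc, hzq]; ring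
  have hsx : RefIn M (s • p + z) := by
    refine h.step_all hw hv hq hw0 hv0 hS (W.smul_mem _ hp) hz
      (by rw [q_smul, hpc, hzq]; ring) ?_
    rw [hzq]
    intro e0
    exact hs1 (mul_right_cancel₀ h.c0 (by linear_combination -e0))
  have hbx : B (s • p + z) (p + u) = c / s := by
    rw [h.b_sum (W.smul_mem _ hp) hz hp hu, b_smul_left, b_self, hpc, b_comm z u, hzb]; ring
  obtain ⟨r, hr⟩ := exists_refl h.nd (v := s • p + z) (by rw [hx]; exact h.c0)
  have hry : ap r (p + u) = u - (1 / s) • z := by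
    rw [hr.2, hx, hbx, show c⁻¹ * (c / s) = 1 / s by field_simp [h.c0]]
    rw [smul_add, smul_smul, one_div, inv_mul_cancel₀ hs0, one_smul]
    abel
  have h1 : RefIn M (u - (1 / s) • z) := by
    refine h.memU _ (Submodule.sub_mem _ hu (Submodule.smul_mem _ _ hz)) ?_
    rw [← hry, ap_q, h.q_sum hp hu, hy]
  have h3 := h1.map (hsx r hr)
  rwa [← hry, ← ap_mul, refl_mul_self hr, ap_one] at h3

/-- An element moving the plane gives a mixed vector. -/
theorem exists_mixed {g : Grp Q} (hg : g ∈ M) (hgW : ∃ w ∈ W, ap g w ∉ W) :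
    ∃ w ∈ W, ∃ v ∈ orth Q W, Q w + Q v = c ∧ Q w ≠ 0 ∧ Q v ≠ 0 ∧ RefIn M (w + v) := by
  classical
  set U := orth Q W with hUdef
  have h5 := h.big
  -- the norm vectors of the orthogonal span it
  have hgen : ∀ X : Submodule F (ι → F), (∀ u ∈ U, Q u = c → ap g u ∈ X) → ∀ u ∈ U, ap g u ∈ X := by
    intro X hX
    have aniso : ∀ x ∈ U, Q x ≠ 0 → ap g x ∈ X := fun x hx hx0 => by
      obtain ⟨z, hz, hzb, hzq⟩ := exists_b_q h.nd h.two h.hU h.dimU.ge hx hx0 1 c
      obtain ⟨r, hr⟩ := exists_refl h.nd hx0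
      have e1 : ap r z = z - (Q x)⁻¹ • x := by rw [hr.2, hzb, mul_one]
      have h3 := hX _ (U.sub_mem hz (U.smul_mem (Q x)⁻¹ hx)) (by rw [← e1, ap_q, hzq])
      have h4 := X.smul_mem (Q x) (X.sub_mem (hX z hz hzq) h3)
      rwa [← ap_sub, sub_sub_cancel, ← ap_smul, smul_smul, mul_inv_cancel₀ hx0, one_smul] at h4
    intro x hx
    by_cases hx0 : Q x = 0
    swap
    · exact aniso x hx hx0
    by_cases hx1 : x = 0
    · rw [hx1, ap_zero]; exact X.zero_mem
    obtain ⟨z, hz, hzb, hzq⟩ := exists_b_q_singular h.nd h.hU hx hx1 hx0 one_ne_zero 1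
    have h3 := X.sub_mem (aniso (x + z) (U.add_mem hx hz) (by
      rw [q_add, hx0, hzq, hzb]
      intro e0
      exact h.two (by linear_combination e0))) (aniso z hz (by rw [hzq]; exact one_ne_zero))
    rwa [← ap_sub, add_sub_cancel_right] at h3
  obtain ⟨k, hk⟩ := exists_avoid ({0, 1, -1} : Finset F) (lt_of_le_of_lt Finset.card_le_three (by omega))
  simp only [Finset.mem_insert, Finset.mem_singleton, not_or] at hk
  have hk1 : c - k * k * c ≠ 0 := fun e0 => by
    have : (k - 1) * (k + 1) = 0 :=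
      (mul_eq_zero.1 (show (k - 1) * (k + 1) * c = 0 by linear_combination -e0)).resolve_right h.c0
    rcases mul_eq_zero.1 this with h7 | h7
    · exact hk.2.1 (by linear_combination h7)
    · exact hk.2.2 (by linear_combination h7)
  obtain ⟨u, hu, huq, hgu1, hgu2⟩ : ∃ u ∈ U, Q u = c ∧ ap g u ∉ W ∧ ap g u ∉ U := by
    by_contra hc
    push Not at hc
    have hfin : ∀ X : Submodule F (ι → F), (∀ u ∈ U, ap g u ∈ X) → 3 ≤ Module.finrank F X ∧
        (X = U → False) := by
      intro X hX
      let f : U →ₗ[F] X := LinearMap.codRestrict X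
        ((Matrix.mulVecLin ((g : GL ι F) : Matrix ι ι F)).comp U.subtype) fun u => hX u u.2
      have hf : Function.Injective f := fun a b e =>
        Subtype.ext (ap_inj g (congrArg Subtype.val e : _))
      refine ⟨h.dimU ▸ LinearMap.finrank_le_finrank_of_injective hf, ?_⟩
      rintro rfl
      obtain ⟨w, hw, hgw⟩ := hgW
      refine hgw ?_
      rw [← orth_orth h.nd W, ← hUdef, mem_orth]
      intro y hy
      obtain ⟨y', hy'⟩ := LinearMap.surjective_of_injective hf ⟨y, hy⟩
      rw [show y = ap g (y' : ι → F) from (congrArg Subtype.val hy').symm, ap_b, b_comm]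
      exact y'.2 w hw
    obtain ⟨u₁, hu₁, hu₁q, hu₁g⟩ : ∃ u ∈ U, Q u = c ∧ ap g u ∉ U := by
      by_contra hc'
      push Not at hc'
      exact (hfin U (hgen U hc')).2 rfl
    obtain ⟨u₂, hu₂, hu₂q, hu₂g⟩ : ∃ u ∈ U, Q u = c ∧ ap g u ∉ W := by
      by_contra hc'
      push Not at hc'
      have := (hfin W (hgen W hc')).1
      rw [h.dimW] at this
      omega
    have g1 : ap g u₁ ∈ W := by_contra fun e => hu₁g (hc u₁ hu₁ hu₁q e)
    have g2 : ap g u₂ ∈ U := hc u₂ hu₂ hu₂q hu₂g
    have h12 : B u₁ u₂ = 0 := by rw [← ap_b g]; exact orth_b g2 g1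
    -- a vector meeting both
    have hX : NondegOn Q (relOrth Q U (Submodule.span F {u₁})) :=
      nondegOn_relOrth h.two h.hU hu₁ (by rw [hu₁q]; exact h.c0)
    have hX2 : 2 ≤ Module.finrank F (relOrth Q U (Submodule.span F {u₁})) := by
      have h4 := finrank_relOrth h.nd U (Submodule.span F {u₁})
      rw [h.dimU, finrank_span_singleton (fun e => h.c0 (by rw [← hu₁q, e, QuadraticMap.map_zero]))] at h4
      omega
    have hu₂X : u₂ ∈ relOrth Q U (Submodule.span F {u₁}) := ⟨hu₂, mem_orth_span.2 (by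
      rintro s rfl; exact h12)⟩
    have hR := nondegOn_relOrth h.two hX hu₂X (by rw [hu₂q]; exact h.c0)
    obtain ⟨n, hn, hn0⟩ : ∃ n ∈ relOrth Q (relOrth Q U (Submodule.span F {u₁})) (Submodule.span F {u₂}),
        n ≠ 0 := by
      refine Submodule.exists_mem_ne_zero_of_ne_bot fun e => ?_
      have h4 := finrank_relOrth h.nd (relOrth Q U (Submodule.span F {u₁})) (Submodule.span F {u₂})
      rw [e, finrank_bot, finrank_span_singleton (fun e => h.c0 (by rw [← hu₂q, e, QuadraticMap.map_zero]))] at h4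
      omega
    have b1n : B u₁ n = 0 := hn.1.2 u₁ (Submodule.mem_span_singleton_self _)
    have b2n : B u₂ n = 0 := hn.2 u₂ (Submodule.mem_span_singleton_self _)
    have hnU : n ∈ U := hn.1.1
    -- solve on the plane
    obtain ⟨a, d, ha, had⟩ : ∃ a d : F, a ≠ 0 ∧ 2 * c * (a * a) + Q n * (d * d) = c := by
      cases nonempty_fintype F
      have hq0 : Q n ≠ 0 := by
        intro e0
        have hle : relOrth Q (relOrth Q U (Submodule.span F {u₁})) (Submodule.span F {u₂}) ≤
            Submodule.span F {n} := by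
          refine (Submodule.eq_of_le_of_finrank_le ((Submodule.span_singleton_le_iff_mem _ _).2 hn) ?_).ge
          rw [finrank_span_singleton hn0]
          have h6 : Module.finrank F (relOrth Q U (Submodule.span F {u₁})) ≤ 2 := by
            have h7 : relOrth Q U (Submodule.span F {u₁}) < U := lt_of_le_of_ne inf_le_left fun e => by
              have h8 : B u₁ u₁ = 0 := (le_of_eq e.symm hu₁).2 u₁ (Submodule.mem_span_singleton_self _)
              rw [b_self, hu₁q] at h8
              exact mul_ne_zero h.two h.c0 h8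
            have := Submodule.finrank_lt_finrank_of_lt h7
            rw [h.dimU] at this
            omega
          have h7 : relOrth Q (relOrth Q U (Submodule.span F {u₁})) (Submodule.span F {u₂}) <
              relOrth Q U (Submodule.span F {u₁}) := lt_of_le_of_ne inf_le_left fun e => by
            have h8 : B u₂ u₂ = 0 := (le_of_eq e.symm hu₂X).2 u₂ (Submodule.mem_span_singleton_self _)
            rw [b_self, hu₂q] at h8
            exact mul_ne_zero h.two h.c0 h8
          have := Submodule.finrank_lt_finrank_of_lt h7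
          omega
        refine hn0 (hR n hn fun y hy => ?_)
        obtain ⟨t, rfl⟩ := Submodule.mem_span_singleton.1 (hle hy)
        rw [b_smul_right, b_self, e0, mul_zero, mul_zero]
      obtain ⟨a₀, d₀, had⟩ := FiniteField.exists_root_sum_quadratic
        (f := Polynomial.C (2 * c) * Polynomial.X ^ 2 + Polynomial.C (-c))
        (g := Polynomial.C (Q n) * Polynomial.X ^ 2)
        (by
          have := mul_ne_zero h.two h.c0
          compute_degree!
          exact mul_ne_zero_iff.1 this)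
        (by compute_degree!)
        (by
          have h4 := FiniteField.odd_card_of_char_ne_two (F := F) (fun e => h.two (by
            have := CharP.cast_eq_zero F (ringChar F); rwa [e, Nat.cast_ofNat] at this))
          omega)
      simp only [Polynomial.eval_add, Polynomial.eval_mul, Polynomial.eval_C, Polynomial.eval_pow,
        Polynomial.eval_X] at had
      by_cases ha0 : a₀ = 0
      swap
      · exact ⟨a₀, d₀, ha0, by linear_combination had⟩
      subst ha0
      obtain ⟨t, ht0, htm⟩ : ∃ t : F, t ≠ 0 ∧ 2 * c * (t * t) + Q n ≠ 0 := by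
        by_contra hc'
        push Not at hc'
        have h1 := hc' 1 one_ne_zero
        obtain ⟨s, hs⟩ := exists_avoid ({0, 1, -1} : Finset F) (lt_of_le_of_lt Finset.card_le_three (by omega))
        simp only [Finset.mem_insert, Finset.mem_singleton, not_or] at hs
        have h6 : (s - 1) * (s + 1) = 0 :=
          (mul_eq_zero.1 (show (s - 1) * (s + 1) * (2 * c) = 0 by
            linear_combination hc' s hs.1 - h1)).resolve_right (mul_ne_zero h.two h.c0)
        rcases mul_eq_zero.1 h6 with h7 | h7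
        · exact hs.2.1 (by linear_combination h7)
        · exact hs.2.2 (by linear_combination h7)
      obtain ⟨m, hm⟩ : ∃ m, m = 2 * d₀ * Q n / (2 * c * (t * t) + Q n) := ⟨_, rfl⟩
      have hm' : m * (2 * c * (t * t) + Q n) = 2 * d₀ * Q n := by rw [hm, div_mul_cancel₀ _ htm]
      have hd0 : d₀ ≠ 0 := fun e0 => h.c0 (by rw [e0] at had; linear_combination -had)
      refine ⟨-m * t, d₀ - m, mul_ne_zero (neg_ne_zero.2 ?_) ht0, ?_⟩
      · rw [hm]; exact div_ne_zero (mul_ne_zero (mul_ne_zero h.two hd0) hq0) htm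
      · linear_combination had + m * hm'
    have h3U : a • (u₁ + u₂) + d • n ∈ U :=
      U.add_mem (U.smul_mem _ (U.add_mem hu₁ hu₂)) (U.smul_mem _ hnU)
    have hq3 : Q (a • (u₁ + u₂) + d • n) = c := by
      rw [q_add, q_smul, q_smul, q_add u₁, hu₁q, hu₂q, h12, b_smul_left, b_smul_right, b_add_left,
        b1n, b2n]
      linear_combination had
    by_cases hW3 : ap g (a • (u₁ + u₂) + d • n) ∈ W
    · have h8 := orth_b g2 hW3
      rw [ap_b, b_add_left, b_smul_left, b_add_left, h12, b_self, hu₂q, b_smul_left, b_comm n u₂,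
        b2n] at h8
      exact mul_ne_zero ha (mul_ne_zero h.two h.c0) (by linear_combination h8)
    · have h8 := orth_b (hc _ h3U hq3 hW3) g1
      rw [ap_b, b_add_right, b_smul_right, b_add_right, h12, b_self, hu₁q, b_smul_right, b1n] at h8
      exact mul_ne_zero ha (mul_ne_zero h.two h.c0) (by linear_combination h8)
  have hS := (h.memU u hu huq).map hg
  obtain ⟨w, hw, v, hv, he⟩ := exists_decomp h.nd h.hW (ap g u)
  have hx : Q (w + v) = c := by rw [← he, ap_q, huq]
  have hq : Q w + Q v = c := by rw [← h.q_sum hw hv, hx]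
  rw [he] at hS hgu1 hgu2
  have hwne : w ≠ 0 := fun e => hgu2 (by rw [e, zero_add]; exact hv)
  have hvne : v ≠ 0 := fun e => hgu1 (by rw [e, add_zero]; exact hw)
  by_cases hw0 : Q w = 0
  · obtain ⟨z, hz, hzb, hzq⟩ := exists_b_q_singular h.nd h.hW hw hwne hw0 (mul_ne_zero hk.1 h.c0) c
    have h1 := h.refl_in hx hS (h.memW z hz hzq) k (by rw [b_add_left, b_comm v z, orth_b hv hz, add_zero, hzb])
    rw [show z - k • (w + v) = (z - k • w) + (-k) • v by module] at h1
    have hv' : Q ((-k) • v) = k * k * c := by rw [q_smul]; linear_combination k * k * (hq - hw0)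
    have hw' : Q (z - k • w) = c - k * k * c := by
      rw [q_sub, q_smul, b_smul_right, b_comm z w, hzb, hzq, hw0]; ring
    exact ⟨_, W.sub_mem hz (W.smul_mem _ hw), _, Submodule.smul_mem _ _ hv,
      by rw [hw', hv']; ring, by rw [hw']; exact hk1,
      by rw [hv']; exact mul_ne_zero (mul_ne_zero hk.1 hk.1) h.c0, h1⟩
  by_cases hv0 : Q v = 0
  · obtain ⟨z, hz, hzb, hzq⟩ := exists_b_q_singular h.nd h.hU hv hvne hv0 (mul_ne_zero hk.1 h.c0) c
    have h1 := h.refl_in hx hS (h.memU z hz hzq) k (by rw [b_add_left, orth_b hz hw, zero_add, hzb])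
    rw [show z - k • (w + v) = (-k) • w + (z - k • v) by module] at h1
    have hw' : Q ((-k) • w) = k * k * c := by rw [q_smul]; linear_combination k * k * (hq - hv0)
    have hv' : Q (z - k • v) = c - k * k * c := by
      rw [q_sub, q_smul, b_smul_right, b_comm z v, hzb, hzq, hv0]; ring
    exact ⟨_, W.smul_mem _ hw, _, Submodule.sub_mem _ hz (Submodule.smul_mem _ _ hv),
      by rw [hw', hv']; ring, by rw [hw']; exact mul_ne_zero (mul_ne_zero hk.1 hk.1) h.c0,
      by rw [hv']; exact hk1, h1⟩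
  exact ⟨w, hw, v, hv, hq, hw0, hv0, hS⟩

theorem omega_le {g : Grp Q} (hg : g ∈ M) (hgW : ∃ w ∈ W, ap g w ∉ W) : Cfsg.Omega F ⇑Q ≤ M := by
  obtain ⟨w, hw, v, hv, hq, hw0, hv0, hS⟩ := h.exists_mixed hg hgW
  obtain ⟨u, hu, huq⟩ := univ_of_nondeg h.hU (by rw [h.dimU]; norm_num) c h.c0
  have hR := nondegOn_relOrth h.two h.hU hu (by rw [huq]; exact h.c0)
  obtain ⟨n, hn, hnq⟩ := univ_of_nondeg hR (by
    have h4 := finrank_relOrth h.nd (orth Q W) (Submodule.span F {u})
    rw [h.dimU, finrank_span_singleton (fun e => h.c0 (by rw [← huq, e, QuadraticMap.map_zero]))] at h4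
    omega) c h.c0
  exact omega_le_of_refl h.nd h.two h.big h.five.ge h.c0
    (fun x r hx hr => h.all_of_mixed hw hv hq hw0 hv0 hS x hx r hr) huq hnq
    (hn.2 u (Submodule.mem_span_singleton_self u))

end PlaneCfg

/-- Commutators do not see a central factor. -/
theorem le_of_le_sup_central {G : Type*} [Group G] {K M Z : Subgroup G} [Z.Normal]
    (hZ : ∀ c ∈ Z, ∀ g : G, g * c = c * g) (hK : ⁅K, K⁆ = K) (h : K ≤ M ⊔ Z) : K ≤ M := by
  refine le_trans hK.ge (Subgroup.commutator_le.2 fun x hx y hy => ?_)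
  obtain ⟨m, hm, c, hc, rfl⟩ := Subgroup.mem_sup_of_normal_right.1 (h hx)
  obtain ⟨m', hm', c', hc', rfl⟩ := Subgroup.mem_sup_of_normal_right.1 (h hy)
  have : ⁅m * c, m' * c'⁆ = ⁅m, m'⁆ := by
    rw [commutatorElement_def, commutatorElement_def]
    calc m * c * (m' * c') * (m * c)⁻¹ * (m' * c')⁻¹
        = m * (c * (m' * c')) * c⁻¹ * m⁻¹ * c'⁻¹ * m'⁻¹ := by group
      _ = m * m' * c' * m⁻¹ * c'⁻¹ * m'⁻¹ := by
          rw [← hZ c hc (m' * c')]; group
      _ = m * m' * (c' * m⁻¹) * c'⁻¹ * m'⁻¹ := by group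
      _ = _ := by rw [← hZ c' hc' m⁻¹]; group
  rw [this, commutatorElement_def]
  exact mul_mem (mul_mem (mul_mem hm hm') (inv_mem hm)) (inv_mem hm')

/-- An overgroup of the stabiliser of a non-degenerate plane stabilises it or contains `Ω`. -/
theorem plane_stab_or_omega (hB : Nondeg Q) (h2 : (2 : F) ≠ 0)
    (h5 : Module.finrank F (ι → F) = 5) (hq : 5 ≤ Nat.card F) {W : Submodule F (ι → F)}
    (hW : NondegOn Q W) (hW2 : Module.finrank F W = 2) {M : Subgroup (Grp Q)}
    (hM : ∀ g ∈ Cfsg.Omega F ⇑Q, (∀ w ∈ W, ap g w ∈ W) → g ∈ M) :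
    (∀ g ∈ M, ∀ w ∈ W, ap g w ∈ W) ∨ Cfsg.Omega F ⇑Q ≤ M := by
  by_cases hst : ∀ g ∈ M, ∀ w ∈ W, ap g w ∈ W
  · exact Or.inl hst
  push Not at hst
  obtain ⟨g, hg, hgW⟩ := hst
  right
  obtain ⟨z, hz⟩ := exists_iso hB (-LinearMap.id) (fun x => by
    rw [LinearMap.neg_apply, LinearMap.id_apply, ← neg_one_smul F x, q_smul]
    ring)
  have hz' : ∀ x, ap z x = -x := fun x => by rw [hz, LinearMap.neg_apply, LinearMap.id_apply]
  have hcomm : ∀ g : Grp Q, g * z = z * g := fun g => ext_ap fun x => by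
    rw [ap_mul, ap_mul, hz', hz', ← neg_one_smul F x, ap_smul, neg_one_smul]
  obtain ⟨c, hc, hcl⟩ := exists_class hB h2 h5.ge (by rw [h5]; decide) hz'
  let Z := Subgroup.zpowers z
  have hZc : ∀ c ∈ Z, ∀ g : Grp Q, g * c = c * g := fun c hc g => by
    obtain ⟨k, rfl⟩ := Subgroup.mem_zpowers_iff.1 hc
    exact (Commute.zpow_right (hcomm g) k).eq
  haveI : Z.Normal := ⟨fun c hc g => by rw [hZc c hc g, mul_inv_cancel_right]; exact hc⟩
  have hside : ∀ x, (x ∈ orth Q W ∨ x ∈ W) → Q x = c → RefIn (M ⊔ Z) x := by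
    intro x hx hqx r hr
    have hzr := hcl x r hr (by rw [hqx]; exact ⟨c, rfl⟩)
    have hzrM : z * r ∈ M := hM _ hzr fun w hw => by
      rw [ap_mul, hz']
      refine W.neg_mem ?_
      rcases hx with hx | hx
      · rw [refl_fix hr (by rw [b_comm]; exact hx w hw)]; exact hw
      · rw [hr.2]; exact W.sub_mem hw (W.smul_mem _ hx)
    have := mul_mem (Subgroup.mem_sup_right (inv_mem (Subgroup.mem_zpowers z)) : z⁻¹ ∈ M ⊔ Z)
      (Subgroup.mem_sup_left hzrM)
    rwa [inv_mul_cancel_left] at this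
  have cfg : PlaneCfg Q W c (M ⊔ Z) := ⟨hB, h2, h5, hq, hW, hW2, hc,
    fun g hg hgs => Subgroup.mem_sup_left (hM g hg hgs), fun x hx => hside x (Or.inl hx),
    fun x hx => hside x (Or.inr hx)⟩
  exact le_of_le_sup_central hZc (omega_perfect hB h5.ge)
    (cfg.omega_le (Subgroup.mem_sup_left hg) hgW)

end CfsgLib.Orth.FiveMax
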