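import Cfsg.Agent.Lib.Classical.FiveMax.Bridge
import Cfsg.Agent.Lib.Classical.SympPair
import Cfsg.Agent.Lib.Classical.SympOverfieldUMax

set_option autoImplicit false
set_option linter.unusedSectionVars false

/-!
The pair of totally singular planes and the unitary-type quadratic field in `Sp_4`, odd order at least five.
-/

namespace CfsgLib.Orth.FiveMax

open Matrix
open CfsgLib.Classical

variable {F : Type*} [Field F] [Fintype F]

theorem pair_isMaximalIn (hodd : Odd (Fintype.card F)) (hq : 5 ≤ Fintype.card F)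
    {D : Fin 2 → Submodule F (Fin 2 ⊕ Fin 2 → F)} (hD : Cfsg.Geo.IsMDecomposition 2 D)
    (hts : ∀ i, Cfsg.Geo.IsTotallySingularFor (Cfsg.sympForm 2 F) (D i)) :
    Cfsg.Geo.IsMaximalIn (Cfsg.spGL 2 F) (Cfsg.Geo.decompositionStabilizer D ⊓ Cfsg.spGL 2 F) := by
  obtain ⟨Q, ⟨K⟩⟩ := exists_kleinHom hodd
  have h2 := K.two
  have P := SympPair.pol_of hD hts
  let e : (Fin 2 ⊕ Fin 2 → F) →ₗ[F] (Fin 2 ⊕ Fin 2 → F) := (D 0).projection (D 1) P.compl
  have he1 : ∀ x ∈ D 0, e x = x := fun x hx => Submodule.IsCompl.projection_apply_left P.compl ⟨x, hx⟩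
  have he2 : ∀ x ∈ D 1, e x = 0 := fun x hx => by
    simpa [e] using Submodule.IsCompl.projection_apply_eq_zero_iff P.compl (x := x) |>.2 hx
  obtain ⟨j, hjdef⟩ : ∃ j, j = LinearMap.toMatrix' ((2 : F) • e - LinearMap.id) := ⟨_, rfl⟩
  have hj1 : ∀ x ∈ D 0, j *ᵥ x = x := fun x hx => by
    rw [hjdef, LinearMap.toMatrix'_mulVec, LinearMap.sub_apply, LinearMap.smul_apply, he1 x hx,
      LinearMap.id_apply, two_smul, add_sub_cancel_right]
  have hj2 : ∀ x ∈ D 1, j *ᵥ x = -x := fun x hx => by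
    rw [hjdef, LinearMap.toMatrix'_mulVec, LinearMap.sub_apply, LinearMap.smul_apply, he2 x hx,
      LinearMap.id_apply, smul_zero, zero_sub]
  have hdec : ∀ x, ∃ a ∈ D 0, ∃ b ∈ D 1, a + b = x := fun x =>
    Submodule.mem_sup.1 (P.compl.sup_eq_top ▸ Submodule.mem_top)
  have hne : ∀ i, ∃ x ∈ D i, x ≠ 0 := fun i => Submodule.exists_mem_ne_zero_of_ne_bot fun e0 => by
    have := hD.finrank_eq i
    rw [e0, finrank_bot] at this
    omega
  have hsq : j * j = (1 : F) • (1 : Matrix (Fin 2 ⊕ Fin 2) (Fin 2 ⊕ Fin 2) F) :=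
    Matrix.ext_iff_mulVec.2 fun x => by
      obtain ⟨a, ha, b, hb, rfl⟩ := hdec x
      rw [← Matrix.mulVec_mulVec, one_smul, Matrix.one_mulVec]
      simp only [Matrix.mulVec_add, hj1 a ha, hj2 b hb, Matrix.mulVec_neg, neg_neg]
  refine K.root_isMaximalIn hq one_ne_zero hsq (fun x y => ?_) (fun c hc => ?_) (fun g => ?_)
  · obtain ⟨a, ha, b, hb, rfl⟩ := hdec x
    obtain ⟨a', ha', b', hb', rfl⟩ := hdec y
    simp only [Matrix.mulVec_add, hj1 a ha, hj2 b hb, hj1 a' ha', hj2 b' hb', SympTrans.f_add_left,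
      SympTrans.f_add_right, ← neg_one_smul F b, ← neg_one_smul F b', SympTrans.f_smul_left,
      SympTrans.f_smul_right, P.u0 a ha a' ha', P.w0 b hb b' hb']
    ring
  · obtain ⟨a, ha, ha0⟩ := hne 0
    obtain ⟨b, hb, hb0⟩ := hne 1
    have e1 := hj1 a ha
    have e2 := hj2 b hb
    rw [hc, Matrix.smul_mulVec, Matrix.one_mulVec] at e1 e2
    have c1 : c = 1 := by
      refine sub_eq_zero.1 ((smul_eq_zero.1 (show (c - 1) • a = 0 by
        rw [sub_smul, one_smul, e1, sub_self])).resolve_right ha0)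
    rw [c1, one_smul] at e2
    exact hb0 ((smul_eq_zero.1 (show (2 : F) • b = 0 by
      rw [two_smul]; exact add_eq_zero_iff_eq_neg.2 e2)).resolve_left h2)
  obtain ⟨s, rfl⟩ := SympTrans.toSpGL_surjective g
  rw [SympPair.map_eq_iff hD s, SympTrans.toSpGL_coe]
  have hneg : ∀ x : Fin 2 ⊕ Fin 2 → F, j *ᵥ x = x → x ∈ D 0 := fun x hx => by
    obtain ⟨a, ha, b, hb, rfl⟩ := hdec x
    rw [Matrix.mulVec_add, hj1 a ha, hj2 b hb, add_right_inj, eq_comm, ← sub_eq_zero, sub_neg_eq_add,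
      ← two_smul F] at hx
    rwa [(smul_eq_zero.1 hx).resolve_left h2, add_zero]
  have hpos : ∀ x : Fin 2 ⊕ Fin 2 → F, j *ᵥ x = -x → x ∈ D 1 := fun x hx => by
    obtain ⟨a, ha, b, hb, rfl⟩ := hdec x
    rw [Matrix.mulVec_add, hj1 a ha, hj2 b hb, neg_add, add_left_inj, ← sub_eq_zero, sub_neg_eq_add,
      ← two_smul F] at hx
    rwa [(smul_eq_zero.1 hx).resolve_left h2, zero_add]
  constructor
  · rintro (⟨h0, h1⟩ | ⟨h0, h1⟩)
    · refine Or.inl (Matrix.ext_iff_mulVec.2 fun x => ?_)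
      obtain ⟨a, ha, b, hb, rfl⟩ := hdec x
      rw [← Matrix.mulVec_mulVec, ← Matrix.mulVec_mulVec]
      simp only [Matrix.mulVec_add, hj1 a ha, hj2 b hb, Matrix.mulVec_neg]
      exact congrArg₂ (· + ·) (hj1 _ (h0 a ha)).symm (hj2 _ (h1 b hb)).symm
    · refine Or.inr (Matrix.ext_iff_mulVec.2 fun x => ?_)
      obtain ⟨a, ha, b, hb, rfl⟩ := hdec x
      rw [Matrix.neg_mulVec, ← Matrix.mulVec_mulVec, ← Matrix.mulVec_mulVec]
      simp only [Matrix.mulVec_add, hj1 a ha, hj2 b hb, Matrix.mulVec_neg, neg_add]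
      refine congrArg₂ (· + ·) ((neg_eq_iff_eq_neg.2 ?_).symm) (congrArg Neg.neg (hj1 _ (h1 b hb)).symm)
      exact hj2 _ (h0 a ha)
  · rintro (h | h)
    · refine Or.inl ⟨fun x hx => hneg _ ?_, fun x hx => hpos _ ?_⟩ <;>
        rw [SympTrans.app, Matrix.mulVec_mulVec, ← h, ← Matrix.mulVec_mulVec]
      · rw [hj1 x hx]
      · rw [hj2 x hx, Matrix.mulVec_neg]
    · have h' : j * (s : Matrix (Fin 2 ⊕ Fin 2) (Fin 2 ⊕ Fin 2) F) =
          -((s : Matrix (Fin 2 ⊕ Fin 2) (Fin 2 ⊕ Fin 2) F) * j) := by rw [h, neg_neg]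
      refine Or.inr ⟨fun x hx => hpos _ ?_, fun x hx => hneg _ ?_⟩ <;>
        rw [SympTrans.app, Matrix.mulVec_mulVec, h', Matrix.neg_mulVec, ← Matrix.mulVec_mulVec]
      · rw [hj1 x hx]
      · rw [hj2 x hx, Matrix.mulVec_neg, neg_neg]

theorem unitary_isMaximalIn (hodd : Odd (Fintype.card F)) (hq : 5 ≤ Fintype.card F)
    {K' : Subalgebra F (Matrix (Fin 2 ⊕ Fin 2) (Fin 2 ⊕ Fin 2) F)}
    (hK : Cfsg.Geo.IsFieldSubalgebra 2 K')
    (hac : Cfsg.Geo.IsAdjointClosedFor (Cfsg.sympForm 2 F) K')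
    (hnsa : ¬ Cfsg.Geo.IsSelfAdjointFor (Cfsg.sympForm 2 F) K') :
    Cfsg.Geo.IsMaximalIn (Cfsg.spGL 2 F) (Cfsg.Geo.subalgebraNormalizer K' ⊓ Cfsg.spGL 2 F) := by
  obtain ⟨Q, ⟨K⟩⟩ := exists_kleinHom hodd
  have h2 := K.two
  obtain ⟨j, d, hj, hjs, hjj, hns, hskew⟩ := SympU.exists_root (by norm_num) h2 hK hac hnsa
  have hd : d ≠ 0 := fun e => hns 0 (by rw [e, mul_zero])
  refine K.root_isMaximalIn hq hd hjj hskew hjs fun g => ?_
  set A : Matrix (Fin 2 ⊕ Fin 2) (Fin 2 ⊕ Fin 2) F :=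
    ((g : GL (Fin 2 ⊕ Fin 2) F) : Matrix (Fin 2 ⊕ Fin 2) (Fin 2 ⊕ Fin 2) F) with hA
  set Ai : Matrix (Fin 2 ⊕ Fin 2) (Fin 2 ⊕ Fin 2) F :=
    (((g : GL (Fin 2 ⊕ Fin 2) F)⁻¹ : GL (Fin 2 ⊕ Fin 2) F) :
      Matrix (Fin 2 ⊕ Fin 2) (Fin 2 ⊕ Fin 2) F) with hAi
  have hAA : A * Ai = 1 := Units.mul_inv _
  have hAiA : Ai * A = 1 := Units.inv_mul _
  show (∀ k, k ∈ K' ↔ A * k * Ai ∈ K') ↔ _
  constructor
  · intro hN
    obtain ⟨p, q, hpq⟩ := SympU.exists_span (by norm_num) hK hj hjs ((hN j).1 hj)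
    have h3 : (A * j * Ai) * (A * j * Ai) = d • (1 : Matrix (Fin 2 ⊕ Fin 2) (Fin 2 ⊕ Fin 2) F) := by
      rw [Matrix.mul_assoc (A * j), ← Matrix.mul_assoc Ai, ← Matrix.mul_assoc Ai, hAiA, Matrix.one_mul,
        ← Matrix.mul_assoc (A * j), Matrix.mul_assoc A, hjj, Matrix.mul_smul, Matrix.mul_one,
        Matrix.smul_mul, hAA]
    have hz : ∀ a b : F, a • (1 : Matrix (Fin 2 ⊕ Fin 2) (Fin 2 ⊕ Fin 2) F) + b • j = 0 → a = 0 ∧ b = 0 := by
      intro a b h
      by_cases hb : b = 0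
      · rw [hb, zero_smul, add_zero] at h
        exact ⟨(smul_eq_zero.1 h).resolve_right one_ne_zero, hb⟩
      · exfalso
        refine hjs (-(b⁻¹ * a)) ?_
        rw [neg_smul, mul_smul, eq_neg_of_add_eq_zero_left h, smul_neg, inv_smul_smul₀ hb, neg_neg]
    have h4 := hz (p * p + q * q * d - d) (2 * (p * q)) (by
      rw [hpq] at h3
      simp only [Matrix.add_mul, Matrix.mul_add, Matrix.smul_mul, Matrix.mul_smul, Matrix.one_mul,
        Matrix.mul_one, hjj, smul_smul] at h3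
      rw [sub_smul, add_smul, mul_smul (2 : F), two_smul]
      rw [← h3]
      match_scalars <;> ring)
    have hjA : A * j = (A * j * Ai) * A := by rw [Matrix.mul_assoc (A * j), hAiA, Matrix.mul_one]
    have hp : p = 0 := by
      rcases mul_eq_zero.1 ((mul_eq_zero.1 h4.2).resolve_left h2) with hp | hq
      · exact hp
      · exfalso
        refine hns p ?_
        rw [hq] at h4
        linear_combination h4.1
    rw [hp, zero_smul, zero_add] at hpq
    have hqq : q * q = 1 := by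
      have h5 := h4.1
      rw [hp] at h5
      exact mul_right_cancel₀ hd (by linear_combination h5)
    rw [hpq] at hjA
    rcases mul_self_eq_one_iff.1 hqq with rfl | rfl
    · exact Or.inl (by rw [hjA, one_smul])
    · exact Or.inr (by rw [hjA, neg_one_smul, Matrix.neg_mul])
  · intro h
    have hconj : ∀ (B C : Matrix (Fin 2 ⊕ Fin 2) (Fin 2 ⊕ Fin 2) F), B * C = 1 →
        (B * j = j * B ∨ B * j = -(j * B)) → ∀ k ∈ K', B * k * C ∈ K' := by
      intro B C hBC hB k hk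
      obtain ⟨p, q, rfl⟩ := SympU.exists_span (by norm_num) hK hj hjs hk
      rw [Matrix.mul_add, Matrix.add_mul, Matrix.mul_smul, Matrix.mul_smul, Matrix.smul_mul,
        Matrix.smul_mul, Matrix.mul_one, hBC]
      refine K'.add_mem (K'.smul_mem K'.one_mem _) (K'.smul_mem ?_ _)
      rcases hB with e | e <;> rw [e]
      · rw [Matrix.mul_assoc, hBC, Matrix.mul_one]; exact hj
      · rw [Matrix.neg_mul, Matrix.mul_assoc, hBC, Matrix.mul_one]; exact K'.neg_mem hj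
    have h' : Ai * j = j * Ai ∨ Ai * j = -(j * Ai) := by
      rcases h with e | e
      · have e1 : Ai * j = Ai * (j * A) * Ai := by
          rw [Matrix.mul_assoc Ai, Matrix.mul_assoc j, hAA, Matrix.mul_one]
        rw [← e, ← Matrix.mul_assoc Ai, hAiA, Matrix.one_mul] at e1
        exact Or.inl e1
      · have e1 : Ai * j = Ai * (j * A) * Ai := by
          rw [Matrix.mul_assoc Ai, Matrix.mul_assoc j, hAA, Matrix.mul_one]
        rw [show j * A = -(A * j) by rw [e, neg_neg], Matrix.mul_neg, ← Matrix.mul_assoc Ai, hAiA,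
          Matrix.one_mul, Matrix.neg_mul] at e1
        exact Or.inr e1
    refine fun k => ⟨hconj A Ai hAA h k, fun hk => ?_⟩
    have := hconj Ai A hAiA h' _ hk
    rwa [← Matrix.mul_assoc, ← Matrix.mul_assoc, hAiA, Matrix.one_mul, Matrix.mul_assoc, hAiA,
      Matrix.mul_one] at this

end CfsgLib.Orth.FiveMax
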