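import Cfsg.Agent.Lib.Classical.FiveMax.Bridge
import Cfsg.Agent.Lib.Classical.FiveMax.FrameMain
import Cfsg.Agent.Lib.Classical.Pauli.Normal
import Cfsg.Agent.Lib.Classical.OrthConfig

set_option autoImplicit false
set_option linter.unusedSectionVars false

/-!
The normaliser of a minus type `2^(1+4)` in `Sp_4(p)` is the stabiliser of an orthogonal frame of five lines.
-/

namespace CfsgLib.Orth.FiveMax

open Matrix
open CfsgLib.Classical
open Cfsg.Geo (matrixSet subgroupNormalizer IsSymplecticTypeGroup ActsAbsolutelyIrreducibly IsOfMinusType)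

variable {F : Type*} [Field F]

/-- The five pairwise anticommuting involutions. -/
def v5 : Fin 5 → Pauli.V := ![(1, 0, 0, 0), (0, 1, 0, 0), (1, 1, 1, 0), (1, 1, 0, 1), (1, 1, 1, 1)]

theorem v5_facts : (∀ k, Pauli.cyc (v5 k) (v5 k) = 0 ∧ v5 k ≠ 0) ∧
    (∀ k l, k ≠ l → Pauli.om (v5 k) (v5 l) = 1) ∧
    (∀ v : Pauli.V, Pauli.cyc v v = 0 → v ≠ 0 → ∃ k, v = v5 k) ∧
    v5 0 + v5 1 + v5 2 = (0, 0, 1, 0) ∧ v5 0 + v5 1 + v5 3 = (0, 0, 0, 1) := by
  refine ⟨?_, ?_, ?_, ?_, ?_⟩ <;> decide +kernel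

theorem v5_injective : Function.Injective v5 := by decide +kernel

theorem symp_type_isMaximalIn [Fintype F] (hodd : Odd (Fintype.card F)) {p : ℕ} (hp : p.Prime)
    (hcard : Fintype.card F = p) (R : Subgroup (GL (Fin 2 ⊕ Fin 2) F))
    (hS : IsSymplecticTypeGroup 2 R) (habs : ActsAbsolutelyIrreducibly (matrixSet R))
    (hle : R ≤ Cfsg.spGL 2 F) (h32 : Nat.card R = 32) (hZ : Nat.card (Subgroup.center R) = 2)
    (hminus : IsOfMinusType 2 R) :
    Cfsg.Geo.IsMaximalIn (Cfsg.spGL 2 F) (subgroupNormalizer R ⊓ Cfsg.spGL 2 F) := by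
  classical
  obtain ⟨Q, ⟨K⟩⟩ := exists_kleinHom hodd
  have h2 := K.two
  have h4 : Fintype.card (Fin 2 ⊕ Fin 2) = 4 := by simp
  obtain ⟨⟨f, hf⟩, hneg, -⟩ := Pauli.exists_spans h2 h4 hS habs (by rw [h32]) hZ (Or.inr ⟨rfl, hminus⟩)
  obtain ⟨hsq, hanti, hlist, hc3, hd3⟩ := v5_facts
  -- the elements
  have hex : ∀ k, ∃ x : Cfsg.spGL 2 F, (x : GL (Fin 2 ⊕ Fin 2) F) ∈ R ∧
      ((x : GL (Fin 2 ⊕ Fin 2) F) : Matrix (Fin 2 ⊕ Fin 2) (Fin 2 ⊕ Fin 2) F) = f.M (v5 k) := fun k => by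
    obtain ⟨x, hx, hx'⟩ := hf.mem_M (v5 k)
    exact ⟨⟨x, hle hx⟩, hx, hx'⟩
  choose x hxR hx using hex
  have hne : ∀ v : Pauli.V, v ≠ 0 → ∀ c : F, f.M v ≠ c • (1 : Matrix (Fin 2 ⊕ Fin 2) (Fin 2 ⊕ Fin 2) F) := by
    intro v hv c hc
    rw [← f.M_zero] at hc
    exact hv (f.coord_unique h2 h4 (t := (1 : F)) one_ne_zero (by rw [one_smul, hc])).1
  have hxx : ∀ k, x k * x k = 1 := fun k => Subtype.ext (Units.ext (by
    show ((x k : GL (Fin 2 ⊕ Fin 2) F) : Matrix (Fin 2 ⊕ Fin 2) (Fin 2 ⊕ Fin 2) F) * ((x k : GL (Fin 2 ⊕ Fin 2) F) : Matrix (Fin 2 ⊕ Fin 2) (Fin 2 ⊕ Fin 2) F) = 1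
    rw [hx, f.M_sq, (hsq k).1, Pauli.sg_zero, one_smul]))
  have hsign : ∀ (g h : Cfsg.spGL 2 F) (c : F), c * c = 1 →
      ((g : GL (Fin 2 ⊕ Fin 2) F) : Matrix (Fin 2 ⊕ Fin 2) (Fin 2 ⊕ Fin 2) F) =
        c • ((h : GL (Fin 2 ⊕ Fin 2) F) : Matrix (Fin 2 ⊕ Fin 2) (Fin 2 ⊕ Fin 2) F) → K.φ g = K.φ h := by
    intro g h c hc hgh
    refine ext_ap fun v => ?_
    rw [K.ap_φ, K.ap_φ, hgh, show c • ((h : GL (Fin 2 ⊕ Fin 2) F) : Matrix (Fin 2 ⊕ Fin 2) (Fin 2 ⊕ Fin 2) F) =
      c • (1 : Matrix (Fin 2 ⊕ Fin 2) (Fin 2 ⊕ Fin 2) F) *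
        ((h : GL (Fin 2 ⊕ Fin 2) F) : Matrix (Fin 2 ⊕ Fin 2) (Fin 2 ⊕ Fin 2) F) by
          rw [Matrix.smul_mul, Matrix.one_mul],
      five_mul _ (sim_spGL h), five_scalar, hc, one_smul, Matrix.one_mul]
  have hker : ∀ g h : Cfsg.spGL 2 F, K.φ g = K.φ h → ∃ c : F, c * c = 1 ∧
      ((g : GL (Fin 2 ⊕ Fin 2) F) : Matrix (Fin 2 ⊕ Fin 2) (Fin 2 ⊕ Fin 2) F) =
        c • ((h : GL (Fin 2 ⊕ Fin 2) F) : Matrix (Fin 2 ⊕ Fin 2) (Fin 2 ⊕ Fin 2) F) := by
    intro g h hgh
    obtain ⟨c, hc, hM⟩ := eq_sign_of_five h2 (sim_spGL (g * h⁻¹)) (Matrix.ext_of_mulVec_single fun t => by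
      rw [← K.ap_φ, map_mul, map_inv, hgh, mul_inv_cancel, ap_one, Matrix.one_mulVec])
    refine ⟨c, hc, ?_⟩
    have e : ((g * h⁻¹ * h : Cfsg.spGL 2 F) : GL (Fin 2 ⊕ Fin 2) F) = g := by rw [inv_mul_cancel_right]
    rw [← e, Subgroup.coe_mul, Units.val_mul, hM, Matrix.smul_mul, Matrix.one_mul]
  have hcomm : ∀ k l, K.φ (x k) * K.φ (x l) = K.φ (x l) * K.φ (x k) := fun k l => by
    by_cases hkl : k = l
    · rw [hkl]
    rw [← map_mul, ← map_mul]
    refine hsign _ _ (-1) (by ring) ?_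
    rw [Subgroup.coe_mul, Subgroup.coe_mul, Units.val_mul, Units.val_mul, hx, hx, f.M_comm, hanti k l hkl,
      Pauli.sg_one]
  -- each image is minus a reflection
  have hline : ∀ k, ∃ w, Q w ≠ 0 ∧ fixSpace (K.φ (x k)) = Submodule.span F {w} ∧
      ∀ y, ap (K.φ (x k)) y = -y + ((Q w)⁻¹ * QuadraticMap.polar (⇑Q) w y) • w := by
    intro k
    set σ := K.φ (x k) with hσ
    have hσσ : ∀ y, ap σ (ap σ y) = y := fun y => by
      rw [← ap_mul, hσ, ← map_mul, hxx, map_one, ap_one]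
    have hΩ : σ ∈ Cfsg.Omega F ⇑Q := K.range_eq ▸ ⟨x k, rfl⟩
    have hd : dickson K.nd σ = 1 := Abelianization.commutator_subset_ker _ hΩ
    have hev : Even (5 + Module.finrank F (fixSpace σ)) := by
      have h1 : (-1 : ℤˣ) ^ (Module.finrank F (Unit ⊕ (Fin 2 ⊕ Fin 2) → F) + Module.finrank F (fixSpace σ)) = 1 := hd
      rw [KleinHom.rank] at h1
      rcases Nat.even_or_odd (5 + Module.finrank F (fixSpace σ)) with h3 | h3
      · exact h3
      · rw [h3.neg_one_pow] at h1; exact absurd h1 (by decide)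
    have hne5 : Module.finrank F (fixSpace σ) ≠ 5 := fun h5 => by
      have htop : fixSpace σ = ⊤ := Submodule.eq_top_of_finrank_eq (by rw [h5, KleinHom.rank])
      obtain ⟨c, -, hc⟩ := hker (x k) 1 (by
        rw [map_one, ← hσ]
        exact ext_ap fun y => by rw [ap_one]; exact mem_fixSpace.1 (htop ▸ Submodule.mem_top))
      exact hne _ (hsq k).2 c (by rw [← hx, hc, Subgroup.coe_one, Units.val_one])
    have hle5 : Module.finrank F (fixSpace σ) ≤ 5 := KleinHom.rank (F := F) ▸ Submodule.finrank_le _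
    let e : (Unit ⊕ (Fin 2 ⊕ Fin 2) → F) →ₗ[F] (Unit ⊕ (Fin 2 ⊕ Fin 2) → F) :=
      (2 : F)⁻¹ • (Matrix.mulVecLin (five (f.M (v5 k))) + LinearMap.id)
    have hap : ∀ y, five (f.M (v5 k)) *ᵥ y = ap σ y := fun y => by rw [hσ, K.ap_φ, hx]
    have he : LinearMap.IsProj (fixSpace σ) e := by
      refine ⟨fun y => mem_fixSpace.2 ?_, fun y hy => ?_⟩
      · simp only [e, LinearMap.smul_apply, LinearMap.add_apply, Matrix.mulVecLin_apply, LinearMap.id_apply,
          hap, ap_smul, ap_add, hσσ]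
        rw [add_comm y]
      · simp only [e, LinearMap.smul_apply, LinearMap.add_apply, Matrix.mulVecLin_apply, LinearMap.id_apply,
          hap, mem_fixSpace.1 hy, ← two_smul F y, smul_smul, inv_mul_cancel₀ h2, one_smul]
    have htr : (five (f.M (v5 k))).trace = -3 := by
      have h1 := KleinHom.trace_five (sim_spGL (x k))
      rw [hx, f.M_sq, (hsq k).1, Pauli.sg_zero, one_smul, f.trace_M h2 (hsq k).2, Matrix.trace_one, h4] at h1
      refine mul_left_cancel₀ h2 ?_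
      push_cast at h1
      linear_combination h1
    have ht := he.trace
    rw [map_smul, map_add, ← Matrix.toLin'_apply', Matrix.trace_toLin'_eq, htr, LinearMap.trace_id,
      KleinHom.rank, smul_eq_mul] at ht
    have h1 : Module.finrank F (fixSpace σ) = 1 := by
      rw [Nat.even_iff] at hev
      by_contra hne1
      have h3 : Module.finrank F (fixSpace σ) = 3 := by omega
      rw [h3] at ht
      push_cast at ht
      field_simp at ht
      exact mul_ne_zero h2 h2 (by linear_combination -ht)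
    obtain ⟨⟨w, hw⟩, hw0, hspan⟩ := finrank_eq_one_iff'.1 h1
    have hfix : fixSpace σ = Submodule.span F {w} := by
      refine le_antisymm (fun y hy => ?_) ((Submodule.span_singleton_le_iff_mem _ _).2 hw)
      obtain ⟨c, hc⟩ := hspan ⟨y, hy⟩
      exact Submodule.mem_span_singleton.2 ⟨c, congrArg Subtype.val hc⟩
    have hsum : ∀ y, ∃ c : F, ap σ y + y = c • w ∧ 2 * QuadraticMap.polar (⇑Q) w y = c * (2 * Q w) := by
      intro y
      have hy : ap σ y + y ∈ fixSpace σ := mem_fixSpace.2 (by rw [ap_add, hσσ, add_comm])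
      rw [hfix] at hy
      obtain ⟨c, hc⟩ := Submodule.mem_span_singleton.1 hy
      refine ⟨c, hc.symm, ?_⟩
      have h3 : QuadraticMap.polar (⇑Q) w (ap σ y) = QuadraticMap.polar (⇑Q) w y := by
        conv_lhs => rw [← mem_fixSpace.1 hw]
        rw [ap_b]
      have h4 := congrArg (QuadraticMap.polar (⇑Q) w) hc
      rw [b_smul_right, b_self, b_add_right, h3] at h4
      linear_combination -h4
    have hQw : Q w ≠ 0 := fun e0 => hw0 (Subtype.ext (K.nd w fun y => by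
      obtain ⟨c, -, hc⟩ := hsum y
      rw [e0, mul_zero, mul_zero] at hc
      exact (mul_eq_zero.1 hc).resolve_left h2))
    refine ⟨w, hQw, hfix, fun y => ?_⟩
    obtain ⟨c, hc, hcB⟩ := hsum y
    have hcc : (Q w)⁻¹ * QuadraticMap.polar (⇑Q) w y = c := by
      field_simp
      exact mul_left_cancel₀ h2 (by linear_combination hcB)
    rw [hcc, ← hc]
    abel
  choose w hw hfix hform using hline
  have hinj : ∀ k l, K.φ (x k) = K.φ (x l) → k = l := fun k l h => by
    obtain ⟨c, hc, he⟩ := hker _ _ h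
    rw [hx, hx] at he
    exact v5_injective (f.coord_unique h2 h4 (t := (1 : F)) one_ne_zero (by rw [one_smul, he])).1
  have horth : ∀ k l, k ≠ l → QuadraticMap.polar (⇑Q) (w k) (w l) = 0 := by
    intro k l hkl
    have hwk : ap (K.φ (x k)) (w k) = w k :=
      mem_fixSpace.1 (by rw [hfix]; exact Submodule.mem_span_singleton_self _)
    have hmem : ap (K.φ (x l)) (w k) ∈ fixSpace (K.φ (x k)) := mem_fixSpace.2 (by
      rw [← ap_mul, hcomm, ap_mul, hwk])
    rw [hfix] at hmem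
    obtain ⟨c, hc⟩ := Submodule.mem_span_singleton.1 hmem
    have h1 := hform l (w k)
    rw [← hc] at h1
    by_cases hc1 : c = -1
    · rw [hc1, neg_one_smul, left_eq_add, smul_eq_zero] at h1
      have hwl : w l ≠ 0 := fun e0 => hw l (by rw [e0, QuadraticMap.map_zero])
      rw [b_comm]
      exact (mul_eq_zero.1 (h1.resolve_right hwl)).resolve_left (inv_ne_zero (hw l))
    exfalso
    obtain ⟨t, ht⟩ : ∃ t, (Q (w l))⁻¹ * QuadraticMap.polar (⇑Q) (w l) (w k) = t := ⟨_, rfl⟩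
    rw [ht] at h1
    have h3 : w k = (t / (c + 1)) • w l := by
      have hc1' : c + 1 ≠ 0 := fun e0 => hc1 (by linear_combination e0)
      rw [div_eq_inv_mul, ← smul_smul, eq_inv_smul_iff₀ hc1', add_smul, one_smul, h1]
      abel
    refine hkl (hinj k l (ext_ap fun y => ?_))
    rw [hform, hform, h3, q_smul, b_smul_left, smul_smul]
    congr 2
    have ht0 : t / (c + 1) ≠ 0 := fun e0 => hw k (by rw [h3, e0, zero_smul, QuadraticMap.map_zero])
    obtain ⟨α, hα⟩ : ∃ α, t / (c + 1) = α := ⟨_, rfl⟩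
    rw [hα] at ht0 ⊢
    have := hw l
    field_simp
  -- equal norms up to squares
  have hr : ∀ k, ∃ r : Grp Q, IsRefl (w k) r := fun k => exists_refl K.nd (hw k)
  choose r hr using hr
  have hsame : ∀ k, IsSquare (Q (w 0) * Q (w k)) := by
    intro k
    have he : K.φ (x 0) * K.φ (x k) = r 0 * r k := ext_ap fun y => by
      have hneg : ∀ (g : Grp Q) z, ap g (-z) = -ap g z := fun g z => by
        rw [← neg_one_smul F z, ap_smul, neg_one_smul]
      have hk : ∀ k z, ap (K.φ (x k)) z = -ap (r k) z := fun k z => by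
        rw [hform, (hr k).2]; abel
      rw [ap_mul, ap_mul, hk k, hneg, hk 0, neg_neg]
    have hΩ : r 0 * r k ∈ Cfsg.Omega F ⇑Q := he ▸ mul_mem (K.range_eq ▸ ⟨x 0, rfl⟩) (K.range_eq ▸ ⟨x k, rfl⟩)
    have h1 : spinor Q 1 (r 0 * r k) = 1 := Abelianization.commutator_subset_ker _ hΩ
    rw [map_mul, mul_eq_one_iff_eq_inv, Int.units_inv_eq_self] at h1
    exact ((omega_eq_ker_psi K.nd h2 (by rw [KleinHom.rank]; norm_num) one_ne_zero).2.2 _ _ _ _ (hr 0) (hr k)).1 h1
  choose s hs using hsame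
  have hs0 : ∀ k, s k ≠ 0 := fun k e0 => mul_ne_zero (hw 0) (hw k) (by rw [hs k, e0, mul_zero])
  obtain ⟨e, he⟩ : ∃ e : Fin 5 → Unit ⊕ (Fin 2 ⊕ Fin 2) → F, e = fun k => (Q (w 0) / s k) • w k := ⟨_, rfl⟩
  have hsc : ∀ k, Q (w 0) / s k ≠ 0 := fun k => div_ne_zero (hw 0) (hs0 k)
  have heo : ∀ i j, i ≠ j → QuadraticMap.polar (⇑Q) (e i) (e j) = 0 := fun i j hij => by
    rw [he, b_smul_left, b_smul_right, horth i j hij, mul_zero, mul_zero]
  have heq : ∀ k, Q (e k) = Q (w 0) := fun k => by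
    rw [he]
    dsimp only
    rw [q_smul]
    have := hs0 k
    field_simp
    linear_combination Q (w 0) * hs k
  have hframe : FrameMax.Frame Q e (Q (w 0)) := by
    refine ⟨K.nd, h2, hw 0, heq, heo, ?_⟩
    refine (LinearIndependent.span_eq_top_of_card_eq_finrank ?_ (by rw [KleinHom.rank, Fintype.card_fin]))
    rw [Fintype.linearIndependent_iff]
    intro g hg i
    have h1 := congrArg (QuadraticMap.polar (⇑Q) (e i)) hg
    rw [b_comm, b_sum_left, Finset.sum_eq_single i (fun j _ hj => by rw [b_smul_left, heo j i hj, mul_zero])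
      (fun hi => absurd (Finset.mem_univ i) hi), b_smul_left, b_self, heq, b_zero_right] at h1
    exact (mul_eq_zero.1 h1).resolve_right (mul_ne_zero h2 (hw 0))
  have hspan : ∀ k, fixSpace (K.φ (x k)) = Submodule.span F {e k} := fun k => by
    rw [hfix, he, Submodule.span_singleton_smul_eq (isUnit_iff_ne_zero.2 (hsc k))]
  have hcard' : (Nat.card F).Prime := by rw [Nat.card_eq_fintype_card, hcard]; exact hp
  -- the normaliser
  have hiff : ∀ g : Cfsg.spGL 2 F, (g : GL (Fin 2 ⊕ Fin 2) F) ∈ subgroupNormalizer R ↔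
      K.φ g ∈ monoStab hframe := by
    intro g
    constructor
    · intro hg k
      have hmem : (g : GL (Fin 2 ⊕ Fin 2) F) * x k * (g : GL (Fin 2 ⊕ Fin 2) F)⁻¹ ∈ R :=
        (Subgroup.mem_normalizer_iff.1 hg _).1 (hxR k)
      obtain ⟨v, u, hu⟩ := hf.dec _ hmem
      obtain ⟨y, hy⟩ : ∃ y : Cfsg.spGL 2 F, y = g * x k * g⁻¹ := ⟨_, rfl⟩
      have hy' : ((y : GL (Fin 2 ⊕ Fin 2) F) : Matrix (Fin 2 ⊕ Fin 2) (Fin 2 ⊕ Fin 2) F) = u • f.M v := by
        rw [hy, ← hu]; rfl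
      obtain ⟨su, hsu, hsu'⟩ := hf.scalar_mem hneg (v := v) (u := u) (by
        rw [← hy']; exact ⟨_, by rw [hy]; exact hmem, rfl⟩)
      have hu2 : u * u = 1 := by
        have h1 := (sim_spGL ⟨su, hle hsu⟩).2
        dsimp only at h1 hsu'
        rw [hsu', Matrix.smul_mul, Matrix.one_mul, Matrix.transpose_smul, Matrix.transpose_one,
          Matrix.mul_smul, Matrix.mul_one, smul_smul] at h1
        have h3 := congrFun (congrFun h1 (Sum.inr 0)) (Sum.inl 0)
        simpa [Matrix.J] using h3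
      have hyy : y * y = 1 := by
        rw [hy, show g * x k * g⁻¹ * (g * x k * g⁻¹) = g * (x k * x k) * g⁻¹ by group, hxx, mul_one,
          mul_inv_cancel]
      have hcyc : Pauli.cyc v v = 0 := by
        have h1 := congrArg (fun z : Cfsg.spGL 2 F =>
          ((z : GL (Fin 2 ⊕ Fin 2) F) : Matrix (Fin 2 ⊕ Fin 2) (Fin 2 ⊕ Fin 2) F)) hyy
        simp only [Subgroup.coe_mul, Units.val_mul, hy', Matrix.smul_mul, Matrix.mul_smul, f.M_sq, smul_smul,
          ← mul_assoc, hu2, one_mul, Subgroup.coe_one, Units.val_one] at h1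
        rcases (show ∀ z : ZMod 2, z = 0 ∨ z = 1 by decide) (Pauli.cyc v v) with h3 | h3
        · exact h3
        rw [h3, Pauli.sg_one] at h1
        exact absurd (by simpa using congrFun (congrFun h1 (Sum.inl 0)) (Sum.inl 0) : (-1 : F) = 1)
          (fun e0 => h2 (by linear_combination -e0))
      have hv0 : v ≠ 0 := by
        intro e0
        have hxk : ((x k : GL (Fin 2 ⊕ Fin 2) F) : Matrix (Fin 2 ⊕ Fin 2) (Fin 2 ⊕ Fin 2) F) = u • 1 := by
          have hxy : x k = g⁻¹ * y * g := by rw [hy]; group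
          rw [hxy, Subgroup.coe_mul, Subgroup.coe_mul, Units.val_mul, Units.val_mul, hy', e0, f.M_zero,
            Matrix.mul_smul, Matrix.mul_one, Matrix.smul_mul, ← Units.val_mul, ← Subgroup.coe_mul,
            inv_mul_cancel, Subgroup.coe_one, Units.val_one]
        rw [hx] at hxk
        exact hne _ (hsq k).2 u hxk
      obtain ⟨l, rfl⟩ := hlist v hcyc hv0
      have hφ : K.φ y = K.φ (x l) := hsign _ _ u hu2 (by rw [hy', hx])
      refine ⟨l, ?_⟩
      have h1 : ap (K.φ g) (e k) ∈ fixSpace (K.φ (x l)) := mem_fixSpace.2 (by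
        rw [← hφ, hy, map_mul, map_mul, map_inv, ap_mul, ap_inv_ap, ap_mul,
          mem_fixSpace.1 (show e k ∈ fixSpace (K.φ (x k)) by rw [hspan]; exact Submodule.mem_span_singleton_self _)])
      rw [hspan] at h1
      obtain ⟨c, hc⟩ := Submodule.mem_span_singleton.1 h1
      exact ⟨c, hc.symm⟩
    · intro hg
      have hgen : ∀ k, ∃ (v : Pauli.V) (t : F), t * t = 1 ∧
          ((g : GL (Fin 2 ⊕ Fin 2) F) : Matrix (Fin 2 ⊕ Fin 2) (Fin 2 ⊕ Fin 2) F) * f.M (v5 k) =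
            t • (f.M v * ((g : GL (Fin 2 ⊕ Fin 2) F) : Matrix (Fin 2 ⊕ Fin 2) (Fin 2 ⊕ Fin 2) F)) := by
        intro k
        obtain ⟨l, c, hc, hgl⟩ := hframe.mono_sign hg k
        have hform' : ∀ k y, ap (K.φ (x k)) y =
            -y + ((Q (e k))⁻¹ * QuadraticMap.polar (⇑Q) (e k) y) • e k := fun k y => by
          rw [hform, he]
          dsimp only
          rw [q_smul, b_smul_left, smul_smul]
          congr 2
          obtain ⟨α, hα⟩ : ∃ α, Q (w 0) / s k = α := ⟨_, rfl⟩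
          have h5 := hsc k
          rw [hα] at h5 ⊢
          have := hw k
          field_simp
        have hcj : K.φ g * K.φ (x k) = K.φ (x l) * K.φ g := ext_ap fun y => by
          have hneg : ∀ (g : Grp Q) z, ap g (-z) = -ap g z := fun g z => by
            rw [← neg_one_smul F z, ap_smul, neg_one_smul]
          rw [ap_mul, ap_mul, hform', hform', ap_add, hneg, ap_smul, hgl, smul_smul, heq, heq]
          congr 2
          rw [← ap_b (K.φ g) (e k) y, hgl, b_smul_left]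
          linear_combination ((Q (w 0))⁻¹ * QuadraticMap.polar (⇑Q) (e l) (ap (K.φ g) y)) * hc
        rw [← map_mul, ← map_mul] at hcj
        obtain ⟨t, ht, hM⟩ := hker _ _ hcj
        refine ⟨v5 l, t, ht, ?_⟩
        rw [Subgroup.coe_mul, Subgroup.coe_mul, Units.val_mul, Units.val_mul, hx, hx] at hM
        exact hM
      obtain ⟨P, hP⟩ : ∃ P : Matrix (Fin 2 ⊕ Fin 2) (Fin 2 ⊕ Fin 2) F → Prop,
          P = fun X => ∃ (v : Pauli.V) (t : F), t * t = 1 ∧
            ((g : GL (Fin 2 ⊕ Fin 2) F) : Matrix (Fin 2 ⊕ Fin 2) (Fin 2 ⊕ Fin 2) F) * X =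
              t • (f.M v * ((g : GL (Fin 2 ⊕ Fin 2) F) : Matrix (Fin 2 ⊕ Fin 2) (Fin 2 ⊕ Fin 2) F)) :=
        ⟨_, rfl⟩
      have hmul : ∀ X Y, P X → P Y → P (X * Y) := by
        rw [hP]
        rintro X Y ⟨v, t, ht, hX⟩ ⟨v', t', ht', hY⟩
        refine ⟨v + v', t * t' * Pauli.sg F (Pauli.cyc v v'), ?_, ?_⟩
        · linear_combination t' * t' * (Pauli.sg F (Pauli.cyc v v') * Pauli.sg F (Pauli.cyc v v')) * ht +
            (Pauli.sg F (Pauli.cyc v v') * Pauli.sg F (Pauli.cyc v v')) * ht' + Pauli.sg_self F (Pauli.cyc v v')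
        · rw [← Matrix.mul_assoc, hX, Matrix.smul_mul, Matrix.mul_assoc, hY, Matrix.mul_smul, smul_smul,
            ← Matrix.mul_assoc, f.M_mul, Matrix.smul_mul, smul_smul]
      have hsm : ∀ (c : F) X, c * c = 1 → P X → P (c • X) := by
        rw [hP]
        rintro c X hc ⟨v, t, ht, hX⟩
        exact ⟨v, c * t, by linear_combination t * t * hc + ht, by rw [Matrix.mul_smul, hX, smul_smul]⟩
      have hP5 : ∀ k, P (f.M (v5 k)) := fun k => by rw [hP]; exact hgen k
      have hthree : ∀ k l m, P (f.M (v5 k + v5 l + v5 m)) := fun k l m => by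
        have h1 := hmul _ _ (hmul _ _ (hP5 k) (hP5 l)) (hP5 m)
        rw [f.M_mul, Matrix.smul_mul, f.M_mul, smul_smul] at h1
        obtain ⟨c, hc⟩ : ∃ c, Pauli.sg F (Pauli.cyc (v5 k) (v5 l)) * Pauli.sg F (Pauli.cyc (v5 k + v5 l) (v5 m)) = c :=
          ⟨_, rfl⟩
        have hcc : c * c = 1 := by
          rw [← hc]
          linear_combination (Pauli.sg F (Pauli.cyc (v5 k + v5 l) (v5 m)) * Pauli.sg F (Pauli.cyc (v5 k + v5 l) (v5 m))) *
            Pauli.sg_self F (Pauli.cyc (v5 k) (v5 l)) + Pauli.sg_self F (Pauli.cyc (v5 k + v5 l) (v5 m))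
        rw [hc] at h1
        have h3 := hsm c _ hcc h1
        rwa [smul_smul, hcc, one_smul] at h3
      refine hf.mem_normalizer hneg fun X hX => ?_
      have hPX : P X := by
        rcases hX with rfl | rfl | rfl | rfl
        · rw [f.a_eq]; exact hP5 0
        · rw [f.b_eq]; exact hP5 1
        · rw [f.c_eq, ← hc3]; exact hthree 0 1 2
        · rw [f.d_eq, ← hd3]; exact hthree 0 1 3
      rw [hP] at hPX
      obtain ⟨v, t, ht, hX'⟩ := hPX
      refine ⟨v, t, ?_, hX'⟩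
      rcases mul_self_eq_one_iff.1 ht with rfl | rfl
      · rw [one_smul]; exact Pauli.mem_one
      · rw [neg_one_smul]; exact hneg
  refine K.isMaximalIn (monoStab hframe) hiff (not_omega_le_mono hframe hcard') fun M hM _ => ?_
  exact frame_or_omega hframe hcard' hM

end CfsgLib.Orth.FiveMax
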