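import Cfsg.Agent.Lib.Classical.FiveMax.FrameBasic
import Cfsg.Agent.Lib.Classical.OrthFrameMax.Spread

set_option autoImplicit false
set_option linter.unusedSectionVars false

/-!
Rotations of three coordinates and unipotent elements among them, in dimension five.
-/

namespace CfsgLib.Orth.FiveMax

open Matrix DecompMax FrameMax

variable {F : Type*} [Field F] [Finite F] {ι : Type} [Fintype ι] [DecidableEq ι]
variable {Q : QuadraticForm F (ι → F)} {e : Fin 5 → ι → F} {a : F} {M : Subgroup (Grp Q)}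

local notation "B" => QuadraticMap.polar (DFunLike.coe Q)

/-- An isometry of trivial Dickson invariant fixing the coordinates outside a set. -/
def Rot5 (Q : QuadraticForm F (ι → F)) (e : Fin 5 → ι → F) (a : F) (T : Finset (Fin 5)) (g : Grp Q) : Prop :=
  (∀ c ∉ T, ap g (e c) = e c) ∧ (∀ x, supp Q e a x ⊆ T → supp Q e a (ap g x) ⊆ T) ∧
    ∀ hB : Nondeg Q, dickson hB g = 1

/-- A rotation of order `p` in the group. -/
def Wild (Q : QuadraticForm F (ι → F)) (M : Subgroup (Grp Q)) (e : Fin 5 → ι → F) (a : F) (p : ℕ)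
    (T : Finset (Fin 5)) : Prop :=
  ∃ u ∈ M, Rot5 Q e a T u ∧ u ≠ 1 ∧ u ^ p = 1

namespace Over5

variable (h : Over5 Q e a M)
include h

/-- The fixed line of a rotation. -/
theorem axis_of_rot {T : Finset (Fin 5)} (hT : T.card = 3) {g : Grp Q} (hg : Rot5 Q e a T g)
    (hg1 : g ≠ 1) : ∃ v, v ≠ 0 ∧ v ∈ tsp e T ∧ ap g v = v ∧
      ∀ x ∈ tsp e T, ap g x = x → ∃ c : F, x = c • v := by
  classical
  have hout := hg.1
  have hne : fixSpace g ≠ ⊤ := fun e0 => hg1 (ext_ap fun v => by
    rw [ap_one]; exact mem_fixSpace.1 (e0 ▸ Submodule.mem_top))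
  have hlt : Module.finrank F (fixSpace g) < Module.finrank F (ι → F) := Submodule.finrank_lt hne
  have hd : (-1 : ℤˣ) ^ (Module.finrank F (ι → F) + Module.finrank F (fixSpace g)) = 1 := hg.2.2 h.nd
  have hev : Even (Module.finrank F (ι → F) + Module.finrank F (fixSpace g)) := by
    rcases Nat.even_or_odd (Module.finrank F (ι → F) + Module.finrank F (fixSpace g)) with h1 | h1
    · exact h1
    · rw [h1.neg_one_pow] at hd
      exact absurd hd (by decide)
  have hOle : tsp e (Finset.univ \ T) ≤ fixSpace g := by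
    refine Submodule.span_le.2 ?_
    rintro _ ⟨l, hl, rfl⟩
    exact mem_fixSpace.2 (hout l (Finset.mem_sdiff.1 hl).2)
  have hdisj : ∀ x, x ∈ tsp e T → x ∈ tsp e (Finset.univ \ T) → x = 0 := fun x h1 h2 =>
    h.eq_zero fun l => notMem_supp.1 fun hl =>
      (Finset.mem_sdiff.1 (h.mem_tsp.1 h2 hl)).2 (h.mem_tsp.1 h1 hl)
  have hsup : tsp e T ⊔ tsp e (Finset.univ \ T) = ⊤ := by
    rw [tsp, tsp, ← Submodule.span_union, ← Set.image_union, ← Finset.coe_union,
      Finset.union_sdiff_of_subset (Finset.subset_univ T), Finset.coe_univ, Set.image_univ, h.top]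
  -- the two pieces
  have hle : fixSpace g ≤ (fixSpace g ⊓ tsp e T) ⊔ tsp e (Finset.univ \ T) := by
    intro x hx
    obtain ⟨y, hy, z, hz, rfl⟩ := Submodule.mem_sup.1 (hsup ▸ Submodule.mem_top (x := x))
    refine Submodule.add_mem_sup ⟨?_, hy⟩ hz
    have := (fixSpace g).sub_mem hx (hOle hz)
    rwa [add_sub_cancel_right] at this
  have hA := Submodule.finrank_mono hle
  have hB := Submodule.finrank_sup_add_finrank_inf_eq (fixSpace g ⊓ tsp e T) (tsp e (Finset.univ \ T))
  have hC := h.finrank_tsp (Finset.univ \ T)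
  have hDl := h.finrank_tsp T
  have hS := Submodule.finrank_sup_add_finrank_inf_eq (tsp e T) (tsp e (Finset.univ \ T))
  rw [hsup, finrank_top, h.finrank_V] at hS
  have hzero : tsp e T ⊓ tsp e (Finset.univ \ T) = ⊥ :=
    (Submodule.eq_bot_iff _).2 fun x hx => hdisj x hx.1 hx.2
  have hzero' : (fixSpace g ⊓ tsp e T) ⊓ tsp e (Finset.univ \ T) = ⊥ :=
    (Submodule.eq_bot_iff _).2 fun x hx => hdisj x hx.1.2 hx.2
  have hE : (fixSpace g ⊓ tsp e T) ⊔ tsp e (Finset.univ \ T) ≤ fixSpace g := sup_le inf_le_left hOle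
  have hA' := Submodule.finrank_mono hE
  have hcard : (Finset.univ \ T).card = 5 - 3 := by
    rw [Finset.card_sdiff_of_subset (Finset.subset_univ _), Finset.card_univ, Fintype.card_fin, hT]
  rw [hzero, finrank_bot, add_zero] at hS
  rw [hzero', finrank_bot, add_zero] at hB
  rw [h.finrank_V] at hev hlt
  rw [hcard] at hC
  rw [hT] at hDl
  rw [Nat.even_iff] at hev
  
  have h1 : Module.finrank F (fixSpace g ⊓ tsp e T : Submodule F (ι → F)) = 1 := by omega
  obtain ⟨v, hv0, hv⟩ := finrank_eq_one_iff'.1 h1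
  refine ⟨v, fun e0 => hv0 (Subtype.ext e0), v.2.2, mem_fixSpace.1 v.2.1, fun x hx hfx => ?_⟩
  obtain ⟨c, hc⟩ := hv ⟨x, mem_fixSpace.2 hfx, hx⟩
  exact ⟨c, (congrArg Subtype.val hc).symm⟩

/-- A rotation fixing a singular vector. -/
theorem unip_form {T : Finset (Fin 5)} (hT : T.card = 3) {g : Grp Q} (hg : Rot5 Q e a T g)
    (hg1 : g ≠ 1) {v : ι → F} (hv0 : v ≠ 0) (hvT : v ∈ tsp e T) (hgv : ap g v = v) (hQv : Q v = 0) :
    ∃ (w f : ι → F) (α : F), α ≠ 0 ∧ supp Q e a w ⊆ T ∧ supp Q e a f ⊆ T ∧ Q f = 0 ∧ Q w ≠ 0 ∧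
      B v f = 1 ∧ B v w = 0 ∧ B f w = 0 ∧
      (∀ x, supp Q e a x ⊆ T → ∃ p r s : F, x = p • v + r • w + s • f) ∧
      ∀ k : ℕ, ap (g ^ k) v = v ∧ ap (g ^ k) w = w + (-2 * (k : F) * α * Q w) • v ∧
        ap (g ^ k) f = f + ((k : F) * α) • w + (-((k : F) * (k : F)) * (α * α) * Q w) • v := by
  classical
  obtain ⟨v', hv'0, hv'T, hgv', huniq⟩ := h.axis_of_rot hT hg hg1
  obtain ⟨cv, hcv⟩ := huniq v hvT hgv
  have hline : ∀ x ∈ tsp e T, ap g x = x → ∃ c : F, x = c • v := fun x hx hfx => by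
    obtain ⟨c, hc⟩ := huniq x hx hfx
    have hcv0 : cv ≠ 0 := fun e0 => hv0 (by rw [hcv, e0, zero_smul])
    exact ⟨c / cv, by rw [hc, hcv, smul_smul, div_mul_cancel₀ _ hcv0]⟩
  obtain ⟨hout, hin, -⟩ := hg
  have hvs := h.mem_tsp.1 hvT
  obtain ⟨l, hl⟩ : (supp Q e a v).Nonempty :=
    Finset.nonempty_iff_ne_empty.2 fun e0 => hv0 (h.supp_eq_empty e0)
  have hlT : l ∈ T := hvs hl
  have hBl : B v (e l) ≠ 0 := by rw [b_comm, h.b_co]; exact mul_ne_zero h.two_a (mem_supp.1 hl)
  obtain ⟨f, hf⟩ : ∃ f, f = (B v (e l))⁻¹ • e l - (Q ((B v (e l))⁻¹ • e l)) • v := ⟨_, rfl⟩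
  have hvv : B v v = 0 := b_self_zero hQv
  have hBvf : B v f = 1 := by
    rw [hf, b_sub_right, b_smul_right, b_smul_right, hvv, mul_zero, sub_zero, inv_mul_cancel₀ hBl]
  have hQf : Q f = 0 := by
    rw [hf, q_sub, b_smul_right _ _ v, b_smul_left, q_smul (Q ((B v (e l))⁻¹ • e l)) v, hQv, mul_zero,
      add_zero, b_comm (e l) v, inv_mul_cancel₀ hBl, mul_one, sub_self]
  have hfT : f ∈ tsp e T := hf ▸ sub_mem (Submodule.smul_mem _ _ (Submodule.subset_span ⟨l, hlT, rfl⟩))
    (Submodule.smul_mem _ _ hvT)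
  have hff : B f f = 0 := b_self_zero hQf
  -- a vector orthogonal to both
  obtain ⟨w, hwT, hvw, hfw, hw0⟩ : ∃ w ∈ tsp e T, B v w = 0 ∧ B f w = 0 ∧ w ≠ 0 := by
    by_contra hc
    push Not at hc
    have hsub : tsp e T ≤ Submodule.span F ({v, f} : Set (ι → F)) := by
      intro x hx
      have h0 := hc (x - B f x • v - B v x • f)
        (sub_mem (sub_mem hx (Submodule.smul_mem _ _ hvT)) (Submodule.smul_mem _ _ hfT))
        (by rw [b_sub_right, b_sub_right, b_smul_right, b_smul_right, hvv, hBvf]; ring)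
        (by rw [b_sub_right, b_sub_right, b_smul_right, b_smul_right, hff, b_comm f v, hBvf]; ring)
      rw [sub_sub, sub_eq_zero] at h0
      rw [h0]
      exact add_mem (Submodule.smul_mem _ _ (Submodule.subset_span (by simp)))
        (Submodule.smul_mem _ _ (Submodule.subset_span (by simp)))
    have h1 := Submodule.finrank_mono hsub
    have h4 := finrank_span_finset_le_card (R := F) ({v, f} : Finset (ι → F))
    rw [Finset.coe_insert, Finset.coe_singleton] at h4
    unfold Set.finrank at h4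
    have h5 := h4.trans Finset.card_le_two
    have hcl : (Finset.univ \ T).card = 5 - 3 := by
      rw [Finset.card_sdiff_of_subset (Finset.subset_univ _), Finset.card_univ, Fintype.card_fin, hT]
    have hS := Submodule.finrank_sup_add_finrank_inf_eq (tsp e T) (tsp e (Finset.univ \ T))
    have hC := h.finrank_tsp (Finset.univ \ T)
    rw [show tsp e T ⊔ tsp e (Finset.univ \ T) = ⊤ by
      rw [tsp, tsp, ← Submodule.span_union, ← Set.image_union, ← Finset.coe_union,
        Finset.union_sdiff_of_subset (Finset.subset_univ T), Finset.coe_univ, Set.image_univ, h.top],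
      finrank_top, h.finrank_V, (Submodule.eq_bot_iff (tsp e T ⊓ tsp e (Finset.univ \ T))).2
        fun x hx => h.eq_zero fun m => notMem_supp.1 fun hm =>
          (Finset.mem_sdiff.1 (h.mem_tsp.1 hx.2 hm)).2 (h.mem_tsp.1 hx.1 hm),
      finrank_bot, hcl] at *
    
    omega
  have hQw : Q w ≠ 0 := by
    intro hQw
    have hli : LinearIndependent F ![v, f, w] := by
      rw [Fintype.linearIndependent_iff]
      intro g' hg'
      simp only [Fin.sum_univ_three, Matrix.cons_val_zero, Matrix.cons_val_one, Matrix.cons_val_two,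
        Matrix.head_cons, Matrix.tail_cons] at hg'
      have e0 := congrArg (fun z => B f z) hg'
      have e1 := congrArg (fun z => B v z) hg'
      simp only [b_add_right, b_smul_right, b_zero_right, b_comm f v, hBvf, hff, hfw, hvv, hvw,
        mul_zero, mul_one, add_zero, zero_add] at e0 e1
      rw [e0, e1, zero_smul, zero_smul, zero_add, zero_add, smul_eq_zero] at hg'
      intro i; fin_cases i
      exacts [e0, e1, hg'.resolve_right hw0]
    have hspan : tsp e T ≤ Submodule.span F (Set.range ![v, f, w]) := by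
      refine (Submodule.eq_of_le_of_finrank_le (Submodule.span_le.2 ?_) ?_).ge
      · rintro _ ⟨i, rfl⟩; fin_cases i
        exacts [hvT, hfT, hwT]
      · rw [finrank_span_eq_card hli, Fintype.card_fin]
        exact (h.finrank_tsp T).trans hT.le
    obtain ⟨m, hm⟩ : (supp Q e a w).Nonempty :=
      Finset.nonempty_iff_ne_empty.2 fun e0 => hw0 (h.supp_eq_empty e0)
    have hem : e m ∈ Submodule.span F (Set.range ![v, f, w]) :=
      hspan (Submodule.subset_span ⟨m, h.mem_tsp.1 hwT hm, rfl⟩)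
    have hzero : B w (e m) = 0 := by
      rw [Submodule.mem_span_range_iff_exists_fun] at hem
      obtain ⟨g', hg'⟩ := hem
      rw [← hg', Fin.sum_univ_three]
      simp only [Matrix.cons_val_zero, Matrix.cons_val_one, Matrix.cons_val_two, Matrix.head_cons,
        Matrix.tail_cons, b_add_right, b_smul_right, b_comm w v, b_comm w f, hvw, hfw,
        b_self_zero hQw, mul_zero, add_zero]
    rw [b_comm, h.b_co] at hzero
    exact mem_supp.1 hm ((mul_eq_zero.1 hzero).resolve_left h.two_a)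
  have hww : B w w ≠ 0 := by rw [b_self]; exact mul_ne_zero h.two hQw
  have hdec : ∀ x, supp Q e a x ⊆ T → ∃ p r s : F, x = p • v + r • w + s • f := by
    have hli : LinearIndependent F ![v, w, f] := by
      rw [Fintype.linearIndependent_iff]
      intro g' hg'
      simp only [Fin.sum_univ_three, Matrix.cons_val_zero, Matrix.cons_val_one, Matrix.cons_val_two,
        Matrix.head_cons, Matrix.tail_cons] at hg'
      have e0 := congrArg (fun z => B f z) hg'
      have e1 := congrArg (fun z => B w z) hg'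
      have e2 := congrArg (fun z => B v z) hg'
      simp only [b_add_right, b_smul_right, b_zero_right, b_comm f v, b_comm w v, b_comm w f, hBvf,
        hff, hfw, hvv, hvw, mul_zero, mul_one, add_zero, zero_add] at e0 e1 e2
      intro i; fin_cases i
      exacts [e0, (mul_eq_zero.1 e1).resolve_right hww, e2]
    intro x hx
    have hx' : x ∈ Submodule.span F (Set.range ![v, w, f]) := by
      refine (Submodule.eq_of_le_of_finrank_le (Submodule.span_le.2 ?_) ?_).ge (h.mem_tsp.2 hx)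
      · rintro _ ⟨i, rfl⟩; fin_cases i
        exacts [hvT, hwT, hfT]
      · rw [finrank_span_eq_card hli, Fintype.card_fin]
        exact (h.finrank_tsp T).trans hT.le
    rw [Submodule.mem_span_range_iff_exists_fun] at hx'
    obtain ⟨g', hg'⟩ := hx'
    refine ⟨g' 0, g' 1, g' 2, ?_⟩
    rw [← hg', Fin.sum_univ_three]
    simp
  obtain ⟨μ, lam, s1, hgw⟩ := hdec (ap g w) (hin w (h.mem_tsp.1 hwT))
  obtain ⟨β, α, s2, hgf⟩ := hdec (ap g f) (hin f (h.mem_tsp.1 hfT))
  have hs1 : s1 = 0 := by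
    have := ap_b g v w
    rw [hgv, hgw, b_add_right, b_add_right, b_smul_right, b_smul_right, b_smul_right, hvv, hvw,
      hBvf] at this
    linear_combination this
  rw [hs1, zero_smul, add_zero] at hgw
  have hs2 : s2 = 1 := by
    have := ap_b g v f
    rw [hgv, hgf, b_add_right, b_add_right, b_smul_right, b_smul_right, b_smul_right, hvv, hvw,
      hBvf] at this
    linear_combination this
  rw [hs2, one_smul] at hgf
  have hlam : lam * lam = 1 := by
    have := ap_q g w
    rw [hgw, q_add, q_smul, q_smul, hQv, b_smul_left, b_smul_right, hvw] at this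
    exact mul_right_cancel₀ hQw (by linear_combination this)
  have hμ : μ + lam * α * (2 * Q w) = 0 := by
    have := ap_b g w f
    rw [hgw, hgf] at this
    simp only [b_add_left, b_add_right, b_smul_left, b_smul_right, hvv, hvw, hBvf, b_self,
      b_comm w v, b_comm w f, hfw, mul_zero, mul_one, add_zero, zero_add] at this
    linear_combination this
  have hβ : β + α * α * Q w = 0 := by
    have := ap_q g f
    rw [hgf, q_add, q_add, q_smul, q_smul, hQv, hQf] at this
    simp only [b_add_left, b_smul_left, b_smul_right, hvw, hBvf, b_comm w f, hfw] at this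
    linear_combination this
  have hlam1 : lam = 1 := by
    rcases mul_self_eq_one_iff.1 hlam with h1 | h1
    · exact h1
    exfalso
    obtain ⟨c, hc⟩ := hline (f + (α / 2) • w) (add_mem hfT (Submodule.smul_mem _ _ hwT)) (by
      rw [ap_add, ap_smul, hgw, hgf, h1]
      have e1 : μ = 2 * α * Q w := by rw [h1] at hμ; linear_combination hμ
      have e2 : β = -(α * α * Q w) := by linear_combination hβ
      rw [e1, e2]
      have := h.two
      match_scalars <;> field_simp <;> ring)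
    have hb := congrArg (fun z => B v z) hc
    simp only [b_add_right, b_smul_right, hBvf, hvw, hvv, mul_zero, add_zero] at hb
    exact one_ne_zero hb
  subst hlam1
  have e1 : μ = -2 * α * Q w := by linear_combination hμ
  have e2 : β = -(α * α * Q w) := by linear_combination hβ
  rw [one_smul, e1] at hgw
  rw [e2] at hgf
  have hα : α ≠ 0 := by
    intro h0
    rw [h0, mul_zero, zero_mul, zero_smul, zero_add] at hgw
    obtain ⟨c, hc⟩ := hline w hwT hgw
    exact hQw (by rw [hc, q_smul, hQv, mul_zero])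
  refine ⟨w, f, α, hα, h.mem_tsp.1 hwT, h.mem_tsp.1 hfT, hQf, hQw, hBvf, hvw, hfw, hdec, fun k => ?_⟩
  induction k with
  | zero => simp
  | succ k ih =>
    rw [pow_succ', ap_mul, ap_mul, ap_mul, ih.1, ih.2.1, ih.2.2, hgv]
    refine ⟨rfl, ?_, ?_⟩
    · rw [ap_add, ap_smul, hgw, hgv]
      push_cast
      module
    · rw [ap_add, ap_add, ap_smul, ap_smul, hgw, hgf, hgv]
      push_cast
      match_scalars <;> ring

theorem unip_data {p : ℕ} [Fact p.Prime] [CharP F p] (hF : ∀ x : F, ∃ k : ℕ, (k : F) = x)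
    {T : Finset (Fin 5)} (hT : T.card = 3) (hw : Wild Q M e a p T) :
    ∃ u ∈ M, ∃ v w : ι → F, v ≠ 0 ∧ Q v = 0 ∧ supp Q e a v ⊆ T ∧ supp Q e a w ⊆ T ∧
      B v w = 0 ∧ Q w ≠ 0 ∧ (∀ c ∉ T, ap u (e c) = e c) ∧
      (∀ x y, supp Q e a x ⊆ T → supp Q e a y ⊆ T → Q x = Q y → B v x = B v y → B v x ≠ 0 →
        ∃ k : ℕ, ap (u ^ k) x = y) ∧
      ∀ x, supp Q e a x ⊆ T → B v x = 0 → Q x ≠ 0 → ∃ c ≠ (0 : F), ap u x = x + c • v := by
  classical
  obtain ⟨u, huM, hu, hu1, hup⟩ := hw
  obtain ⟨hout, hin, -⟩ := id hu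
  have hP : ∀ x ∈ tsp e T, ap u x ∈ tsp e T := fun x hx =>
    h.mem_tsp.2 (hin x (h.mem_tsp.1 hx))
  obtain ⟨l, hl, m, hm, hlm⟩ := Finset.one_lt_card.1 (show 1 < T.card by omega)
  have hmem : ∀ i ∈ T, e i ∈ tsp e T := fun i hi => Submodule.subset_span ⟨i, hi, rfl⟩
  obtain ⟨v, hvT, hv0, hgv⟩ := exists_fixed_of_pow hup _ hP (hmem l hl) (h.e_ne l)
  have hQv : Q v = 0 := by
    by_contra hQ
    obtain ⟨z, hz0, hzT, hzv⟩ : ∃ z, z ≠ 0 ∧ z ∈ tsp e T ∧ B v z = 0 := by
      have key : ∀ i ∈ T, e i - (B v (e i) / (2 * Q v)) • v ∈ tsp e T ∧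
          B v (e i - (B v (e i) / (2 * Q v)) • v) = 0 := fun i hi =>
        ⟨sub_mem (hmem i hi) (Submodule.smul_mem _ _ hvT), by
          rw [b_sub_right, b_smul_right, b_self, div_mul_cancel₀ _ (mul_ne_zero h.two hQ), sub_self]⟩
      by_cases e1 : e l - (B v (e l) / (2 * Q v)) • v = 0
      · by_cases e2 : e m - (B v (e m) / (2 * Q v)) • v = 0
        · exfalso
          have h0 := h.orth l m hlm
          rw [sub_eq_zero.1 e1, sub_eq_zero.1 e2, b_smul_left, b_smul_right, b_self] at h0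
          rcases mul_eq_zero.1 h0 with h1 | h1
          · exact h.e_ne l (by rw [sub_eq_zero.1 e1, h1, zero_smul])
          rcases mul_eq_zero.1 h1 with h2 | h2
          · exact h.e_ne m (by rw [sub_eq_zero.1 e2, h2, zero_smul])
          · exact mul_ne_zero h.two hQ h2
        · exact ⟨_, e2, key m hm⟩
      · exact ⟨_, e1, key l hl⟩
    obtain ⟨y, ⟨hyT, hyv⟩, hy0, hgy⟩ := exists_fixed_of_pow hup
      (tsp e T ⊓ LinearMap.ker (QuadraticMap.polarBilin Q v)) (fun x hx => by
        obtain ⟨h1, h2⟩ := hx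
        refine ⟨hP x h1, ?_⟩
        show B v (ap u x) = 0
        conv_lhs => rw [← hgv]
        rw [ap_b]
        exact h2) ⟨hzT, hzv⟩ hz0
    obtain ⟨v₁, hv₁, -, -, huniq⟩ := h.axis_of_rot hT hu hu1
    obtain ⟨c₁, rfl⟩ := huniq v hvT hgv
    obtain ⟨c₂, rfl⟩ := huniq y hyT hgy
    have h0 : B (c₁ • v₁) (c₂ • v₁) = 0 := hyv
    rw [b_smul_left, b_smul_right, b_self] at h0
    rw [q_smul] at hQ
    rcases mul_eq_zero.1 h0 with h1 | h1
    · exact hQ (by rw [h1, zero_mul, zero_mul])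
    rcases mul_eq_zero.1 h1 with h2 | h2
    · exact hy0 (by rw [h2, zero_smul])
    · exact hQ (by rw [(mul_eq_zero.1 h2).resolve_left h.two, mul_zero])
  obtain ⟨w, f, α, hα, hwT, hfT, hQf, hQw, hvf, hvw, hfw, hbas, hpow⟩ :=
    h.unip_form hT hu hu1 hv0 hvT hgv hQv
  have hBx : ∀ P r s : F, B v (P • v + r • w + s • f) = s := fun P r s => by
    rw [b_add_right, b_add_right, b_smul_right, b_smul_right, b_smul_right, b_self, hQv, hvw, hvf]
    ring
  have hQx : ∀ P r s : F, Q (P • v + r • w + s • f) = r * r * Q w + P * s := fun P r s => by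
    simp only [q_add, q_smul, b_add_left, b_smul_left, b_smul_right, hQv, hQf, hvw, hvf,
      b_comm w f, hfw]
    ring
  refine ⟨u, huM, v, w, hv0, hQv, h.mem_tsp.1 hvT, hwT, hvw, hQw, hout,
    fun x y hx hy hq hb hb0 => ?_, fun x hx hb hq => ?_⟩
  · obtain ⟨P, r, s, rfl⟩ := hbas x hx
    obtain ⟨P', r', s', rfl⟩ := hbas y hy
    rw [hBx, hBx] at hb
    rw [hBx] at hb0
    obtain ⟨k, hk⟩ := hF ((r' - r) / (s * α))
    have hk' : (k : F) * α * s = r' - r := by rw [hk]; field_simp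
    refine ⟨k, ?_⟩
    obtain ⟨e1, e2, e3⟩ := hpow k
    have heq : ap (u ^ k) (P • v + r • w + s • f) =
        (P + r * (-2 * (k : F) * α * Q w) + s * (-((k : F) * (k : F)) * (α * α) * Q w)) • v +
          r' • w + s • f := by
      rw [ap_add, ap_add, ap_smul, ap_smul, ap_smul, e1, e2, e3,
        show r' = r + (k : F) * α * s by rw [hk']; ring]
      module
    have hQ' := ap_q (u ^ k) (P • v + r • w + s • f)
    rw [heq, hq, ← hb, hQx, hQx] at hQ'
    rw [heq, ← hb]
    congr 3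
    exact mul_right_cancel₀ hb0 (by linear_combination hQ')
  · obtain ⟨P, r, s, rfl⟩ := hbas x hx
    rw [hBx] at hb
    subst hb
    rw [hQx] at hq
    have hr : r ≠ 0 := fun e0 => hq (by rw [e0]; ring)
    refine ⟨r * (-2 * α * Q w), mul_ne_zero hr
      (mul_ne_zero (mul_ne_zero (neg_ne_zero.2 h.two) hα) hQw), ?_⟩
    obtain ⟨e1, e2, -⟩ := hpow 1
    rw [pow_one] at e1 e2
    rw [zero_smul, add_zero, ap_add, ap_smul, ap_smul, e1, e2, Nat.cast_one]
    module

/-- Two roots of a wild triple connect the vectors of equal norm. -/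
theorem triple_trans {p : ℕ} [Fact p.Prime] [CharP F p] (hF : ∀ x : F, ∃ k : ℕ, (k : F) = x)
    (h3 : (3 : F) ≠ 0) {T : Finset (Fin 5)} (hT : T.card = 3) (hw : Wild Q M e a p T) {N : F}
    (hN : N ≠ 0) {x y : ι → F} (hx : supp Q e a x ⊆ T) (hy : supp Q e a y ⊆ T) (hqx : Q x = N)
    (hqy : Q y = N) : Reach M e T x y := by
  classical
  obtain ⟨u, huM, v, w, hv0, hQv, hvT, hwT, hvw, hQw, hout, hA, hB⟩ := h.unip_data (p := p) hF hT hw
  have h2 := h.two
  obtain ⟨i, hi⟩ : (supp Q e a v).Nonempty :=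
    Finset.nonempty_iff_ne_empty.2 fun e0 => hv0 (h.supp_eq_empty e0)
  have hiT := hvT hi
  obtain ⟨o, ho⟩ : ∃ o, o ∉ T := by
    by_contra hc
    push Not at hc
    have := Finset.card_le_card (fun l _ => hc l : (Finset.univ : Finset (Fin 5)) ⊆ T)
    rw [Finset.card_univ, Fintype.card_fin] at this
    omega
  have hio : i ≠ o := fun e0 => ho (e0 ▸ hiT)
  obtain ⟨d, hdM, hd⟩ := h.exists_sign {i, o}
  have hdd : ∀ z : ι → F, ap d (ap d z) = z := fun z => by rw [← ap_mul, h.sign_self hd, ap_one]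
  have hdT : ∀ z, supp Q e a z ⊆ T → supp Q e a (ap d z) ⊆ T := fun z hz l hl => hz (mem_supp.2
    fun e0 => mem_supp.1 hl (by rw [hd, e0, mul_zero]))
  set v' := ap d v with hv'
  have hv'T : supp Q e a v' ⊆ T := hdT v hvT
  have hQv' : Q v' = 0 := by rw [hv', ap_q, hQv]
  obtain ⟨γ, hγ⟩ : ∃ γ, B v v' = γ := ⟨_, rfl⟩
  have hγ0 : γ ≠ 0 := by
    rw [← hγ, h.b_eq]
    have h0 : ∑ l, co Q e a l v * co Q e a l v = 0 := by
      have := h.q_eq v
      rw [hQv] at this
      exact (mul_eq_zero.1 this.symm).resolve_left h.a0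
    have h1 : ∑ l, co Q e a l v * co Q e a l v' = -(2 * (co Q e a i v * co Q e a i v)) := by
      have e1 : ∀ l, co Q e a l v * co Q e a l v' = co Q e a l v * co Q e a l v +
          (if l = i then -(2 * (co Q e a i v * co Q e a i v)) else 0) := fun l => by
        rw [hv', hd]
        by_cases hli : l = i
        · rw [if_pos hli, if_pos (by simp [hli]), hli]; ring
        by_cases hlo : l = o
        · rw [if_neg hli, hlo, notMem_supp.1 fun h1 => ho (hvT h1)]; ring
        · rw [if_neg hli, if_neg (by simp [hli, hlo])]; ring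
      rw [Finset.sum_congr rfl fun l _ => e1 l, Finset.sum_add_distrib, h0, zero_add,
        Finset.sum_ite_eq', if_pos (Finset.mem_univ i)]
    rw [h1]
    exact mul_ne_zero h.two_a (neg_ne_zero.2 (mul_ne_zero h2
      (mul_ne_zero (mem_supp.1 hi) (mem_supp.1 hi))))
  have hA1 : ∀ x y, supp Q e a x ⊆ T → supp Q e a y ⊆ T → Q x = Q y → B v x = B v y → B v x ≠ 0 →
      Reach M e T x y := fun x y hx hy hq hb hb0 => by
    obtain ⟨k, hk⟩ := hA x y hx hy hq hb hb0
    exact ⟨u ^ k, pow_mem huM k, fun c hc => pow_fix (hout c hc) k, hk⟩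
  have hA2 : ∀ x y, supp Q e a x ⊆ T → supp Q e a y ⊆ T → Q x = Q y → B v' x = B v' y →
      B v' x ≠ 0 → Reach M e T x y := fun x y hx hy hq hb hb0 => by
    have hdB : ∀ z, B v (ap d z) = B v' z := fun z => by rw [hv', ← ap_b d v, hdd]
    obtain ⟨k, hk⟩ := hA (ap d x) (ap d y) (hdT x hx) (hdT y hy) (by rw [ap_q, ap_q, hq])
      (by rw [hdB, hdB, hb]) (by rwa [hdB])
    refine ⟨d * u ^ k * d, mul_mem (mul_mem hdM (pow_mem huM k)) hdM, fun c hc => ?_, ?_⟩
    · rw [ap_mul, ap_mul, h.sign_apply hd c, ap_smul, pow_fix (hout c hc) k, ap_smul,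
        h.sign_apply hd c, smul_smul]
      split_ifs <;> simp
    · rw [ap_mul, ap_mul, hk, hdd]
  obtain ⟨w₁, hw₁⟩ : ∃ w₁, w₁ = w - (B v' w / γ) • v := ⟨_, rfl⟩
  have hw₁T : supp Q e a w₁ ⊆ T := by
    rw [hw₁, sub_eq_add_neg, ← neg_smul]
    exact (supp_add_le _ _).trans (Finset.union_subset hwT ((supp_smul_le _ _).trans hvT))
  have hvw₁ : B v w₁ = 0 := by rw [hw₁, b_sub_right, b_smul_right, hvw, b_self, hQv]; ring
  have hv'w₁ : B v' w₁ = 0 := by
    rw [hw₁, b_sub_right, b_smul_right, b_comm v' v, hγ, div_mul_cancel₀ _ hγ0, sub_self]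
  obtain ⟨c₁, hc₁⟩ : ∃ c₁, Q w₁ = c₁ := ⟨_, rfl⟩
  have hc₁0 : c₁ ≠ 0 := by
    rw [← hc₁, hw₁, q_sub, q_smul, hQv, b_smul_right, b_comm w v, hvw]
    simpa using hQw
  let z : F → F → ι → F := fun β r =>
    ((N - c₁ * r * r) / β) • v + (β / γ) • v' + r • w₁
  have hzT : ∀ β r, supp Q e a (z β r) ⊆ T := fun β r =>
    (supp_add_le _ _).trans (Finset.union_subset ((supp_add_le _ _).trans (Finset.union_subset
      ((supp_smul_le _ _).trans hvT) ((supp_smul_le _ _).trans hv'T)))
      ((supp_smul_le _ _).trans hw₁T))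
  have hzq : ∀ β r, β ≠ 0 → Q (z β r) = N := fun β r hβ => by
    simp only [z, q_add, q_smul, b_add_left, b_smul_left, b_smul_right, hQv, hQv', hc₁, hγ, hvw₁,
      hv'w₁]
    field_simp
    ring
  have hzb : ∀ β r, B v (z β r) = β := fun β r => by
    simp only [z, b_add_right, b_smul_right, b_self, hQv, hvw₁, hγ, mul_zero, add_zero, zero_add,
      div_mul_cancel₀ _ hγ0]
  have hzb' : ∀ β r, B v' (z β r) = (N - c₁ * r * r) / β * γ := fun β r => by
    simp only [z, b_add_right, b_smul_right, b_self, hQv', hv'w₁, b_comm v' v, hγ]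
    ring
  have hcl : ∀ β r r', β ≠ 0 → Reach M e T (z β r) (z β r') := fun β r r' hβ =>
    hA1 _ _ (hzT β r) (hzT β r') (by rw [hzq β r hβ, hzq β r' hβ]) (by rw [hzb, hzb])
      (by rwa [hzb])
  have hstep : ∀ β l : F, β ≠ 0 → l ≠ 0 → l ≠ 1 → l ≠ -1 → Reach M e T (z β 0) (z (l * β) 0) := by
    intro β l hβ hl0 hl1 hl2
    obtain ⟨r, r', hr, hrr⟩ := exists_ratio h2 hc₁0 hN hl0 hl1 hl2
    have hlβ := mul_ne_zero hl0 hβ
    refine reach_trans (hcl β 0 r hβ) (reach_trans (hA2 _ (z (l * β) r') (hzT β r) (hzT _ r')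
      (by rw [hzq β r hβ, hzq _ r' hlβ]) ?_ ?_) (hcl _ r' 0 hlβ))
    · rw [hzb', hzb', hrr]; field_simp
    · rw [hzb']; exact mul_ne_zero (div_ne_zero hr hβ) hγ0
  have hall : ∀ β β' : F, β ≠ 0 → β' ≠ 0 → Reach M e T (z β 0) (z β' 0) := by
    intro β β' hβ hβ'
    obtain ⟨l, hl⟩ : ∃ l, l = β' / β := ⟨_, rfl⟩
    have hlb : β' = l * β := by rw [hl, div_mul_cancel₀ _ hβ]
    have hl0 : l ≠ 0 := by rw [hl]; exact div_ne_zero hβ' hβ
    by_cases h1 : l = 1
    · rw [hlb, h1, one_mul]; exact reach_refl _ _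
    by_cases h1' : l = -1
    · refine reach_trans (hstep β 2 hβ h2 ?_ ?_) ?_
      · intro e0; exact one_ne_zero (α := F) (by linear_combination e0)
      · intro e0; exact h3 (by linear_combination e0)
      have := hstep (2 * β) (-(2 : F)⁻¹) (mul_ne_zero h2 hβ) (neg_ne_zero.2 (inv_ne_zero h2)) ?_ ?_
      · rwa [show -(2 : F)⁻¹ * (2 * β) = β' by rw [hlb, h1']; field_simp] at this
      · intro e0
        have e1 := congrArg (fun t => t * 2) e0
        simp only [neg_mul, inv_mul_cancel₀ h2, one_mul] at e1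
        exact h3 (by linear_combination -e1)
      · intro e0
        have e1 := congrArg (fun t => t * 2) e0
        simp only [neg_mul, inv_mul_cancel₀ h2, one_mul] at e1
        exact one_ne_zero (α := F) (by linear_combination e1)
    · rw [hlb]; exact hstep β l hβ hl0 h1 h1'
  have hgen : ∀ x, supp Q e a x ⊆ T → Q x = N → B v x ≠ 0 → Reach M e T x (z 1 0) :=
    fun x hx hq hb => reach_trans
      (hA1 x (z (B v x) 0) hx (hzT _ 0) (by rw [hq, hzq _ 0 hb]) (hzb _ 0).symm hb)
      (hall _ 1 hb one_ne_zero)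
  have hgen' : ∀ x, supp Q e a x ⊆ T → Q x = N → B v' x ≠ 0 → Reach M e T x (z 1 0) := by
    intro x hx hq hb
    obtain ⟨β, hβ⟩ : ∃ β, β = γ * N / B v' x := ⟨_, rfl⟩
    have hβ0 : β ≠ 0 := by rw [hβ]; exact div_ne_zero (mul_ne_zero hγ0 hN) hb
    refine reach_trans (hA2 x (z β 0) hx (hzT β 0) (by rw [hq, hzq β 0 hβ0]) ?_ hb) (hall β 1 hβ0 one_ne_zero)
    rw [hzb', hβ]
    field_simp
    ring
  have hfull : ∀ x, supp Q e a x ⊆ T → Q x = N → Reach M e T x (z 1 0) := by
    intro x hx hq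
    by_cases hb : B v x = 0
    · by_cases hb' : B v' x = 0
      · obtain ⟨c, hc, hux⟩ := hB x hx hb (by rw [hq]; exact hN)
        refine reach_trans (⟨u, huM, hout, hux⟩ : Reach M e T x (x + c • v))
          (hgen' _ ((supp_add_le _ _).trans (Finset.union_subset hx ((supp_smul_le _ _).trans hvT)))
            (by rw [← hux, ap_q, hq]) ?_)
        rw [b_add_right, b_smul_right, hb', zero_add, b_comm, hγ]
        exact mul_ne_zero hc hγ0
      · exact hgen' x hx hq hb'
    · exact hgen x hx hq hb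
  exact reach_trans (hfull x hx hqx) (reach_symm (hfull y hy hqy))

end Over5

end CfsgLib.Orth.FiveMax
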